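import Cfsg.Agent.Lib.Geom.SiegelFull
import Mathlib.LinearAlgebra.Multilinear.Basic

/-!
A group of isometries of a tensor power of a symplectic space which contains the Siegel elements of all pairs of
pure tensors differing in one factor contains the whole commutator subgroup of the orthogonal group.
-/

set_option autoImplicit false
set_option linter.unusedSectionVars false

namespace CfsgLib.MaxSub.SpPowO

open CfsgLib.Geom CfsgLib.Classical
open QuadraticMap (polar)
open Function (update)

variable {F V A ι : Type*} [Field F] [AddCommGroup V] [Module F V] [AddCommGroup A] [Module F A]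
  [Fintype ι] [DecidableEq ι]

/-- a tensor power of a symplectic space as a quadratic space -/
structure PureSpace (Q : QuadraticForm F V) (A ι : Type*) [AddCommGroup A] [Module F A]
    [Fintype ι] [DecidableEq ι] where
  f : A →ₗ[F] A →ₗ[F] F
  alt : ∀ u, f u u = 0
  nd : ∀ u, (∀ v, f u v = 0) → u = 0
  vec : MultilinearMap F (fun _ : ι => A) V
  c : F
  hc : c ≠ 0
  polar_vec : ∀ x y : ι → A, polar Q (vec x) (vec y) = c * ∏ i, f (x i) (y i)
  q_vec : ∀ x, Q (vec x) = 0
  span : Submodule.span F (Set.range vec) = ⊤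

/-- the Siegel elements of the pairs of pure tensors differing in the factor `i` lie in the group -/
def PureSpace.PairAt {Q : QuadraticForm F V} (C : PureSpace Q A ι) (H : Subgroup (quadIsoms Q)) (i : ι) : Prop :=
  ∀ (y : ι → A) (u z : A), C.f u z = 0 ∨ Module.finrank F A = 2 →
    siegel Q (C.vec (update y i u)) (C.vec (update y i z)) ∈ H

/-- the data of the closing step -/
structure PurePairs (Q : QuadraticForm F V) (H : Subgroup (quadIsoms Q)) (A ι : Type*) [AddCommGroup A] [Module F A]
    [Fintype ι] [DecidableEq ι] extends PureSpace Q A ι where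
  pair : ∀ i, toPureSpace.PairAt H i

namespace PureSpace

variable {Q : QuadraticForm F V} {H : Subgroup (quadIsoms Q)} (C : PureSpace Q A ι)

theorem swap (u v : A) : C.f v u = -C.f u v := by
  have h := C.alt (u + v)
  simp only [map_add, LinearMap.add_apply, C.alt, zero_add, add_zero] at h
  exact eq_neg_of_add_eq_zero_left h

theorem exists_one {u : A} (hu : u ≠ 0) : ∃ v, C.f u v = 1 := by
  by_contra h
  push Not at h
  refine hu (C.nd u fun v => ?_)
  by_contra hv
  exact h ((C.f u v)⁻¹ • v) (by rw [map_smul, smul_eq_mul, inv_mul_cancel₀ hv])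

/-- a vector orthogonal to `w`, not to `v` -/
theorem exists_sep {v w : A} (hv : ∀ l : F, v ≠ l • w) : ∃ x, C.f x w = 0 ∧ C.f x v ≠ 0 := by
  by_contra h
  push Not at h
  rcases eq_or_ne w 0 with rfl | hw
  · obtain ⟨x, hx⟩ := C.exists_one (u := v) fun e => hv 0 (by rw [e, smul_zero])
    have := h x (map_zero _)
    rw [C.swap v x, hx] at this
    exact one_ne_zero (neg_eq_zero.1 this)
  obtain ⟨e, he⟩ := C.exists_one hw
  refine hv (C.f v e) (sub_eq_zero.1 (C.nd _ fun x => ?_))
  have h1 := h (x - C.f w x • e) (by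
    simp [C.swap w x, C.swap w e, he])
  simp only [map_sub, map_smul, LinearMap.sub_apply, LinearMap.smul_apply, smul_eq_mul, C.swap v x,
    C.swap v e] at h1
  simp only [map_sub, map_smul, LinearMap.sub_apply, LinearMap.smul_apply, smul_eq_mul]
  linear_combination -h1

theorem finrank_two_of_lt [FiniteDimensional F A] {u : A} (hu : u ≠ 0)
    (h : ∀ v, C.f v u = 0 → ∃ l : F, v = l • u) : Module.finrank F A = 2 := by
  obtain ⟨e, he⟩ := C.exists_one hu
  have hli : LinearIndependent F ![u, e] := (LinearIndependent.pair_iff' hu).2 fun l hl => by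
    rw [← hl, map_smul, C.alt, smul_zero] at he
    exact zero_ne_one he
  have hsp : (⊤ : Submodule F A) ≤ Submodule.span F (Set.range ![u, e]) := fun x _ => by
    obtain ⟨l, hl⟩ := h (x - C.f u x • e) (by simp [C.swap u x, C.swap u e, he])
    rw [sub_eq_iff_eq_add.1 hl]
    exact add_mem (Submodule.smul_mem _ _ (Submodule.subset_span ⟨0, rfl⟩))
      (Submodule.smul_mem _ _ (Submodule.subset_span ⟨1, rfl⟩))
  simpa using Module.finrank_eq_card_basis (Module.Basis.mk hli hsp)

/-- a vector off the line of `u` which may be paired with it -/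
theorem exists_off [FiniteDimensional F A] {u : A} (hu : u ≠ 0) :
    ∃ v, (∀ l : F, v ≠ l • u) ∧ (C.f u v = 0 ∨ Module.finrank F A = 2) := by
  by_cases h : ∀ v, C.f v u = 0 → ∃ l : F, v = l • u
  · obtain ⟨e, he⟩ := C.exists_one hu
    refine ⟨e, fun l hl => ?_, Or.inr (C.finrank_two_of_lt hu h)⟩
    rw [hl, map_smul, C.alt, smul_zero] at he
    exact zero_ne_one he
  · push Not at h
    obtain ⟨v, hv, hv'⟩ := h
    exact ⟨v, hv', Or.inl (by rw [C.swap v u, hv, neg_zero])⟩

theorem perp_line [FiniteDimensional F A] (h2 : Module.finrank F A = 2) {u x : A} (hu : u ≠ 0) (hx : C.f x u = 0) :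
    ∃ l : F, x = l • u := by
  by_contra h
  push Not at h
  have hli : LinearIndependent F ![u, x] := (LinearIndependent.pair_iff' hu).2 fun l hl => h l hl.symm
  have htop := hli.span_eq_top_of_card_eq_finrank' (by simpa using h2.symm)
  obtain ⟨e, he⟩ := C.exists_one hu
  have : (⊤ : Submodule F A) ≤ LinearMap.ker (C.f u) := htop ▸ Submodule.span_le.2 (by
    rintro _ ⟨r, rfl⟩
    fin_cases r
    · exact C.alt u
    · show C.f u x = 0
      rw [C.swap x u, hx, neg_zero])
  exact zero_ne_one ((this (Submodule.mem_top : e ∈ ⊤) : C.f u e = 0).symm.trans he)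

theorem polar_zero {x y : ι → A} (m : ι) (h : C.f (x m) (y m) = 0) : polar Q (C.vec x) (C.vec y) = 0 := by
  rw [C.polar_vec, Finset.prod_eq_zero (Finset.mem_univ m) h, mul_zero]

/-- the vectors whose lines give members of `H` at a pure tensor -/
def dir (H : Subgroup (quadIsoms Q)) (a : ι → A) : Submodule F V where
  carrier := {w | polar Q (C.vec a) w = 0 ∧ ∀ l : F, siegel Q (C.vec a) (l • w) ∈ H}
  add_mem' := fun {w w'} hw hw' => ⟨by rw [QuadraticMap.polar_add_right, hw.1, hw'.1, add_zero], fun l => by
    rw [smul_add, siegel_add Q (C.q_vec a) (by rw [QuadraticMap.polar_smul_right, hw.1, smul_zero])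
      (by rw [QuadraticMap.polar_smul_right, hw'.1, smul_zero])]
    exact mul_mem (hw.2 l) (hw'.2 l)⟩
  zero_mem' := ⟨QuadraticMap.polar_zero_right _ _, fun l => by
    rw [smul_zero, siegel_zero]; exact one_mem H⟩
  smul_mem' := fun c w hw => ⟨by rw [QuadraticMap.polar_smul_right, hw.1, smul_zero], fun l => by
    rw [smul_smul]; exact hw.2 _⟩

theorem vec_update_sub (y : ι → A) (i : ι) (x x' : A) :
    C.vec (update y i x) = C.vec (update y i (x + x')) - C.vec (update y i x') := by
  rw [C.vec.map_update_add, add_sub_cancel_right]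

/-- a member of `H` moving a known vector gains a new one -/
theorem dir_gain {a : ι → A} {r s w : V} (hg : siegel Q r s ∈ H) (hQr : Q r = 0) (hQs : Q s = 0)
    (hrs : polar Q r s = 0) (hrp : polar Q r (C.vec a) = 0) (hsp : polar Q s (C.vec a) = 0) (hsw : polar Q s w = 0)
    (hrw : polar Q r w ≠ 0) (hb : w ∈ C.dir H a) : s ∈ C.dir H a := by
  have hfix : (siegel Q r s).1 (C.vec a) = C.vec a := by
    rw [siegel_apply Q hQr hrs, hrp, hsp, hQs]; simp
  have hmove : (siegel Q r s).1 w = w + polar Q r w • s := by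
    rw [siegel_apply Q hQr hrs, hsw, hQs]; simp
  have hgw : w + polar Q r w • s ∈ C.dir H a := by
    refine ⟨?_, fun l => ?_⟩
    · rw [← hmove, ← hfix, OrthSub.polar_map]; exact hb.1
    · have h2 : siegel Q r s * siegel Q (C.vec a) (l • w) * (siegel Q r s)⁻¹ ∈ H :=
        mul_mem (mul_mem hg (hb.2 l)) (inv_mem hg)
      rwa [siegel_conj, map_smul, hfix, hmove] at h2
  have h3 := sub_mem hgw hb
  rw [add_sub_cancel_left] at h3
  have h4 := (C.dir H a).smul_mem (polar Q r w)⁻¹ h3
  rwa [inv_smul_smul₀ hrw] at h4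

/-- two factors: the pairs of one factor give those of the other one -/
theorem pairAt_of_other [FiniteDimensional F A] (hA : Module.finrank F A ≠ 2) (h2 : Fintype.card ι = 2) {i₀ : ι}
    (h : C.PairAt H i₀) (i : ι) : C.PairAt H i := by
  rcases eq_or_ne i i₀ with rfl | hi
  · exact h
  have hall : ∀ j, j = i₀ ∨ j = i := fun j => by
    by_contra hj
    push Not at hj
    have := Finset.card_le_univ ({j, i₀, i} : Finset ι)
    rw [Finset.card_insert_of_notMem (by simp [hj.1, hj.2]), Finset.card_pair hi.symm, h2] at this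
    omega
  suffices key : ∀ (x : ι → A) (z : A), x i₀ ≠ 0 → x i ≠ 0 → C.vec (update x i z) ∈ C.dir H x by
    intro y u z _
    rcases eq_or_ne (y i₀) 0 with h0 | h0
    · rw [C.vec.map_coord_zero (m := update y i z) i₀ (by rwa [Function.update_of_ne hi.symm]), siegel_zero]
      exact one_mem H
    rcases eq_or_ne u 0 with rfl | hu
    · have : siegel Q (C.vec (update y i 0)) (C.vec (update y i z)) = 1 := by
        rw [C.vec.map_coord_zero (m := update y i 0) i (Function.update_self _ _ _)]
        refine quadIsoms_ext Q fun x => ?_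
        rw [siegel_apply Q (QuadraticMap.map_zero _) (QuadraticMap.polar_zero_left _ _)]
        simp
      rw [this]; exact one_mem H
    have := (key (update y i u) z (by rwa [Function.update_of_ne hi.symm]) (by rwa [Function.update_self])).2 1
    rwa [Function.update_idem, one_smul] at this
  intro x z hx0 hxi
  have core : ∀ z, C.f z (x i) ≠ 0 → C.vec (update x i z) ∈ C.dir H x := by
    intro z hz
    obtain ⟨v, hv, hv'⟩ := C.exists_off hx0
    replace hv' := hv'.resolve_right hA
    have hb : C.vec (update x i₀ v) ∈ C.dir H x := by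
      refine ⟨C.polar_zero i₀ (by rw [Function.update_self]; exact hv'), fun l => ?_⟩
      have := h x (x i₀) (l • v) (Or.inl (by rw [map_smul, hv', smul_zero]))
      rwa [Function.update_eq_self, C.vec.map_update_smul] at this
    obtain ⟨u, hu, hu'⟩ := C.exists_sep (v := v) (w := x i₀) hv
    have hg := h (update x i z) u (x i₀) (Or.inl hu)
    have e : update (update x i z) i₀ (x i₀) = update x i z := by
      funext j
      rcases eq_or_ne j i₀ with rfl | hj
      · simp [Function.update_of_ne hi.symm]
      · simp [hj]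
    rw [e] at hg
    refine C.dir_gain hg (C.q_vec _) (C.q_vec _)
      (C.polar_zero i₀ (by rw [Function.update_self, Function.update_of_ne hi.symm]; exact hu))
      (C.polar_zero i₀ (by rw [Function.update_self]; exact hu))
      (C.polar_zero i₀ (by rw [Function.update_of_ne hi.symm, C.alt]))
      (C.polar_zero i₀ (by rw [Function.update_of_ne hi.symm, Function.update_self]; exact hv')) ?_ hb
    rw [C.polar_vec]
    refine mul_ne_zero C.hc (Finset.prod_ne_zero_iff.2 fun j _ => ?_)
    rcases hall j with rfl | rfl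
    · simpa using hu'
    · simpa [Function.update_of_ne hi] using hz
  by_cases hz : C.f z (x i) = 0
  · obtain ⟨e, he⟩ := C.exists_one hxi
    have he' : C.f e (x i) ≠ 0 := by rw [C.swap (x i) e, he]; exact neg_ne_zero.2 one_ne_zero
    rw [C.vec_update_sub x i z e]
    exact sub_mem (core _ (by rw [map_add, LinearMap.add_apply, hz, zero_add]; exact he')) (core _ he')
  · exact core z hz

end PureSpace

namespace PurePairs

variable {Q : QuadraticForm F V} {H : Subgroup (quadIsoms Q)} (C : PurePairs Q H A ι)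

/-- a known vector gains another one differing from a move in one factor -/
theorem gain_core {a b y : ι → A} {m i : ι} (hmi : m ≠ i) {u : A} (hu : C.f u (y i) = 0 ∨ Module.finrank F A = 2)
    (hm : C.f (y m) (a m) = 0) (hi : C.f (y i) (b i) = 0) (hne : ∀ j, C.f (update y i u j) (b j) ≠ 0)
    (hb : C.vec b ∈ C.dir H a) : C.vec y ∈ C.dir H a := by
  have hg := C.pair i y u (y i) hu
  rw [Function.update_eq_self] at hg
  have hum : update y i u m = y m := Function.update_of_ne hmi _ _
  refine C.dir_gain hg (C.q_vec _) (C.q_vec _) (C.polar_zero m (by rw [hum, C.alt]))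
    (C.polar_zero m (by rw [hum, hm])) (C.polar_zero m hm) (C.polar_zero i hi) ?_ hb
  rw [C.polar_vec]
  exact mul_ne_zero C.hc (Finset.prod_ne_zero_iff.2 fun j _ => hne j)

variable [FiniteDimensional F A]

/-- a known vector gives all those orthogonal to it in one factor and to the centre in another one -/
theorem gain {a b : ι → A} {m i : ι} (hmi : m ≠ i) (hb0 : ∀ j, b j ≠ 0) (hbm : ∀ l : F, b m ≠ l • a m)
    (hb : C.vec b ∈ C.dir H a) {y : ι → A} (hm : C.f (y m) (a m) = 0) (hi : C.f (y i) (b i) = 0) :
    C.vec y ∈ C.dir H a := by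
  obtain ⟨P, hP⟩ : ∃ P : ι → A → Prop, P = fun j x => (j ≠ i → C.f x (b j) ≠ 0) ∧
      (j = i → Module.finrank F A = 2 ∨ ∀ l : F, x ≠ l • b j) := ⟨_, rfl⟩
  obtain ⟨L, hL⟩ : ∃ L : ι → A → Prop, L = fun j x => (j = m → C.f x (a j) = 0) ∧
      (j = i → C.f x (b j) = 0) := ⟨_, rfl⟩
  -- each factor is spanned by good vectors
  have hex : ∀ j x, L j x → ¬ P j x → ∃ x₀, L j x₀ ∧ P j x₀ ∧ L j (x + x₀) ∧ P j (x + x₀) := by
    intro j x hx hPx
    rw [hL] at hx ⊢
    rw [hP] at hPx ⊢
    rcases eq_or_ne j i with rfl | hji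
    · have hne : Module.finrank F A ≠ 2 := fun h => hPx ⟨fun h' => absurd rfl h', fun _ => Or.inl h⟩
      obtain ⟨x₀, h0, h0'⟩ := C.exists_off (hb0 j)
      replace h0' : C.f x₀ (b j) = 0 := by rw [C.swap (b j) x₀, h0'.resolve_right hne, neg_zero]
      obtain ⟨l, rfl⟩ : ∃ l : F, x = l • b j := by
        by_contra h
        push Not at h
        exact hPx ⟨fun h' => absurd rfl h', fun _ => Or.inr h⟩
      refine ⟨x₀, ⟨fun h => absurd h hmi.symm, fun _ => h0'⟩, ⟨fun h' => absurd rfl h', fun _ => Or.inr h0⟩,
        ⟨fun h => absurd h hmi.symm, fun _ => by rw [map_add, LinearMap.add_apply, hx.2 rfl, h0', add_zero]⟩,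
        ⟨fun h' => absurd rfl h', fun _ => Or.inr fun l' h => h0 (l' - l) ?_⟩⟩
      rw [sub_smul, ← h, add_sub_cancel_left]
    · have h0 : C.f x (b j) = 0 := by
        by_contra h
        exact hPx ⟨fun _ => h, fun h' => absurd h' hji⟩
      obtain ⟨x₀, h1, h2⟩ : ∃ x₀, (j = m → C.f x₀ (a j) = 0) ∧ C.f x₀ (b j) ≠ 0 := by
        rcases eq_or_ne j m with rfl | hjm
        · obtain ⟨x₀, h1, h2⟩ := C.exists_sep hbm
          exact ⟨x₀, fun _ => h1, h2⟩
        · obtain ⟨x₀, h2⟩ := C.exists_one (hb0 j)
          exact ⟨x₀, fun h => absurd h hjm, by rw [C.swap (b j) x₀, h2]; exact neg_ne_zero.2 one_ne_zero⟩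
      refine ⟨x₀, ⟨h1, fun h => absurd h hji⟩, ⟨fun _ => h2, fun h => absurd h hji⟩,
        ⟨fun h => by rw [map_add, LinearMap.add_apply, hx.1 h, h1 h, add_zero], fun h => absurd h hji⟩,
        ⟨fun _ => by rwa [map_add, LinearMap.add_apply, h0, zero_add], fun h => absurd h hji⟩⟩
  suffices key : ∀ (S : Finset ι) (y : ι → A), (∀ j, L j (y j)) → (∀ j ∉ S, P j (y j)) → C.vec y ∈ C.dir H a by
    refine key Finset.univ y (fun j => ?_) fun j hj => absurd (Finset.mem_univ j) hj
    rw [hL]
    exact ⟨fun h => h ▸ hm, fun h => h ▸ hi⟩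
  intro S
  induction S using Finset.induction_on with
  | empty =>
    intro y hy hPy
    have hPi := hPy i (Finset.notMem_empty i)
    rw [hP] at hPi
    rw [hL] at hy
    obtain ⟨u, hu, hub⟩ : ∃ u, (C.f u (y i) = 0 ∨ Module.finrank F A = 2) ∧ C.f u (b i) ≠ 0 := by
      rcases hPi.2 rfl with h | h
      · obtain ⟨u, hu⟩ := C.exists_one (hb0 i)
        exact ⟨u, Or.inr h, by rw [C.swap (b i) u, hu]; exact neg_ne_zero.2 one_ne_zero⟩
      · rcases eq_or_ne (y i) 0 with h0 | h0
        · exact absurd h0 (by simpa using h 0)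
        obtain ⟨u, hu, hu'⟩ := C.exists_sep (v := b i) (w := y i) fun l hl => by
          rcases eq_or_ne l 0 with rfl | hl0
          · exact hb0 i (by rw [hl, zero_smul])
          · exact h l⁻¹ (by rw [hl, inv_smul_smul₀ hl0])
        exact ⟨u, Or.inl hu, hu'⟩
    refine C.gain_core hmi hu ((hy m).1 rfl) ((hy i).2 rfl) (fun j => ?_) hb
    rcases eq_or_ne j i with rfl | hji
    · rwa [Function.update_self]
    · rw [Function.update_of_ne hji]
      have hPj := hPy j (Finset.notMem_empty j)
      rw [hP] at hPj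
      exact hPj.1 hji
  | insert j S hjS ih =>
    intro y hy hPy
    by_cases hj : P j (y j)
    · exact ih y hy fun k hk => by
        rcases eq_or_ne k j with rfl | hkj
        · exact hj
        · exact hPy k (by simp [hkj, hk])
    obtain ⟨x₀, h1, h2, h3, h4⟩ := hex j (y j) (hy j) hj
    have h5 : ∀ x, L j x → P j x → C.vec (update y j x) ∈ C.dir H a := fun x hx hx' => by
      refine ih _ (fun k => ?_) fun k hk => ?_
      · rcases eq_or_ne k j with rfl | hkj
        · rwa [Function.update_self]
        · rw [Function.update_of_ne hkj]; exact hy k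
      · rcases eq_or_ne k j with rfl | hkj
        · rwa [Function.update_self]
        · rw [Function.update_of_ne hkj]; exact hPy k (by simp [hkj, hk])
    have h6 := sub_mem (h5 _ h3 h4) (h5 _ h1 h2)
    rwa [← C.vec_update_sub, Function.update_eq_self] at h6

/-- two factors orthogonal to those of the centre -/
theorem two {a : ι → A} (ha : ∀ j, a j ≠ 0) {n i : ι} (hni : n ≠ i) {y : ι → A} (hn : C.f (y n) (a n) = 0)
    (hi : C.f (y i) (a i) = 0) : C.vec y ∈ C.dir H a := by
  obtain ⟨v, hv, hv'⟩ := C.exists_off (ha n)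
  have hb : C.vec (update a n v) ∈ C.dir H a := by
    refine ⟨C.polar_zero i (by rw [Function.update_of_ne hni.symm, C.alt]), fun l => ?_⟩
    have := C.pair n a (a n) (l • v) (hv'.imp_left fun h => by rw [map_smul, h, smul_zero])
    rwa [Function.update_eq_self, C.vec.map_update_smul] at this
  refine C.gain hni (fun j => ?_) (by simpa using hv) hb hn (by rwa [Function.update_of_ne hni.symm])
  rcases eq_or_ne j n with rfl | hj
  · rw [Function.update_self]; exact fun e => hv 0 (by rw [e, zero_smul])
  · rw [Function.update_of_ne hj]; exact ha j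

/-- one factor orthogonal to that of the centre -/
theorem one (ht : 2 ≤ Fintype.card ι) (h4 : Module.finrank F A = 2 → 4 ≤ Fintype.card ι) {a : ι → A}
    (ha : ∀ j, a j ≠ 0) {n : ι} {y : ι → A} (hn : C.f (y n) (a n) = 0) : C.vec y ∈ C.dir H a := by
  obtain ⟨i, hin⟩ := Fintype.exists_ne_of_one_lt_card (by omega) n
  rcases eq_or_ne (y i) 0 with h0 | h0
  · rw [C.vec.map_coord_zero i h0]; exact zero_mem _
  obtain ⟨v, hv, hv'⟩ := C.exists_off (ha n)
  have hv0 : v ≠ 0 := fun e => hv 0 (by rw [e, zero_smul])
  -- the vectors of the second step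
  have step : ∀ x : A, x ≠ 0 → C.vec (update (update a n v) i x) ∈ C.dir H a → ∀ z : ι → A,
      C.f (z n) (a n) = 0 → C.f (z i) x = 0 → C.vec z ∈ C.dir H a := by
    intro x hx hb z hzn hzi
    refine C.gain hin.symm (fun j => ?_) (by simpa [Function.update_of_ne hin.symm] using hv) hb hzn
      (by rwa [Function.update_self])
    rcases eq_or_ne j i with rfl | hji
    · rwa [Function.update_self]
    rw [Function.update_of_ne hji]
    rcases eq_or_ne j n with rfl | hjn
    · rwa [Function.update_self]
    · rw [Function.update_of_ne hjn]; exact ha j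
  rcases hv' with hv' | h2
  · have hperp : ∀ x, C.f x (a i) = 0 → C.vec (update (update a n v) i x) ∈ C.dir H a := fun x hx =>
      C.two ha hin.symm (by simp [Function.update_of_ne hin.symm, C.swap (a n) v, hv'])
        (by simpa using hx)
    by_cases h2 : Module.finrank F A = 2
    · obtain ⟨l, hl⟩ := C.perp_line h2 (ha n) (by rw [C.swap (a n) v, hv', neg_zero])
      exact absurd hl (hv l)
    obtain ⟨x, hx, hx'⟩ := C.exists_off (ha i)
    replace hx' : C.f x (a i) = 0 := by rw [C.swap (a i) x, hx'.resolve_right h2, neg_zero]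
    have hx0 : x ≠ 0 := fun e => hx 0 (by rw [e, zero_smul])
    obtain ⟨e, he, he'⟩ := C.exists_sep (v := a i) (w := x) fun l hl => by
      rcases eq_or_ne l 0 with rfl | hl0
      · exact ha i (by rw [hl, zero_smul])
      · exact hx l⁻¹ (by rw [hl, inv_smul_smul₀ hl0])
    obtain ⟨l, hl⟩ : ∃ l : F, C.f (y i - l • e) (a i) = 0 :=
      ⟨C.f (y i) (a i) / C.f e (a i), by simp [div_mul_cancel₀ _ he']⟩
    have h1 : C.vec (update y i (y i - l • e)) ∈ C.dir H a :=
      step (a i) (ha i) (hperp _ (C.alt _)) _ (by rwa [Function.update_of_ne hin.symm]) (by simpa using hl)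
    have h3 : C.vec (update y i (l • e)) ∈ C.dir H a :=
      step x hx0 (hperp _ hx') _ (by rwa [Function.update_of_ne hin.symm]) (by simp [he])
    have h6 := add_mem h1 h3
    rwa [← C.vec.map_update_add, sub_add_cancel, Function.update_eq_self] at h6
  · obtain ⟨i', hi', m', hm', hne⟩ : ∃ i', (i' ≠ n ∧ i' ≠ i) ∧ ∃ m', (m' ≠ n ∧ m' ≠ i) ∧ i' ≠ m' := by
      have hcard := h4 h2
      obtain ⟨i', hi', m', hm', hne⟩ := Finset.one_lt_card.1
        (show 1 < ((Finset.univ.erase n).erase i).card by
          rw [Finset.card_erase_of_mem (by simp [hin]), Finset.card_erase_of_mem (Finset.mem_univ n),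
            Finset.card_univ]
          omega)
      simp only [Finset.mem_erase, Finset.mem_univ, and_true] at hi' hm'
      exact ⟨i', hi'.symm, m', hm'.symm, hne⟩
    refine step (y i) h0 (C.two ha hne ?_ ?_) y hn (C.alt _)
    · simp [Function.update_of_ne hi'.2, Function.update_of_ne hi'.1, C.alt]
    · simp [Function.update_of_ne hm'.2, Function.update_of_ne hm'.1, C.alt]

/-- all Siegel elements at a pure tensor -/
theorem full (ht : 2 ≤ Fintype.card ι) (h4 : Module.finrank F A = 2 → 4 ≤ Fintype.card ι) {a : ι → A}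
    (ha : ∀ j, a j ≠ 0) : OrthSub.Full H (C.vec a) := by
  choose e he using fun j => C.exists_one (ha j)
  have hall : (⊤ : Submodule F V) ≤ C.dir H a ⊔ Submodule.span F {C.vec e} := by
    rw [← C.span, Submodule.span_le]
    rintro _ ⟨y, rfl⟩
    suffices key : ∀ (S : Finset ι) (y : ι → A), (∀ j ∉ S, y j = e j ∨ C.f (y j) (a j) = 0) →
        C.vec y ∈ C.dir H a ⊔ Submodule.span F {C.vec e} from
      key Finset.univ y fun j hj => absurd (Finset.mem_univ j) hj
    intro S
    induction S using Finset.induction_on with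
    | empty =>
      intro y hy
      by_cases h : ∀ j, y j = e j
      · rw [funext h]
        exact Submodule.mem_sup_right (Submodule.mem_span_singleton_self _)
      · push Not at h
        obtain ⟨j, hj⟩ := h
        exact Submodule.mem_sup_left
          (C.one ht h4 ha ((hy j (Finset.notMem_empty j)).resolve_left hj))
    | insert j S hjS ih =>
      intro y hy
      have h5 : ∀ x, (x = e j ∨ C.f x (a j) = 0) →
          C.vec (update y j x) ∈ C.dir H a ⊔ Submodule.span F {C.vec e} := fun x hx => by
        refine ih _ fun k hk => ?_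
        rcases eq_or_ne k j with rfl | hkj
        · rwa [Function.update_self]
        · rw [Function.update_of_ne hkj]; exact hy k (by simp [hkj, hk])
      have h6 := add_mem (h5 (y j - C.f (a j) (y j) • e j) (Or.inr (by
        simp [C.swap (a j) (y j), C.swap (a j) (e j), he j])))
        (Submodule.smul_mem _ (C.f (a j) (y j)) (h5 (e j) (Or.inl rfl)))
      rwa [← C.vec.map_update_smul, ← C.vec.map_update_add, sub_add_cancel, Function.update_eq_self] at h6
  intro w hw
  obtain ⟨d, hd, z, hz, rfl⟩ := Submodule.mem_sup.1 (hall (Submodule.mem_top : w ∈ ⊤))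
  obtain ⟨l, rfl⟩ := Submodule.mem_span_singleton.1 hz
  rw [QuadraticMap.polar_add_right, hd.1, QuadraticMap.polar_smul_right, C.polar_vec,
    Finset.prod_eq_one fun j _ => he j, mul_one, zero_add, smul_eq_mul, mul_eq_zero] at hw
  rw [hw.resolve_right C.hc, zero_smul, add_zero]
  simpa using hd.2 1

include C in
/-- **closing** -/
theorem commutator_le [Finite F] [FiniteDimensional F V] (hsep : ∀ x, (∀ y, polar Q x y = 0) → x = 0)
    (h5 : 5 ≤ Module.finrank F V) (hA : 0 < Module.finrank F A) (ht : 2 ≤ Fintype.card ι)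
    (h4 : Module.finrank F A = 2 → 4 ≤ Fintype.card ι) : commutator (quadIsoms Q) ≤ H := by
  haveI := Module.finrank_pos_iff.1 hA
  obtain ⟨a₀, ha₀⟩ := exists_ne (0 : A)
  obtain ⟨e₀, he₀⟩ := C.exists_one ha₀
  have he0 : e₀ ≠ 0 := fun h => by rw [h, map_zero] at he₀; exact zero_ne_one he₀
  refine OrthSub.commutator_le_of_pair hsep h5 (C.full ht h4 (a := fun _ => a₀) fun _ => ha₀)
    (C.full ht h4 (a := fun _ => e₀) fun _ => he0) (C.q_vec _) (C.q_vec _) ?_
  rw [C.polar_vec, Finset.prod_eq_one fun _ _ => he₀, mul_one]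
  exact C.hc

end PurePairs

end CfsgLib.MaxSub.SpPowO
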