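import Cfsg.Agent.Lib.MaxSub.SpPowO.Pairs
import Cfsg.Agent.Lib.MaxSub.SpPowO.Close

/-!
The operators of a tensor power of a symplectic space acting on the quadratic space: a group with large centres
contains the commutator subgroup of the orthogonal group.
-/

set_option autoImplicit false
set_option linter.unusedSectionVars false

namespace CfsgLib.MaxSub.SpPowO

open CfsgLib.MaxSub.SpPow CfsgLib.Geom CfsgLib.Classical
open QuadraticMap (polar)
open Function (update)

variable {F V A R ι κ : Type*} [Field F] [AddCommGroup V] [Module F V] [AddCommGroup A] [Module F A] [Ring R]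
  [Algebra F R] [Fintype κ] [Fintype ι] [DecidableEq ι]

/-- the operators act on the pure tensors of the quadratic space -/
structure Acts (T : Sys F A R ι κ) {Q : QuadraticForm F V} (C : PureSpace Q A ι) (ρ : R →ₐ[F] Module.End F V) :
    Prop where
  feq : C.f = T.f
  E_vec : ∀ l u v a, ρ (T.E l u v) (C.vec a) = T.f (a l) v • C.vec (update a l u)

variable {T : Sys F A R ι κ} {Q : QuadraticForm F V} {C : PureSpace Q A ι} {ρ : R →ₐ[F] Module.End F V}

/-- a monomial of root elements on a pure tensor -/
theorem Acts.mono_vec (h : Acts T C ρ) (y : ι → A) (S : Finset ι) (a : ι → A) :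
    ρ (T.tens (pv T fun m => if m ∈ S then Sl.nn (y m) (y m) else Sl.one)) (C.vec a) =
      (∏ m ∈ S, T.f (a m) (y m)) • C.vec (fun m => if m ∈ S then y m else a m) := by
  induction S using Finset.induction_on with
  | empty =>
    have e : (pv T fun m => if m ∈ (∅ : Finset ι) then Sl.nn (y m) (y m) else Sl.one) = 1 := by
      funext m; simp [pv, Sys.op]
    rw [e, map_one, map_one]
    simp
  | insert l S hl ih =>
    have e : (fun m => if m ∈ insert l S then Sl.nn (y m) (y m) else Sl.one) =
        update (fun m => if m ∈ S then Sl.nn (y m) (y m) else Sl.one) l (Sl.nn (y l) (y l)) := by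
      funext m; rcases eq_or_ne m l with rfl | hm <;> simp [*]
    rw [e, pv_update, Sys.tens_update]
    rw [← pv_one (T := T) (s := fun m => if m ∈ S then Sl.nn (y m) (y m) else Sl.one) (l := l) (if_neg hl),
      Function.update_eq_self, map_mul]
    show ρ (T.E l (y l) (y l)) (ρ _ (C.vec a)) = _
    rw [ih, map_smul, h.E_vec, if_neg hl, smul_smul, Finset.prod_insert hl, mul_comm]
    congr 2
    funext m
    rcases eq_or_ne m l with rfl | hm <;> simp [*]

/-- a long root element is a Siegel transformation -/
theorem Acts.long_vec (h : Acts T C ρ) (y : ι → A) (l : ι) (u z : A) (x : V) :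
    ρ (T.xop l u z * rest T y l) x = C.c⁻¹ • (polar Q x (C.vec (update y l z)) • C.vec (update y l u) -
      polar Q x (C.vec (update y l u)) • C.vec (update y l z)) := by
  have hx : x ∈ Submodule.span F (Set.range C.vec) := C.span ▸ Submodule.mem_top
  induction hx using Submodule.span_induction with
  | zero => simp
  | add a b _ _ ha hb =>
    rw [map_add, ha, hb, QuadraticMap.polar_add_left, QuadraticMap.polar_add_left]
    module
  | smul c a _ ha =>
    rw [map_smul, ha, QuadraticMap.polar_smul_left, QuadraticMap.polar_smul_left]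
    simp only [smul_eq_mul]
    module
  | mem x hx =>
    obtain ⟨a, rfl⟩ := hx
    have e : restSl y l = fun m => if m ∈ Finset.univ.erase l then Sl.nn (y m) (y m) else Sl.one := by
      funext m; rcases eq_or_ne m l with rfl | hm <;> simp [restSl, *]
    have evec : ∀ w : A, update (fun m => if m ∈ Finset.univ.erase l then y m else a m) l w = update y l w := fun w => by
      funext m; rcases eq_or_ne m l with rfl | hm <;> simp [*]
    have epol : ∀ w : A, polar Q (C.vec a) (C.vec (update y l w)) =
        C.c * (T.f (a l) w * ∏ m ∈ Finset.univ.erase l, T.f (a m) (y m)) := fun w => by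
      rw [C.polar_vec, h.feq, ← Finset.mul_prod_erase _ _ (Finset.mem_univ l), Function.update_self]
      congr 2
      exact Finset.prod_congr rfl fun m hm => by rw [Function.update_of_ne (Finset.ne_of_mem_erase hm)]
    rw [map_mul, rest, e]
    show ρ (T.xop l u z) (ρ _ (C.vec a)) = _
    rw [h.mono_vec, map_smul, Sys.xop, map_sub, LinearMap.sub_apply, h.E_vec, h.E_vec, evec, evec, epol, epol,
      if_neg (Finset.notMem_erase l _)]
    simp only [smul_sub, smul_smul]
    congr 1 <;> congr 1 <;> field_simp [C.hc]

variable {H : Subgroup Rˣ} {K : Subgroup (quadIsoms Q)}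

/-- long root elements give the pairs -/
theorem Acts.pairAt (h : Acts T C ρ) (ht : 2 ≤ Fintype.card ι)
    (hK : ∀ g ∈ H, ∀ k : quadIsoms Q, (∀ x, ρ ((g : Rˣ) : R) x = k.1 x) → k ∈ K) {l : ι}
    (hl : ∀ (y : ι → A) (u z : A), T.f u z = 0 ∨ Module.finrank F A = 2 → InL F H (T.xop l u z * rest T y l)) :
    C.PairAt K l := by
  intro y u z huz
  rw [h.feq] at huz
  obtain ⟨g, hg, hgv⟩ := hl y u z huz (-C.c)
  obtain ⟨m, hm⟩ := Fintype.exists_ne_of_one_lt_card (by omega) l
  have hrs : polar Q (C.vec (update y l u)) (C.vec (update y l z)) = 0 :=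
    C.polar_zero m (by rw [Function.update_of_ne hm, Function.update_of_ne hm, C.alt])
  refine hK g hg _ fun x => ?_
  rw [hgv, map_add, map_one, map_smul, siegel_apply Q (C.q_vec _) hrs, C.q_vec, LinearMap.add_apply,
    LinearMap.smul_apply, Module.End.one_apply, h.long_vec, QuadraticMap.polar_comm _ x, QuadraticMap.polar_comm _ x]
  rw [smul_smul, neg_mul, mul_inv_cancel₀ C.hc]
  module

/-- **large centres give the commutator subgroup** -/
theorem Acts.commutator_le [Finite F] [FiniteDimensional F A] [FiniteDimensional F V] [Nontrivial R]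
    (h : Acts T C ρ) (hK : ∀ g ∈ H, ∀ k : quadIsoms Q, (∀ x, ρ ((g : Rˣ) : R) x = k.1 x) → k ∈ K)
    (G : Grp T H) (P : 2 < Fintype.card ι → Perms T H) (hsep : ∀ x, (∀ y, polar Q x y = 0) → x = 0)
    (h5 : 5 ≤ Module.finrank F V) (hA : 0 < Module.finrank F A) (ht : 2 ≤ Fintype.card ι)
    (h4 : Module.finrank F A = 2 → 4 ≤ Fintype.card ι)
    (hchar : ((2 : F) ≠ 0 ∧ Even (Fintype.card ι)) ∨ ((2 : F) = 0 ∧ 4 < Module.finrank F A))
    (hZ : ¬ Ctr T H) : commutator (quadIsoms Q) ≤ K := by
  have hL : Long T H := by
    rcases hchar with ⟨h2, he⟩ | ⟨h2, h6⟩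
    · exact exists_long_odd G P h2 he hZ
    · exact exists_long_two G P h2 h6 hZ
  have hpair : ∀ i, C.PairAt K i := by
    by_cases h3 : 2 < Fintype.card ι
    · exact fun i => h.pairAt ht hK fun y u z huz => pairs G (P h3) ht hL y i u z huz
    · obtain ⟨l, hl⟩ := pairs_some G ht hL
      have hA2 : Module.finrank F A ≠ 2 := fun e => by have := h4 e; omega
      exact fun i => C.pairAt_of_other hA2 (by omega) (h.pairAt ht hK hl) i
  exact PurePairs.commutator_le (C := ⟨C, hpair⟩) hsep h5 hA ht h4

end CfsgLib.MaxSub.SpPowO
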