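import Cfsg.Agent.Lib.MaxSub.SpPowO.Two

/-!
Tensor powers of a symplectic space, characteristic two: all roots are root elements of the factors.
-/

set_option autoImplicit false
set_option linter.unusedSectionVars false

namespace CfsgLib.MaxSub.SpPowO

open CfsgLib.MaxSub.SpPow

variable {F A R ι κ : Type*} [Field F] [AddCommGroup A] [Module F A] [Ring R] [Algebra F R] [Fintype κ]
variable {T : Sys F A R ι κ} {H : Subgroup Rˣ}
variable [Finite F] [Finite R] [Nontrivial R] [Fintype ι] [DecidableEq ι]

theorem pure_of_off (G : Grp T H) (Z : Ctr T H) (h2 : (2 : F) = 0) (h6 : 4 < Module.finrank F A) :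
    ∀ S : Finset ι, ∀ d, IsRoot T H d → Off T S d → IsPure T d := by
  intro S
  induction S using Finset.strongInduction with
  | H S ih =>
    intro d hd hdS
    have L : Low T H S := fun k hk x hx hxS hxk =>
      ih (S.erase k) (Finset.erase_ssubset hk) x hx fun l hl => by
        by_cases hlk : l = k
        · exact hlk ▸ hxk
        · exact hxS l fun h => hl (Finset.mem_erase.2 ⟨hlk, h⟩)
    rcases S.eq_empty_or_nonempty with rfl | hne
    · exfalso
      obtain ⟨c, hc⟩ := T.scal d fun i => hdS i (Finset.notMem_empty i)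
      have h := hd.sq
      rw [hc, smul_mul_smul_comm, one_mul, smul_eq_zero, or_iff_left one_ne_zero, mul_self_eq_zero] at h
      exact hd.ne_zero (by rw [hc, h, zero_smul])
    by_cases htwo : ∀ i ∈ S, ∃ j ∈ S, j ≠ i
    · obtain ⟨-, -, y₀, ⟨-, e, he, -, -, -⟩, -⟩ := id hd
      have C : Two.Ctx T H S := ⟨G, Z, h2, h6, L, hne, ⟨e, he⟩, htwo⟩
      obtain ⟨u, -, hu⟩ := Two.root_mem G hd
      obtain ⟨x, hx, -, hux⟩ := C.pure (d := u) ⟨d, hd, hdS, hu⟩
      rwa [add_left_cancel (hu.symm.trans hux)]
    · simp only [not_forall, not_exists, not_and, ne_eq, not_not] at htwo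
      obtain ⟨i, -, hi⟩ := htwo
      refine pure_of_phi_any G hd (T.mem_phi_of_blk fun u v => T.scal _ fun l => ?_) (i := i)
      by_cases hl : l = i
      · exact hl ▸ T.cen_blk i u v d
      · exact T.cen_blk_other hl u v (hdS l fun h => hl (hi l h))

/-- **all roots are pure** -/
theorem all_pure_two (G : Grp T H) (Z : Ctr T H) (h2 : (2 : F) = 0) (h6 : 4 < Module.finrank F A) {d : R}
    (hd : IsRoot T H d) : IsPure T d :=
  pure_of_off G Z h2 h6 Finset.univ d hd fun l hl => absurd (Finset.mem_univ l) hl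

/-- **the group permutes the factors** -/
theorem permutes_two (G : Grp T H) (Z : Ctr T H) (h2 : (2 : F) = 0) (h6 : 4 < Module.finrank F A) {e : A}
    (he : e ≠ 0) {g : Rˣ} (hg : g ∈ H) : Permutes T g :=
  Grp.permutes (fun _ hd => all_pure_two G Z h2 h6 hd) he hg

end CfsgLib.MaxSub.SpPowO
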