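import Cfsg.Agent.Lib.MaxSub.SpPowO.Keep

/-!
Tensor powers of a symplectic space in characteristic two: a space of operators commuting with one factor, stable
under conjugation by root elements and flips of the other factors, whose twisted anticommutators are scalar,
consists of scalars.
-/

set_option autoImplicit false
set_option linter.unusedSectionVars false

namespace CfsgLib.MaxSub.SpPowO

open CfsgLib.MaxSub.SpPow

variable {F A R ι κ : Type*} [Field F] [AddCommGroup A] [Module F A] [Ring R] [Algebra F R] [Fintype κ]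
  [Fintype ι] [DecidableEq ι]
variable {T : Sys F A R ι κ} {H : Subgroup Rˣ}

theorem xop_ad (l : ι) (a v : A) : T.ad (T.xop l a v) = T.xop l a v := by
  simp only [Sys.xop, map_sub, T.ad_E]; abel

/-- monomials in self-adjoint operators of rank two are self-adjoint -/
theorem ad_allX (K : Finset ι) (s : ι → Sl A) (hout : ∀ l ∉ K, s l = .one) (hX : AllX s) :
    T.ad (T.tens (pv T s)) = T.tens (pv T s) := by
  induction K using Finset.induction_on generalizing s with
  | empty =>
    have : pv T s = 1 := funext fun l => pv_one (hout l (Finset.notMem_empty l))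
    rw [this, map_one, T.ad_one]
  | insert l K hl ih =>
    have e := ih (Function.update s l .one) (fun m hm => ?_) (fun m => ?_)
    · rw [pv_update] at e
      change T.ad (T.tens (Function.update (pv T s) l 1)) = T.tens (Function.update (pv T s) l 1) at e
      rw [Sys.tens_split _ l, T.commute_phi (T.mem_phi _) (Sys.cen_rest _ _)]
      conv_lhs => rw [T.ad_mul, e]
      rw [← T.commute_phi (T.mem_phi _) (Sys.cen_rest _ _)]
      congr 1
      rcases hX l with h | ⟨a, v, b, u, h⟩
      · rw [pv_one h]; exact T.ad_one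
      · rw [show ((pv T s l : T.phiA l) : R) = T.xop l a v by simp [pv, h, Sys.op], xop_ad]
    · rcases eq_or_ne m l with rfl | hml
      · simp
      · rw [Function.update_of_ne hml]; exact hout m (by simp [hml, hm])
    · rcases eq_or_ne m l with rfl | hml
      · exact Or.inl (by simp)
      · simpa [hml] using hX m

theorem rest_ne_zero [Nontrivial R] (K : Finset ι) (g : (l : ι) → T.phiA l) (hout : ∀ l ∉ K, g l = 1)
    (hin : ∀ l ∈ K, ∃ a, a ≠ 0 ∧ (g l : R) = T.E l a a) : T.tens g ≠ 0 := by
  induction K using Finset.induction_on generalizing g with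
  | empty =>
    rw [show g = 1 from funext fun l => hout l (Finset.notMem_empty l), map_one]; exact one_ne_zero
  | insert l K hl ih =>
    obtain ⟨a, ha, hga⟩ := hin l (Finset.mem_insert_self _ _)
    rw [Sys.tens_split _ l, hga]
    refine fun h => ih (Function.update g l 1) (fun m hm => ?_) (fun m hm => ?_)
      (T.E_mul_cancel ha ha (Sys.cen_rest _ _) h)
    · rcases eq_or_ne m l with rfl | hml
      · simp
      · rw [Function.update_of_ne hml]; exact hout m (by simp [hml, hm])
    · rw [Function.update_of_ne (fun e : m = l => hl (e ▸ hm))]; exact hin m (Finset.mem_insert_of_mem hm)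

/-- **the space consists of scalars** -/
theorem clifford_two [Nontrivial R] (G : Grp T H) (h2 : (2 : F) = 0) (h6 : 4 < Module.finrank F A) {i : ι}
    (S : Submodule F R) (hcen : ∀ K ∈ S, T.Cen i K)
    (hcl : ∀ K ∈ S, ∀ K' ∈ S, ∃ c : F, T.ad K * K' + T.ad K' * K = c • 1)
    (hst : ∀ g ∈ H, T.Cen i (g : R) → ∀ K ∈ S, (g : R) * K * (↑g⁻¹ : R) ∈ S) :
    ∀ K ∈ S, ∃ c : F, K = c • 1 := by
  classical
  intro K hK
  by_contra hns
  have hQ : ∀ l, l ≠ i → ∀ a, ∀ x ∈ S, delta (T.E l a a) x ∈ S := by
    intro l hl a x hx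
    obtain ⟨g, hg, hgc⟩ := G.root l a 1
    rw [one_smul] at hgc
    have := hst g hg (by rw [hgc]; exact (T.cen_one i).add (T.cen_E hl.symm a a)) x hx
    rw [inv_one_add (T.n_mul_self l a) hgc, hgc] at this
    rw [← delta_eq (T.n_mul_self l a)]
    exact sub_mem this hx
  obtain ⟨s, hs, hX, hsi, ⟨r, hr⟩, hmem⟩ := descend_two h2 (by omega) hQ (hcen K hK) hK hns
  obtain ⟨C, hCd⟩ : ∃ C, C = (Finset.univ.filter fun l => s l ≠ .one).erase r := ⟨_, rfl⟩
  have hC : ∀ l, l ∈ insert r C ↔ s l ≠ .one := fun l => by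
    rcases eq_or_ne l r with rfl | h
    · simp [hr]
    · simp [hCd, h]
  have hiC : i ∉ insert r C := fun h => (hC i).1 h hsi
  have hflip : T.tens (flipPv T (insert r C) s) ∈ S :=
    flip_mem G hs (insert r C) (P := fun x => x ∈ S) (fun x hx g hg hgc => hst g hg (hgc i hiC) x hx)
      (fun x hx c => Submodule.smul_mem _ c hx) hmem
  have hout : ∀ l ∉ insert r C, s l = .one := fun l hl => not_not.1 fun h => hl ((hC l).2 h)
  have had' : T.ad (T.tens (flipPv T (insert r C) s)) = T.tens (flipPv T (insert r C) s) := by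
    have e : flipPv T (insert r C) s = pv T fun l => if l ∈ insert r C then (s l).flip else s l := by
      funext l
      by_cases hl : l ∈ insert r C
      · rcases hX l with h | ⟨a, v, b, u, h⟩ <;> simp [flipPv, pv, hl, h, Sl.flip, Sl.sgn]
      · simp [flipPv, pv, hl]
    rw [e]
    refine ad_allX (insert r C) _ (fun l hl => by simp [hl, hout l hl]) fun l => ?_
    rcases hX l with h | ⟨a, v, b, u, h⟩
    · exact Or.inl (by by_cases hl : l ∈ insert r C <;> simp [hl, h, Sl.flip])
    · exact Or.inr (by by_cases hl : l ∈ insert r C <;> simp [hl, h, Sl.flip])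
  obtain ⟨c₀, hc₀⟩ := hcl _ hmem _ hflip
  rw [ad_allX (insert r C) s hout hX, had'] at hc₀
  obtain ⟨Q, hQd⟩ : ∃ Q : Submodule F R, Q = Submodule.span F {(1 : R)} := ⟨_, rfl⟩
  have hmemQ : ∀ x, x ∈ Q ↔ ∃ c : F, c • (1 : R) = x := fun x => by rw [hQd, Submodule.mem_span_singleton]
  have hzero : ∀ l a, ∀ x ∈ Q, delta (T.E l a a) x = 0 := fun l a x hx => by
    obtain ⟨c, rfl⟩ := (hmemQ x).1 hx
    simp [delta, T.n_mul_self]
  have h1 := keep (Q := Q) hs C (r := r) (by simp [hCd]) (fun l hl => (hC l).1 hl)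
    (fun l _ a x hx => by rw [hzero l a x hx]; exact Q.zero_mem) (pv T s * flipPv T (insert r C) s)
    (flipPv T (insert r C) s * pv T s) (fun l hl => by simp [flipPv, pv, hl]) (fun l hl => by simp [flipPv, pv, hl])
    (fun l hl => by simp [flipPv, pv, hl, hout l hl, Sys.op]) (ε := 1)
    (by rw [neg_two h2 (1 : F), one_pow, mul_one])
    ((hmemQ _).2 ⟨c₀, by rw [one_smul, map_mul, map_mul, hc₀]⟩)
  obtain ⟨a, v, b, u, hra⟩ := (hX r).resolve_left hr
  obtain ⟨q, hq0, hq⟩ := exists_perp T ![a, b, v, u] h6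
  have hok : Sl.Ok T (Sl.xx a v b u) := hra ▸ hs r
  obtain ⟨a', w, ha', hind, -, hdel⟩ := delta_planes hok (by simp) r (fun p p' => ⟨fun e => by simp at e,
      fun v' u' e => by
        simp only [Sl.xx.injEq] at e
        obtain ⟨rfl, rfl, rfl, rfl⟩ := e
        exact ⟨hq 0, hq 1, hq 2, hq 3⟩⟩) hq0
  obtain ⟨rest, hrest⟩ : ∃ g, g = Function.update
      (fun l => if l ∈ C then T.op l (rootSl (s l)) else (pv T s * flipPv T (insert r C) s) l) r 1 := ⟨_, rfl⟩
  rw [← hrest, hra] at h1
  have hrc : T.Cen r (T.tens rest) := by rw [hrest]; exact Sys.cen_rest _ _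
  have h3 := hzero r w _ h1
  rw [show delta (T.E r w w) (planes T r (Sl.xx a v b u) * T.tens rest) =
      delta (T.E r w w) (planes T r (Sl.xx a v b u)) * T.tens rest by
    simp only [delta, sub_mul, mul_assoc, hrc w w], hdel, neg_mul, neg_eq_zero] at h3
  have hne : T.tens rest ≠ 0 := by
    refine rest_ne_zero C rest (fun l hl => ?_) fun l hl => ?_
    · rw [hrest]
      rcases eq_or_ne l r with rfl | hlr
      · simp
      · have hl' : l ∉ insert r C := by simp [hlr, hl]
        simp [hlr, hl, flipPv, pv, hout l hl', Sys.op]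
    · obtain ⟨a₁, b₁, e⟩ := rootSl_nn (A := A) ((hC l).1 (Finset.mem_insert_of_mem hl))
      have hlr : l ≠ r := fun e : l = r => by rw [hCd, e] at hl; simp at hl
      have hab := rootSl_ok (T := T) (hs l)
      rw [e] at hab
      refine ⟨a₁, by rintro rfl; simp [Sl.Ok] at hab, ?_⟩
      rw [hrest]
      simp [hlr, hl, e, Sys.op]
  obtain ⟨z₁, hz₁, hz₁'⟩ := exists_dual T ha' hind 1 0
  obtain ⟨z₂, hz₂, hz₂'⟩ := exists_dual T ha' hind 0 1
  have h4 := congrArg (T.blk r z₁ z₂) h3
  rw [T.blk_zero, Sys.xop, sub_mul, T.blk_sub, T.blk_E_mul hrc, T.blk_E_mul hrc, hz₁, hz₁', T.swap w z₂, hz₂',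
    zero_mul, zero_smul, sub_zero, one_mul, neg_smul, one_smul, neg_eq_zero] at h4
  exact hne h4

end CfsgLib.MaxSub.SpPowO
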