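import Cfsg.Agent.Lib.MaxSub.SpPowO.Keep

/-!
Tensor powers of a symplectic space: the Jordan product and the commutator of a monomial with a conjugate, one
slot kept.
-/

set_option autoImplicit false
set_option linter.unusedSectionVars false

namespace CfsgLib.MaxSub.SpPowO

open CfsgLib.MaxSub.SpPow

variable {F A R ι κ : Type*} [Field F] [AddCommGroup A] [Module F A] [Ring R] [Algebra F R] [Fintype κ]
  [Fintype ι] [DecidableEq ι]
variable {T : Sys F A R ι κ} {H : Subgroup Rˣ}

theorem op_one (l : ι) : T.op l (Sl.one : Sl A) = 1 := rfl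

theorem nn_ne {a b : A} : (Sl.nn a b : Sl A) ≠ Sl.one := by simp

theorem xx_ne {a v b u : A} : (Sl.xx a v b u : Sl A) ≠ Sl.one := by simp

/-- a monomial of root elements, and a slot carrying a self-adjoint operator of rank two -/
def AllB (T : Sys F A R ι κ) (H : Subgroup Rˣ) (s : ι → Sl A) (K : Finset ι) (r : ι) : Prop :=
  r ∉ K ∧ (∀ l, Sl.Ok T (s l)) ∧ (∀ l ∉ K, s l = .one) ∧ (∀ l ∈ K, ∃ a b, s l = .nn a b) ∧
    ∃ a v, a ≠ 0 ∧ (∀ c : F, v ≠ c • a) ∧ T.f a v = 0 ∧ InL F H (T.xop r a v * T.tens (pv T s))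

/-- the monomial with the slot filled -/
theorem AllB.full {s : ι → Sl A} {K : Finset ι} {r : ι} (h : AllB T H s K r) :
    ∃ s₁ : ι → Sl A, (∀ l, Sl.Ok T (s₁ l)) ∧ (∀ l, l ∈ insert r K ↔ s₁ l ≠ .one) ∧
      (∀ l ∈ K, ∃ a b, s₁ l = .nn a b) ∧ (∃ a v b u, s₁ r = .xx a v b u) ∧ InL F H (T.tens (pv T s₁)) := by
  obtain ⟨hr, hok, hout, hin, a, v, ha, hind, hav, hmem⟩ := h
  obtain ⟨v', b, u, hok', hxe⟩ := exists_slot (T := T) ha hind hav r
  refine ⟨Function.update s r (.xx a v' b u), fun l => ?_, fun l => ?_, fun l hl => ?_, ⟨a, v', b, u, by simp⟩, ?_⟩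
  · rcases eq_or_ne l r with rfl | h
    · simpa using hok'
    · simpa [h] using hok l
  · rcases eq_or_ne l r with rfl | h
    · simp
    · simp only [Finset.mem_insert, h, false_or, ne_eq, Function.update_of_ne h]
      exact ⟨fun hl => by obtain ⟨a, b, e⟩ := hin l hl; simp [e], fun hl => by
        by_contra hlK; exact hl (hout l hlK)⟩
  · rw [Function.update_of_ne (fun e : l = r => hr (e ▸ hl))]; exact hin l hl
  · convert hmem using 1
    rw [pv_update, Sys.tens_update, ← pv_one (T := T) (hout r hr), Function.update_eq_self]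
    show T.xop r a v' * _ = _
    rw [hxe]

/-- **the Jordan product with one slot kept** -/
theorem jordan_keep (G : Grp T H) {i : ι} {e : A} (he : e ≠ 0) {s : ι → Sl A} (hs : ∀ l, Sl.Ok T (s l))
    {a v b u : A} (hi : Sl.Ok T (Sl.xx a v b u)) (hsi : s i = .one) (C : Finset ι) {r : ι} (hr : r ∉ C)
    (hC : ∀ l, l ∈ insert r C ↔ s l ≠ .one) (hsgn : ((-1 : F)) ^ C.card = 1)
    (hmem : T.tens (pv T s) ∈ Zs T H i e) :
    ∃ s' : ι → Sl A, (∀ l, Sl.Ok T (s' l)) ∧ (∀ l ∉ insert i C, s' l = .one) ∧
      (∀ l ∈ insert i C, ∃ a b, s' l = .nn a b) ∧ r ∉ insert i C ∧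
      InL F H (planes T r (s r) * T.tens (pv T s')) := by
  have hiC : i ∉ insert r C := fun h => (hC i).1 h hsi
  have ha : a ≠ 0 := by rintro rfl; simp [Sl.Ok] at hi
  have hw : T.tens (pv T s) ∈ Zs T H i a := Zs.move G he ha hmem
  have hw' : T.tens (flipPv T (insert r C) s) ∈ Zs T H i a :=
    flip_mem G hs (insert r C) (P := fun x => x ∈ Zs T H i a) (fun x hx g hg hgc => Zs.conj hx hg (hgc i hiC))
      (fun x hx c => Submodule.smul_mem _ c hx) hw
  have hj := Zs.jordan G hi hw hw'
  rw [← map_mul, ← map_mul, ← one_smul F (T.tens (flipPv T (insert r C) s * pv T s))] at hj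
  have h1 := keep hs C hr (fun l hl => (hC l).1 hl)
    (fun l hl c x hx => delta_mem G (fun e : l = i => hiC (Finset.mem_insert_of_mem (e ▸ hl))) c hx) _ _
    (fun l hl => by simp [flipPv, pv, hl]) (fun l hl => by simp [flipPv, pv, hl])
    (fun l hl => by
      have : s l = .one := not_not.1 fun h => hl ((hC l).2 h)
      simp [flipPv, pv, hl, this, Sys.op])
    (by rw [one_mul, hsgn]) hj
  have hri : r ≠ i := fun h => hiC (h ▸ Finset.mem_insert_self r C)
  refine ⟨fun l => if l = i then .nn a b else if l ∈ C then rootSl (s l) else .one, fun l => ?_, fun l hl => ?_,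
    fun l hl => ?_, by simp [hri, hr], ?_⟩
  · dsimp only
    split_ifs
    exacts [hi.1, rootSl_ok (hs l), trivial]
  · rw [Finset.mem_insert, not_or] at hl; simp [hl.1, hl.2]
  · dsimp only
    split_ifs with h h'
    · exact ⟨a, b, rfl⟩
    · exact rootSl_nn ((hC l).1 (Finset.mem_insert_of_mem h'))
    · exact absurd ((Finset.mem_insert.1 hl).resolve_left h) h'
  · have hP : T.Cen i (planes T r (s r)) := T.cen_of_phi hri.symm (planes_mem r (s r))
    convert h1.2 using 1
    conv_rhs => rw [← mul_assoc, ← hP a a, mul_assoc]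
    congr 1
    rw [Sys.tens_split _ i]
    congr 1
    · simp [pv, Sys.op]
    congr 1
    funext l
    rcases eq_or_ne l i with rfl | hli
    · simp [pv, hri.symm, flipPv, hsi, Sys.op, show l ∉ C from fun h => hiC (Finset.mem_insert_of_mem h),
        show l ∉ insert r C from hiC]
    · by_cases hlC : l ∈ C
      · have : l ≠ r := fun h => hr (h ▸ hlC)
        simp [pv, hli, hlC, this]
      · rcases eq_or_ne l r with rfl | hlr
        · simp [pv, hli, hlC, Sys.op]
        · have hl' : l ∉ insert r C := by simp [hlr, hlC]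
          have : s l = .one := not_not.1 fun h => hl' ((hC l).2 h)
          simp [pv, hli, hlC, hlr, this, flipPv, hl', Sys.op]

/-- **the commutator with one slot kept**: a root element moved to a free slot -/
theorem grow_keep (G : Grp T H) (P : Perms T H) {s : ι → Sl A} (hs : ∀ l, Sl.Ok T (s l))
    (hmem : InL F H (T.tens (pv T s))) {i j : ι} {e e' : A} (hie : s i = .nn e e') (hj : s j = .one) (C : Finset ι)
    {r : ι} (hr : r ∉ C) (hC : ∀ l, l ∈ insert i (insert r C) ↔ s l ≠ .one) (hi : i ∉ insert r C)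
    (hsgn : ((-1 : F)) ^ C.card = -1) :
    ∃ s' : ι → Sl A, (∀ l, Sl.Ok T (s' l)) ∧ (∀ l ∉ insert j (insert i C), s' l = .one) ∧
      (∀ l ∈ insert j (insert i C), ∃ a b, s' l = .nn a b) ∧ r ∉ insert j (insert i C) ∧
      InL F H (planes T r (s r) * T.tens (pv T s')) := by
  obtain ⟨g, hg, hgE⟩ := P i j
  obtain ⟨σ, hσ⟩ : ∃ σ : Equiv.Perm ι, σ = Equiv.swap i j := ⟨_, rfl⟩
  rw [← hσ] at hgE
  have hji : j ≠ i := fun h => by rw [h, hie] at hj; simp at hj
  have hjC : j ∉ insert r C := fun h => (hC j).1 (Finset.mem_insert_of_mem h) hj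
  have hfix : ∀ l ∈ insert r C, σ.symm l = l := fun l hl => by
    rw [hσ, Equiv.symm_swap, Equiv.swap_apply_of_ne_of_ne (fun e : l = i => hi (e ▸ hl))
      (fun e : l = j => hjC (e ▸ hl))]
  obtain ⟨t, ht⟩ : ∃ t, t = s ∘ σ.symm := ⟨_, rfl⟩
  have htok : ∀ l, Sl.Ok T (t l) := fun l => by rw [ht]; exact hs _
  have htmem : InL F H (T.tens (pv T t)) := by rw [ht, ← conj_pv hgE]; exact hmem.conj hg
  have hti : t i = .one := by rw [ht, Function.comp_apply, hσ, Equiv.symm_swap, Equiv.swap_apply_left, hj]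
  have htj : t j = .nn e e' := by rw [ht, Function.comp_apply, hσ, Equiv.symm_swap, Equiv.swap_apply_right, hie]
  have htC : ∀ l ∈ insert r C, t l = s l := fun l hl => by rw [ht, Function.comp_apply, hfix l hl]
  have hbmem : InL F H (T.tens (flipPv T (insert r C) t)) :=
    flip_mem G htok (insert r C) (P := InL F H) (fun x hx g hg _ => hx.conj hg) (fun x hx c => hx.smul c) htmem
  have hai : pv T s i = T.op i (.nn e e') := by rw [pv, hie]
  have haj : pv T s j = 1 := pv_one hj
  have hbi : flipPv T (insert r C) t i = 1 := by simp only [flipPv, if_neg hi, hti, op_one]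
  have hbj : flipPv T (insert r C) t j = T.op j (.nn e e') := by simp only [flipPv, if_neg hjC, htj]
  have hsq : ∀ l, T.op l (.nn e e') * T.op l (.nn e e') = 0 := fun l => Subtype.ext (T.n_mul_self l e)
  have hz := InL.comm
    (by rw [← map_mul]; exact zero_of_slot _ i (by rw [Pi.mul_apply, hai, hsq]))
    (by rw [← map_mul]; exact zero_of_slot _ j (by rw [Pi.mul_apply, hbj, hsq]))
    (by rw [← map_mul, ← map_mul]; exact zero_of_slot _ i (by
      rw [Pi.mul_apply, Pi.mul_apply, hai, hbi, mul_one, hsq]))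
    (by rw [← map_mul, ← map_mul]; exact zero_of_slot _ j (by
      rw [Pi.mul_apply, Pi.mul_apply, haj, hbj, mul_one, hsq]))
    hmem hbmem
  rw [← map_mul, ← map_mul] at hz
  obtain ⟨gab, hgab⟩ : ∃ x, x = pv T s * flipPv T (insert r C) t := ⟨_, rfl⟩
  obtain ⟨gba, hgba⟩ : ∃ x, x = flipPv T (insert r C) t * pv T s := ⟨_, rfl⟩
  have hgi : gab i = T.op i (.nn e e') := by rw [hgab, Pi.mul_apply, hbi, mul_one, hai]
  have hgi' : gba i = T.op i (.nn e e') := by rw [hgba, Pi.mul_apply, hbi, one_mul, hai]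
  have hzs : T.tens (Function.update gab i 1) + (-1 : F) • T.tens (Function.update gba i 1) ∈ Zs T H i e := by
    refine ⟨(Sys.cen_rest gab i).add ((Sys.cen_rest gba i).smul _), ?_⟩
    rw [neg_one_smul, ← sub_eq_add_neg, mul_sub]
    convert hz using 1
    rw [← hgab, ← hgba, Sys.tens_split gab i, Sys.tens_split gba i, hgi, hgi']
    rfl
  have hne : ∀ l ∈ insert r C, s l ≠ .one := fun l hl => (hC l).1 (Finset.mem_insert_of_mem hl)
  have h1 := keep hs C hr hne
    (fun l hl c x hx => delta_mem G (fun e : l = i => hi (Finset.mem_insert_of_mem (e ▸ hl))) c hx) _ _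
    (fun l hl => by
      rw [Function.update_of_ne (fun e : l = i => hi (e ▸ hl)), hgab]
      simp [flipPv, pv, hl, htC l hl])
    (fun l hl => by
      rw [Function.update_of_ne (fun e : l = i => hi (e ▸ hl)), hgba]
      simp [flipPv, pv, hl, htC l hl])
    (fun l hl => by
      rcases eq_or_ne l i with rfl | hli
      · simp
      rw [Function.update_of_ne hli, Function.update_of_ne hli, hgab, hgba]
      have : s l = .one := not_not.1 fun h => hl (((Finset.mem_insert.1 ((hC l).2 h)).resolve_left hli))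
      simp [flipPv, pv, hl, this, Sys.op])
    (by rw [hsgn, neg_one_mul, neg_neg]) hzs
  have hri : r ≠ i := fun h => hi (h ▸ Finset.mem_insert_self r C)
  have hrj : r ≠ j := fun h => hjC (h ▸ Finset.mem_insert_self r C)
  refine ⟨fun l => if l = i then .nn e e' else if l = j then .nn e e' else if l ∈ C then rootSl (s l) else .one,
    fun l => ?_, fun l hl => ?_, fun l hl => ?_, by simp [hri, hrj, hr], ?_⟩
  · have := hs i
    rw [hie] at this
    dsimp only
    split_ifs
    exacts [this, this, rootSl_ok (hs l), trivial]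
  · simp only [Finset.mem_insert, not_or] at hl; simp [hl.1, hl.2.1, hl.2.2]
  · dsimp only
    split_ifs with h h' h''
    · exact ⟨e, e', rfl⟩
    · exact ⟨e, e', rfl⟩
    · exact rootSl_nn (hne l (Finset.mem_insert_of_mem h''))
    · simp [h, h', h''] at hl
  · have hP : T.Cen i (planes T r (s r)) := T.cen_of_phi hri.symm (planes_mem r (s r))
    convert h1.2 using 1
    conv_rhs => rw [← mul_assoc, ← hP e e, mul_assoc]
    congr 1
    rw [Sys.tens_split _ i]
    congr 1
    · simp [pv, Sys.op]
    congr 1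
    funext l
    rcases eq_or_ne l i with rfl | hli
    · have h' : l ∉ C := fun h => hi (Finset.mem_insert_of_mem h)
      simp [pv, hri.symm, h']
    · by_cases hlC : l ∈ C
      · have : l ≠ r := fun h => hr (h ▸ hlC)
        have : l ≠ j := fun h => hjC (h ▸ Finset.mem_insert_of_mem hlC)
        simp [pv, hli, hlC, *]
      · rcases eq_or_ne l r with rfl | hlr
        · simp [pv, hli, hlC, hrj, Sys.op]
        · have hl' : l ∉ insert r C := by simp [hlr, hlC]
          have : s l = .one := not_not.1 fun h => hl' (((Finset.mem_insert.1 ((hC l).2 h)).resolve_left hli))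
          rcases eq_or_ne l j with rfl | hlj
          · simp [pv, hli, hlC, hlr, hgab, flipPv, hl', htj, this, Sys.op]
          · have ht1 : t l = .one := by
              rw [ht, Function.comp_apply, hσ, Equiv.symm_swap, Equiv.swap_apply_of_ne_of_ne hli hlj, this]
            simp [pv, hli, hlC, hlr, hlj, hgab, flipPv, hl', ht1, this, Sys.op]

end CfsgLib.MaxSub.SpPowO
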