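import Cfsg.Agent.Lib.MaxSub.SpPowO.StabTwo

/-!
Tensor powers of a symplectic space, characteristic two: a root commuting with a root element of a factor is pure or
commutes with the factor.
-/

set_option autoImplicit false
set_option linter.unusedSectionVars false

namespace CfsgLib.MaxSub.SpPowO

open CfsgLib.MaxSub.SpPow

variable {F A R ι κ : Type*} [Field F] [AddCommGroup A] [Module F A] [Ring R] [Algebra F R] [Fintype κ]
variable {T : Sys F A R ι κ} {H : Subgroup Rˣ}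

theorem card_sandwich [Finite R] [Nontrivial R] {d : R} (hd : IsRoot T H d) (i : ι) {e : A} (he : e ≠ 0) :
    Nat.card (Set.range fun y : R => d * y * d) ≤ Nat.card {y : R // T.Cen i y} := by
  obtain ⟨g, -, y₀, ⟨j, e₁, -, a, -, rfl⟩, rfl⟩ := hd
  let f1 : {y : R // T.Cen j y} → R := fun c => (g : R) * (T.E j e₁ e₁ * c.1) * (↑g⁻¹ : R)
  have hsub : (Set.range fun y : R => (g : R) * (a • T.E j e₁ e₁) * (↑g⁻¹ : R) * y *
      ((g : R) * (a • T.E j e₁ e₁) * (↑g⁻¹ : R))) ⊆ Set.range f1 := by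
    rintro _ ⟨y, rfl⟩
    refine ⟨⟨(a * a) • T.blk j e₁ e₁ ((↑g⁻¹ : R) * y * (g : R)), (T.cen_blk _ _ _ _).smul _⟩, ?_⟩
    show (g : R) * (T.E j e₁ e₁ * _) * (↑g⁻¹ : R) = _
    rw [mul_smul_comm, T.E_blk]
    simp only [mul_assoc, mul_smul_comm, smul_mul_assoc, smul_smul]
  rw [T.card_cen_eq i j he]
  exact (Nat.card_mono (Set.toFinite _) hsub).trans (Finite.card_range_le f1)

/-- a product of an operator of a factor and one commuting with it has too large sandwiches -/
theorem not_root_of_product [Finite R] [Nontrivial R] (T : Sys F A R ι κ) (h2 : (2 : F) = 0)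
    (h6 : 4 < Module.finrank F A) {i : ι} {e f₀ : A} (hef : T.f e f₀ = 1) {φ α δ : R} (hφ : φ ∈ T.phi i) (hα : T.Cen i α) (hδ : T.Cen i δ) (hφφ : φ * φ = 0)
    (hαα : α * α = 0) (hδδ : δ * δ = 1) (hφ0 : φ ≠ 0) (hα0 : α ≠ 0) :
    Nat.card {y : R // T.Cen i y} < Nat.card (Set.range fun y : R => (φ * δ + α) * y * (φ * δ + α)) := by
  classical
  have inj : ∀ a b : F, a • (1 : R) = b • 1 → a = b := fun a b h => smul_left_injective F one_ne_zero h
  choose s hs using T.blk_phi hφ (i := i)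
  obtain ⟨L, hL⟩ : ∃ L : A → A, ∀ p q, φ * T.E i p q = T.E i (L p) q := by
    refine ⟨fun p => ∑ l, s (T.b' l) p • T.b l, fun p q => ?_⟩
    calc φ * T.E i p q = (∑ l, T.E i (T.b l) (T.b' l)) * φ * T.E i p q := by rw [T.one, one_mul]
      _ = _ := by
        rw [Finset.sum_mul, Finset.sum_mul, map_sum, LinearMap.sum_apply]
        refine Finset.sum_congr rfl fun l _ => ?_
        rw [← T.E_blk, hs, mul_smul_comm, mul_one, map_smul, LinearMap.smul_apply]
  obtain ⟨L', hL'⟩ : ∃ L' : A → A, ∀ p q, T.E i p q * φ = T.E i p (L' q) := by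
    refine ⟨fun q => ∑ l, s q (T.b l) • T.b' l, fun p q => ?_⟩
    calc T.E i p q * φ = T.E i p q * φ * ∑ l, T.E i (T.b l) (T.b' l) := by rw [T.one, mul_one]
      _ = _ := by
        rw [Finset.mul_sum, map_sum]
        refine Finset.sum_congr rfl fun l _ => ?_
        rw [← T.E_blk, hs, mul_smul_comm, mul_one, map_smul]
  have he : e ≠ 0 := by rintro rfl; simp at hef
  have cancelL : ∀ x y : A, T.E i x e = T.E i y e → x = y := fun x y hxy => by
    by_contra hne
    exact T.E_ne_zero i (sub_ne_zero.2 hne) he (by rw [map_sub, LinearMap.sub_apply, hxy, sub_self])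
  have cancelR : ∀ x y : A, T.E i e x = T.E i e y → x = y := fun x y hxy => by
    by_contra hne
    exact T.E_ne_zero i he (sub_ne_zero.2 hne) (by rw [map_sub, hxy, sub_self])
  have L0 : ∀ p, L (L p) = 0 := fun p => cancelL _ _ (by
    rw [← hL, ← hL, ← mul_assoc, hφφ, zero_mul, map_zero, LinearMap.zero_apply])
  have Lsub : ∀ x p (c : F), L (x - c • p) = L x - c • L p := fun x p c => cancelL _ _ (by
    simp only [← hL, map_sub, map_smul, LinearMap.sub_apply, LinearMap.smul_apply, mul_sub, mul_smul_comm])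
  obtain ⟨p, hp⟩ : ∃ p, L p ≠ 0 := by
    by_contra hall
    simp only [not_exists, not_not] at hall
    refine hφ0 ?_
    rw [← mul_one φ, ← T.one i, Finset.mul_sum]
    exact Finset.sum_eq_zero fun l _ => by rw [hL, hall, map_zero, LinearMap.zero_apply]
  obtain ⟨q, hq⟩ : ∃ q, L' q ≠ 0 := by
    by_contra hall
    simp only [not_exists, not_not] at hall
    refine hφ0 ?_
    rw [← one_mul φ, ← T.one i, Finset.sum_mul]
    exact Finset.sum_eq_zero fun l _ => by rw [hL', hall, map_zero]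
  have hp0 : p ≠ 0 := by
    rintro rfl
    exact hp (cancelL _ _ (by rw [← hL]; simp))
  have hq0 : q ≠ 0 := by
    rintro rfl
    exact hq (cancelR _ _ (by rw [← hL']; simp))
  obtain ⟨u, hpu, hLu⟩ := exists_dual T hp0 (v := L p) (s := (0 : F)) (r := (1 : F)) fun c hc => by
    have h1 : T.E i (L (L p)) e = c • T.E i (L p) e := by
      rw [← hL, hc, map_smul, LinearMap.smul_apply, mul_smul_comm, hL, hc, map_smul, LinearMap.smul_apply]
    rw [L0, map_zero, LinearMap.zero_apply, eq_comm, smul_eq_zero] at h1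
    rcases h1 with h1 | h1
    · exact hp (by rw [hc, h1, zero_smul])
    · exact T.E_ne_zero i hp he h1
  obtain ⟨v₁, hqv, hLv⟩ := exists_dual T hq0 (v := L' q) (s := (0 : F)) (r := (1 : F)) fun c hc => by
    have h1 : T.E i e q * φ * φ = c • T.E i e (L' q) := by
      rw [hL', hc, map_smul, smul_mul_assoc, hL', hc, map_smul]
    rw [mul_assoc, hφφ, mul_zero, eq_comm, smul_eq_zero] at h1
    rcases h1 with h1 | h1
    · exact hq (by rw [hc, h1, zero_smul])
    · exact T.E_ne_zero i he hq h1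
  have hv : T.f v₁ q = 0 := T.perp_left hqv
  have hLv' : T.f v₁ (L' q) = 1 := by rw [T.swap, hLv, neg_two h2]
  -- a further vector killed by `φ`
  obtain ⟨p', hp', hp'n⟩ : ∃ p', L p' = 0 ∧ ∀ c : F, p' ≠ c • L p := by
    by_contra hcon
    simp only [not_exists, not_and, not_forall, not_not] at hcon
    haveI := finite_dim T
    have htop : Submodule.span F (Set.range ![p, L p]) = ⊤ := eq_top_iff.2 fun x _ => by
      obtain ⟨c, hc⟩ := hcon _ (L0 x)
      have h2 : L (x - c • p) = 0 := by rw [Lsub, ← hc, sub_self]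
      obtain ⟨c', hc'⟩ := hcon _ h2
      rw [sub_eq_iff_eq_add.1 hc', Matrix.range_cons, Matrix.range_cons, Matrix.range_empty, Set.union_empty]
      exact Submodule.add_mem _ (Submodule.smul_mem _ _ (Submodule.subset_span (Or.inr rfl)))
        (Submodule.smul_mem _ _ (Submodule.subset_span (Or.inl rfl)))
    have h2' := finrank_range_le_card (R := F) ![p, L p]
    rw [Set.finrank, htop, finrank_top] at h2'
    simp only [Fintype.card_fin] at h2'
    omega
  obtain ⟨u', hu'L, hu'p⟩ := exists_dual T hp hp'n (0 : F) 1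
  -- the expansion
  have hexp : ∀ {c : R}, T.Cen i c → ∀ p : A, (φ * δ + α) * (T.E i p q * c) * (φ * δ + α) =
      T.E i (L p) (L' q) * (δ * c * δ) + T.E i (L p) q * (δ * c * α) + T.E i p (L' q) * (α * c * δ) +
        T.E i p q * (α * c * α) := by
    intro c hc p
    have pull : ∀ {a : R}, T.Cen i a → ∀ x y : A, ∀ z : R, a * (T.E i x y * z) = T.E i x y * (a * z) :=
      fun ha x y z => by rw [← mul_assoc, ha, mul_assoc]
    have hφa : ∀ {a : R}, T.Cen i a → φ * a = a * φ := fun ha => (T.phi_comm_cen hφ ha).symm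
    have left : (φ * δ + α) * (T.E i p q * c) = T.E i (L p) q * (δ * c) + T.E i p q * (α * c) := by
      rw [add_mul, mul_assoc φ, pull hδ, ← mul_assoc φ, hL, pull hα]
    have right : ∀ x : A, ∀ {a : R}, T.Cen i a → T.E i x q * a * (φ * δ + α) =
        T.E i x (L' q) * (a * δ) + T.E i x q * (a * α) := fun x a ha => by
      rw [mul_add, mul_assoc _ a, mul_assoc _ a, ← mul_assoc a φ, ← hφa ha, mul_assoc φ, ← mul_assoc _ φ, hL']
    rw [left, add_mul, right _ (hδ.mul hc), right _ (hα.mul hc)]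
    abel
  have hblk : ∀ u x y, ∀ {c : R}, T.Cen i c → T.blk i u v₁ (T.E i x y * c) = (T.f x u * T.f v₁ y) • c :=
    fun u x y c hc => T.blk_E_mul hc x y u v₁
  let f : {y : R // T.Cen i y} ⊕ Unit → Set.range (fun y : R => (φ * δ + α) * y * (φ * δ + α)) :=
    Sum.elim (fun c => ⟨_, T.E i p q * c.1, rfl⟩) fun _ => ⟨_, T.E i p' q * 1, rfl⟩
  have hδc : ∀ y : R, δ * y * δ = 0 → y = 0 := fun y hy => by
    have := congrArg (fun t => δ * t * δ) hy
    simpa [mul_assoc, ← mul_assoc δ δ, hδδ] using this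
  have no : ∀ c : {y : R // T.Cen i y},
      (φ * δ + α) * (T.E i p q * c.1) * (φ * δ + α) ≠ (φ * δ + α) * (T.E i p' q * 1) * (φ * δ + α) := by
    intro c e1
    have c1 := c.2
    rw [hexp c1, hexp (T.cen_one i), hp', map_zero, LinearMap.zero_apply, LinearMap.zero_apply, zero_mul,
      zero_mul, mul_one, hαα, mul_zero, zero_add, zero_add, add_zero] at e1
    have e2 := congrArg (fun t => T.blk i u v₁ (φ * t)) e1
    simp only [mul_add, ← mul_assoc φ, hL, L0, hp', map_zero, LinearMap.zero_apply, zero_mul, zero_add] at e2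
    rw [T.blk_add, hblk u _ _ ((hα.mul c1).mul hδ), hblk u _ _ ((hα.mul c1).mul hα), hLu, hLv', hv, T.blk_zero,
      mul_zero, zero_smul, add_zero, mul_one, one_smul] at e2
    have e3 : α * c.1 = 0 := by
      have := congrArg (fun t => t * δ) e2
      simpa [mul_assoc, hδδ] using this
    rw [e3] at e1
    simp only [zero_mul, mul_zero, add_zero] at e1
    have e4 := congrArg (T.blk i u' v₁) e1
    rw [T.blk_add, hblk u' _ _ ((hδ.mul c1).mul hδ), hblk u' _ _ ((hδ.mul c1).mul hα),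
      hblk u' _ _ (hα.mul hδ), hu'L, hu'p, hLv'] at e4
    simp only [zero_mul, zero_smul, add_zero, one_mul, one_smul] at e4
    refine hα0 ?_
    have := congrArg (fun t => t * δ) e4.symm
    simpa [mul_assoc, hδδ] using this
  have hinj : Function.Injective f := by
    rintro (⟨c, hc⟩ | _) (⟨c', hc'⟩ | _) hcc
    · have e1 := congrArg (fun t : Set.range _ => T.blk i u v₁ t.1) hcc
      simp only [f, Sum.elim_inl, hexp hc, hexp hc'] at e1
      simp only [T.blk_add, hblk u _ _ ((hδ.mul hc).mul hδ), hblk u _ _ ((hδ.mul hc).mul hα),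
        hblk u _ _ ((hα.mul hc).mul hδ), hblk u _ _ ((hα.mul hc).mul hα), hblk u _ _ ((hδ.mul hc').mul hδ),
        hblk u _ _ ((hδ.mul hc').mul hα), hblk u _ _ ((hα.mul hc').mul hδ), hblk u _ _ ((hα.mul hc').mul hα),
        hLu, hpu, hLv', hv, zero_mul, mul_zero, mul_one, one_smul, zero_smul, add_zero] at e1
      exact congrArg Sum.inl (Subtype.ext (sub_eq_zero.1 (hδc _ (by rw [mul_sub, sub_mul, e1, sub_self]))))
    · exact absurd (congrArg Subtype.val hcc) (no ⟨c, hc⟩)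
    · exact absurd (congrArg Subtype.val hcc).symm (no ⟨c', hc'⟩)
    · rfl
  haveI : Finite {y : R // T.Cen i y} := Subtype.finite
  have := Nat.card_le_card_of_injective f hinj
  rw [Nat.card_sum, Nat.card_unique (α := Unit)] at this
  omega

/-- **a root whose root element carries a root element of the factor `i` into the factor** is pure or commutes
with the factor -/
theorem pure_or_cen_of_image_two [Fintype ι] [DecidableEq ι] [Finite F] [Finite R] [Nontrivial R] (G : Grp T H)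
    (Z : Ctr T H) (h2 : (2 : F) = 0) (h6 : 4 < Module.finrank F A) {i : ι} {e e' : A} (he : e ≠ 0) (he' : e' ≠ 0)
    {d : R} (hd : IsRoot T H d) {g : Rˣ} (hg : g ∈ H) (hgd : (g : R) = 1 + d) {c₁ : F} (hc₁ : c₁ ≠ 0)
    (hgn : (g : R) * T.E i e e * (↑g⁻¹ : R) = c₁ • T.E i e' e') : IsPure T d ∨ T.Cen i d := by
  classical
  obtain ⟨f₀, hef⟩ := T.exists_partner he
  have hcar : Carries T g i i := stab_two G Z h2 h6 he he' hg hc₁ hgn
  obtain ⟨δ, hδd⟩ : ∃ δ, δ = T.blk i e' f₀ (g : R) := ⟨_, rfl⟩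
  have hδ : T.Cen i δ := hδd ▸ T.cen_blk _ _ _ _
  have hbase : ∀ u, T.blk i u e (g : R) = (c₁ * T.f e' u) • δ := by
    intro u
    have h0 : (g : R) * T.E i e e = c₁ • (T.E i e' e' * (g : R)) := by
      rw [← smul_mul_assoc, ← hgn, mul_assoc _ (↑g⁻¹ : R), Units.inv_mul, mul_one]
    have h1 := congrArg (T.blk i u f₀) h0
    rw [T.blk_mul_E he, T.blk_smul, T.blk_E_left he, T.swap e f₀, hef, neg_two h2, one_smul, ← hδd, smul_smul] at h1
    exact h1
  have hline : ∀ u p, ∃ a : F, T.blk i u p (g : R) = a • δ := by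
    intro u p
    have key : ∀ Φ ∈ T.phi i, ∃ a : F, T.blk i u e (Φ * (g : R)) = a • δ := by
      intro Φ hΦ
      induction hΦ using Submodule.span_induction with
      | mem x hx =>
        obtain ⟨⟨a, b⟩, rfl⟩ := hx
        exact ⟨T.f a u * (c₁ * T.f e' b), by rw [T.blk_E_left he, hbase, smul_smul]⟩
      | zero => exact ⟨0, by rw [zero_mul, T.blk_zero, zero_smul]⟩
      | add a b _ _ ha hb =>
        obtain ⟨x, hx⟩ := ha
        obtain ⟨y, hy⟩ := hb
        exact ⟨x + y, by rw [add_mul, T.blk_add, hx, hy, add_smul]⟩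
      | smul c a _ ha =>
        obtain ⟨x, hx⟩ := ha
        exact ⟨c * x, by rw [smul_mul_assoc, T.blk_smul, hx, smul_smul]⟩
    obtain ⟨a, ha⟩ := key _ (hcar _ (T.E_mem_phi i p f₀))
    rw [mul_assoc _ (↑g⁻¹ : R), Units.inv_mul, mul_one, T.blk_mul_E he, hef, one_smul] at ha
    exact ⟨a, ha⟩
  choose s₀ hs₀ using hline
  obtain ⟨γ, hγd⟩ : ∃ γ, γ = ∑ l, ∑ m, s₀ (T.b' l) (T.b m) • T.E i (T.b l) (T.b' m) := ⟨_, rfl⟩
  have hγ : γ ∈ T.phi i :=
    hγd ▸ sum_mem fun l _ => sum_mem fun m _ => (T.phi i).smul_mem _ (T.E_mem_phi i _ _)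
  have hgγ : (g : R) = γ * δ := by
    calc (g : R) = (∑ l, T.E i (T.b l) (T.b' l)) * (g : R) * ∑ m, T.E i (T.b m) (T.b' m) := by
          rw [T.one, one_mul, mul_one]
      _ = _ := by
          rw [hγd, Finset.sum_mul, Finset.sum_mul, Finset.sum_mul]
          refine Finset.sum_congr rfl fun l _ => ?_
          rw [Finset.mul_sum, Finset.sum_mul]
          refine Finset.sum_congr rfl fun m _ => ?_
          rw [← T.E_blk, hs₀, mul_smul_comm, smul_mul_assoc]
  choose s hs using T.blk_phi hγ (i := i)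
  choose t ht using T.blk_phi (T.mul_mem_phi hγ hγ) (i := i)
  have hgs : ∀ u v, T.blk i u v (g : R) = s u v • δ := fun u v => by
    rw [hgγ, T.blk_mul_cen hδ, hs, smul_mul_assoc, one_mul]
  have hsq : (g : R) * g - (2 : F) • (g : R) + 1 = 0 := by
    rw [hgd, two_smul, mul_add, add_mul, add_mul, one_mul, one_mul, mul_one, hd.sq]; abel
  have key : ∀ u v, t u v • (δ * δ) - (2 * s u v) • δ + T.f v u • (1 : R) = 0 := by
    intro u v
    have h1 : (g : R) * g = γ * γ * (δ * δ) := by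
      rw [hgγ, mul_assoc γ δ, ← mul_assoc δ γ, T.phi_comm_cen hγ hδ]; simp only [mul_assoc]
    have h2 := congrArg (T.blk i u v) hsq
    rw [T.blk_add, T.blk_sub, T.blk_zero, T.blk_smul, T.blk_cen (T.cen_one i), h1, T.blk_mul_cen (hδ.mul hδ), ht,
      smul_mul_assoc, one_mul, hgs, smul_smul] at h2
    exact h2
  have hcancel : ∀ y : R, δ * y = 0 → y = 0 := fun y hy => by
    have h1 : (g : R) * y = 0 := by rw [hgγ, mul_assoc, hy, mul_zero]
    simpa using congrArg (fun t => (↑g⁻¹ : R) * t) h1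
  by_cases hsc : ∃ c : F, δ = c • (1 : R)
  · obtain ⟨c, hc⟩ := hsc
    left
    refine pure_of_phi_any G (i := i) hd ?_
    rw [show d = (g : R) - 1 by rw [hgd, add_sub_cancel_left], hgγ, hc, mul_smul_comm, mul_one]
    exact sub_mem ((T.phi i).smul_mem c hγ) (T.one_mem_phi i)
  have indep : ∀ a b : F, a • (1 : R) + b • δ = 0 → a = 0 ∧ b = 0 := by
    intro a b hab
    have hb : b = 0 := by
      by_contra hb
      exact hsc ⟨b⁻¹ * -a, by rw [← smul_smul, neg_smul, neg_eq_of_add_eq_zero_right hab, inv_smul_smul₀ hb]⟩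
    rw [hb, zero_smul, add_zero, smul_eq_zero, or_iff_left one_ne_zero] at hab
    exact ⟨hab, hb⟩
  haveI : CharP F 2 := CharTwo.of_one_ne_zero_of_two_eq_zero one_ne_zero h2
  have htwoR : ∀ x : R, x + x = 0 := fun x => by rw [← two_smul F x, h2, zero_smul]
  have h0 := key f₀ e
  rw [h2, zero_mul, zero_smul, sub_zero, hef, one_smul] at h0
  have ht0 : t f₀ e ≠ 0 := fun e1 => one_ne_zero (α := R) (by rwa [e1, zero_smul, zero_add] at h0)
  obtain ⟨ν, hν⟩ : ∃ ν : F, δ * δ = ν • (1 : R) :=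
    ⟨-(t f₀ e)⁻¹, by rw [neg_smul, ← smul_neg, ← eq_neg_of_add_eq_zero_left h0, inv_smul_smul₀ ht0]⟩
  obtain ⟨μ, hμ⟩ := FiniteField.isSquare_of_char_two (ringChar.eq F 2) ν
  have hμ0 : μ ≠ 0 := by
    rintro rfl
    rw [hν, hμ, mul_zero, zero_smul, smul_zero, zero_add] at h0
    exact one_ne_zero h0
  obtain ⟨δ₁, hδ₁⟩ : ∃ δ₁, δ₁ = μ⁻¹ • δ := ⟨_, rfl⟩
  obtain ⟨γ₁, hγ₁⟩ : ∃ γ₁, γ₁ = μ • γ := ⟨_, rfl⟩
  have hδ₁c : T.Cen i δ₁ := hδ₁ ▸ hδ.smul _
  have hγ₁m : γ₁ ∈ T.phi i := hγ₁ ▸ (T.phi i).smul_mem _ hγ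
  have hg₁ : (g : R) = γ₁ * δ₁ := by
    rw [hγ₁, hδ₁, smul_mul_smul, mul_inv_cancel₀ hμ0, one_smul, hgγ]
  have hδsq : δ₁ * δ₁ = 1 := by
    rw [hδ₁, smul_mul_smul, hν, smul_smul, hμ]
    field_simp
    rw [one_smul]
  have hγsq : γ₁ * γ₁ = 1 := by
    refine sub_eq_zero.1 (T.eq_zero_of_blk i fun u v => ?_)
    rw [hγ₁, smul_mul_smul, T.blk_sub, T.blk_smul, ht, T.blk_cen (T.cen_one i), smul_smul, sub_eq_add_neg]
    have h3 := key u v
    rw [h2, zero_mul, zero_smul, sub_zero, hν, smul_smul, hμ, mul_comm (t u v)] at h3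
    rw [eq_neg_of_add_eq_zero_left h3, ← neg_add, htwoR, neg_zero]
  obtain ⟨φ, hφd⟩ : ∃ φ, φ = γ₁ + 1 := ⟨_, rfl⟩
  obtain ⟨α, hαd⟩ : ∃ α, α = δ₁ + 1 := ⟨_, rfl⟩
  have hneg : ∀ x : R, -x = x := fun x => neg_eq_of_add_eq_zero_left (htwoR x)
  have hd' : d = φ * δ₁ + α := by
    rw [show d = (g : R) - 1 by rw [hgd, add_sub_cancel_left], hg₁, hφd, hαd, add_mul, one_mul, sub_eq_add_neg,
      hneg, add_assoc, ← add_assoc δ₁, htwoR, zero_add]
  have hnil : ∀ x : R, x * x = 1 → (x + 1) * (x + 1) = 0 := fun x hx => by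
    rw [mul_add, add_mul, mul_one, one_mul, hx, add_comm 1 x, htwoR]
  rcases eq_or_ne φ 0 with hφ0 | hφ0
  · right
    rw [hd', hφ0, zero_mul, zero_add, hαd]
    exact hδ₁c.add (T.cen_one i)
  exfalso
  have hα0 : α ≠ 0 := fun e1 => hsc ⟨μ, by
    have : δ₁ = 1 := by rw [eq_neg_of_add_eq_zero_left (hαd.symm.trans e1), hneg]
    rw [hδ₁, inv_smul_eq_iff₀ hμ0] at this
    exact this⟩
  have h1 := not_root_of_product T h2 h6 hef (hφd ▸ add_mem hγ₁m (T.one_mem_phi i)) (hαd ▸ hδ₁c.add (T.cen_one i))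
    hδ₁c (hφd ▸ hnil _ hγsq) (hαd ▸ hnil _ hδsq) hδsq hφ0 hα0
  rw [← hd'] at h1
  exact absurd (card_sandwich hd i he) (not_le.2 h1)

/-- **a root commuting with a root element of the factor `i` is pure or commutes with the factor** -/
theorem pure_or_cen_two [Fintype ι] [DecidableEq ι] [Finite F] [Finite R] [Nontrivial R] (G : Grp T H)
    (Z : Ctr T H) (h2 : (2 : F) = 0) (h6 : 4 < Module.finrank F A) {i : ι} {e : A} (he : e ≠ 0) {d : R}
    (hd : IsRoot T H d) (hNd : T.E i e e * d = d * T.E i e e) : IsPure T d ∨ T.Cen i d := by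
  obtain ⟨g, hg, hgd⟩ := hd.mem G 1
  rw [one_smul] at hgd
  refine pure_or_cen_of_image_two G Z h2 h6 he he hd hg hgd one_ne_zero ?_
  have hgn : (g : R) * T.E i e e = T.E i e e * (g : R) := by rw [hgd, mul_add, add_mul, mul_one, one_mul, hNd]
  rw [one_smul, hgn, mul_assoc, Units.mul_inv, mul_one]

end CfsgLib.MaxSub.SpPowO
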