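import Cfsg.Agent.Lib.MaxSub.SpPowO.Space

/-!
Tensor powers of a symplectic space in characteristic two: an element of a centre not commuting with a factor
gives one with a self-adjoint operator of rank two in this factor; descent to monomials.
-/

set_option autoImplicit false
set_option linter.unusedSectionVars false

namespace CfsgLib.MaxSub.SpPowO

open CfsgLib.MaxSub.SpPow

variable {F A R ι κ : Type*} [Field F] [AddCommGroup A] [Module F A] [Ring R] [Algebra F R] [Fintype κ]
  [Fintype ι] [DecidableEq ι]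
variable {T : Sys F A R ι κ} {H : Subgroup Rˣ} {i : ι}

theorem add_self_two (h2 : (2 : F) = 0) {M : Type*} [AddCommGroup M] [Module F M] (x : M) : x + x = 0 := by
  rw [← two_smul F x, h2, zero_smul]

theorem neg_two (h2 : (2 : F) = 0) {M : Type*} [AddCommGroup M] [Module F M] (x : M) : -x = x :=
  neg_eq_of_add_eq_zero_left (add_self_two h2 x)

/-- one cut: a prefix times a self-adjoint operator of rank two -/
theorem cut {Q : Submodule F R} (h2 : (2 : F) = 0) (h6 : 4 ≤ Module.finrank F A) {l : ι}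
    (hQ : ∀ a, ∀ x ∈ Q, delta (T.E l a a) x ∈ Q)
    {P w : R} (hP : T.Cen l P) (hmem : P * w ∈ Q) (hwl : ¬ T.Cen l w) :
    ∃ a v, a ≠ 0 ∧ (∀ c : F, v ≠ c • a) ∧ T.f a v = 0 ∧ ∃ w', w' ≠ 0 ∧ T.Cen l w' ∧
      (∀ m, m ≠ l → T.Cen m w → T.Cen m w') ∧ P * (T.xop l a v * w') ∈ Q := by
  have nA : ∀ x : A, -x = x := neg_two h2
  have nR : ∀ x : R, -x = x := neg_two h2
  have nF : ∀ x : F, -x = x := neg_two h2 (M := F)
  have hx : ∀ a v : A, T.xop l a v = T.E l a v + T.E l v a := fun a v => by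
    rw [Sys.xop, sub_eq_add_neg, nR]
  have hB : ∀ a v, T.f a v = 0 →
      P * (T.E l v a * T.blk l v a w + T.E l a v * T.blk l a v w) ∈ Q := by
    intro a v hav
    have := hQ v _ (hQ a _ hmem)
    rwa [delta_delta hav hP, nR] at this
  by_cases hS : ∃ a v, T.f a v = 0 ∧ T.blk l a v w + T.blk l v a w ≠ 0
  · obtain ⟨a, v, hav, hne⟩ := hS
    have ha : a ≠ 0 := fun h0 => hne (by simp [h0, Sys.blk])
    have hind : ∀ c : F, v ≠ c • a := fun c hc => hne (by
      rw [hc]
      simp only [Sys.blk, map_smul, LinearMap.smul_apply, smul_mul_assoc, mul_smul_comm, ← Finset.smul_sum]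
      exact add_self_two h2 _)
    obtain ⟨c, hac, hvc⟩ := exists_dual T ha hind 1 1
    obtain ⟨q, hq0, hq⟩ := exists_perp T ![a, v, c] (by omega)
    have hqa : T.f a q = 0 := T.perp_left (hq 0)
    have hqv : T.f v q = 0 := T.perp_left (hq 1)
    have hqc : T.f c q = 0 := T.perp_left (hq 2)
    have hcq : T.f c (c + q) = 0 := by rw [map_add, T.alt, hqc, add_zero]
    have hc0 : c ≠ 0 := by rintro rfl; simp at hac
    have hind' : ∀ r : F, c + q ≠ r • c := fun r hr => by
      have h1 := congrArg (T.f a) hr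
      rw [map_add, hac, hqa, add_zero, map_smul, smul_eq_mul, hac, mul_one] at h1
      rw [← h1, one_smul, add_eq_left] at hr
      exact hq0 hr
    obtain ⟨β, hβ⟩ : ∃ β, β = T.blk l a v w := ⟨_, rfl⟩
    obtain ⟨β', hβ'⟩ : ∃ β', β' = T.blk l v a w := ⟨_, rfl⟩
    obtain ⟨Y, hY⟩ : ∃ Y, Y = T.E l v a * β' + T.E l a v * β := ⟨_, rfl⟩
    have hYm : P * Y ∈ Q := by rw [hY, hβ, hβ']; exact hB a v hav
    have hβc : T.Cen l β := hβ ▸ T.cen_blk _ _ _ _
    have hβc' : T.Cen l β' := hβ' ▸ T.cen_blk _ _ _ _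
    have h4 := hQ (c + q) _ (hQ c _ hYm)
    rw [delta_delta hcq hP, nR, hY, T.blk_add, T.blk_add, T.blk_E_mul hβc', T.blk_E_mul hβc', T.blk_E_mul hβc,
      T.blk_E_mul hβc] at h4
    simp only [map_add, LinearMap.add_apply, hac, hvc, hqa, hqv, T.swap a c, T.swap v c, T.swap a q, T.swap v q,
      nF, add_zero, one_mul, one_smul] at h4
    refine ⟨c, c + q, hc0, hind', hcq, β + β', fun h0 => hne (by rwa [hβ, hβ'] at h0), hβc.add hβc',
      fun m hm hw => ?_, ?_⟩
    · rw [hβ, hβ']; exact (T.cen_blk_other hm _ _ hw).add (T.cen_blk_other hm _ _ hw)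
    · convert h4 using 2
      rw [hx]
      simp only [map_add, LinearMap.add_apply, add_mul, mul_add]
      abel
  simp only [not_exists, not_and, not_not] at hS
  have heq : ∀ a v, T.f a v = 0 → T.blk l v a w = T.blk l a v w := fun a v hav => by
    rw [← sub_eq_zero, sub_eq_add_neg, nR, add_comm]; exact hS a v hav
  obtain ⟨a, v, ha, hind, hav, hne⟩ :
      ∃ a v, a ≠ 0 ∧ (∀ c : F, v ≠ c • a) ∧ T.f a v = 0 ∧ T.blk l a v w ≠ 0 := by
    by_contra hcon
    simp only [not_exists, not_and, not_not] at hcon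
    have hdiag : ∀ a, T.blk l a a w = 0 := by
      intro a
      rcases eq_or_ne a 0 with rfl | ha
      · simp [Sys.blk]
      obtain ⟨b, hb⟩ := T.exists_partner ha
      obtain ⟨q, hq0, hq⟩ := exists_perp T ![a, b] (by omega)
      have hqa : T.f q a = 0 := hq 0
      have hqb : T.f q b = 0 := hq 1
      have hi : ∀ c : F, a ≠ c • q := fun c hc => by
        have := congrArg (fun x => T.f x b) hc
        simp only [map_smul, LinearMap.smul_apply, hqb, hb, smul_zero] at this
        exact one_ne_zero this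
      have hi' : ∀ c : F, a ≠ c • (q + a) := fun c hc => by
        have := congrArg (fun x => T.f x b) hc
        simp only [map_smul, map_add, LinearMap.smul_apply, LinearMap.add_apply, hqb, hb, zero_add, smul_eq_mul,
          mul_one] at this
        rw [← this, one_smul, eq_comm, add_eq_right] at hc
        exact hq0 hc
      have e1 := hcon q a hq0 hi hqa
      have e2 := hcon (q + a) a (fun h0 => hi (-1) (by
            rw [neg_smul, one_smul]; exact eq_neg_of_add_eq_zero_right h0)) hi'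
        (by rw [map_add, LinearMap.add_apply, hqa, T.alt, add_zero])
      rw [show T.blk l (q + a) a w = T.blk l q a w + T.blk l a a w by
        simp [Sys.blk, map_add, mul_add, add_mul, Finset.sum_add_distrib], e1, zero_add] at e2
      exact e2
    refine hwl (T.cen_of_blk_orth hdiag fun a v hav => ?_)
    rcases eq_or_ne a 0 with rfl | ha
    · simp [Sys.blk]
    by_cases hi : ∀ c : F, v ≠ c • a
    · exact hcon a v ha hi hav
    · simp only [not_forall, not_not] at hi
      obtain ⟨c, rfl⟩ := hi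
      rw [show T.blk l a (c • a) w = c • T.blk l a a w by simp [Sys.blk, Finset.smul_sum], hdiag, smul_zero]
  refine ⟨a, v, ha, hind, hav, T.blk l a v w, hne, T.cen_blk _ _ _ _, fun m hm hw => T.cen_blk_other hm _ _ hw, ?_⟩
  convert hB a v hav using 2
  rw [hx, heq a v hav, add_mul, add_comm]

/-- a pair of orthogonal independent vectors is a valid slot -/
theorem exists_slot {a v : A} (ha : a ≠ 0) (h : ∀ c : F, v ≠ c • a) (hav : T.f a v = 0) (l : ι) :
    ∃ v' b u, Sl.Ok T (Sl.xx a v' b u) ∧ T.xop l a v' = T.xop l a v := by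
  obtain ⟨b, hab⟩ := T.exists_partner ha
  obtain ⟨v', hv'⟩ : ∃ v', v' = v + (-T.f v b) • a := ⟨_, rfl⟩
  have hav' : T.f a v' = 0 := by rw [hv', map_add, hav, map_smul, T.alt, smul_zero, add_zero]
  have hvb : T.f v' b = 0 := by simp [hv', hab]
  have hv0 : v' ≠ 0 := fun h0 => h (T.f v b) (by
    rw [hv', neg_smul, ← sub_eq_add_neg, sub_eq_zero] at h0; exact h0)
  obtain ⟨u₀, hu₀⟩ := T.exists_partner hv0
  refine ⟨v', b, T.proj a b u₀, ⟨hab, ?_, hav', T.perp_left (T.proj_e hab u₀), hvb,
    T.perp_left (T.proj_f hab u₀)⟩, ?_⟩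
  · rw [T.proj_apply]; simp [hu₀, T.swap a v', hav', hvb]
  · simp only [Sys.xop, hv', map_add, map_smul, LinearMap.add_apply, LinearMap.smul_apply]
    abel

/-- all multiples, characteristic two -/
theorem scal_mem_two [Finite F] (G : Grp T H) (h2 : (2 : F) = 0) {e : A} (he : e ≠ 0) {y : R} (hy : T.Cen i y)
    (h : InH H (1 + T.E i e e * y)) : InL F H (T.E i e e * y) := by
  haveI : CharP F 2 := CharTwo.of_one_ne_zero_of_two_eq_zero one_ne_zero h2
  obtain ⟨f₀, hef⟩ := T.exists_partner he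
  intro c
  obtain ⟨a, rfl⟩ := FiniteField.isSquare_of_char_two (ringChar.eq F 2) c
  rcases eq_or_ne a 0 with rfl | ha
  · simpa using (InH.one : InH H (1 : R))
  have hm := ((G.tau_mem (i := i) hef ha).mul h).mul (G.tau_mem (i := i) hef (inv_ne_zero ha))
  convert hm using 1
  have h1 : T.tau i e f₀ a * T.E i e e = a • T.E i e e := by
    simp only [Sys.tau, add_mul, smul_mul_assoc, T.rI_E, T.pI_E, T.qI_E, T.proj_self_e hef, hef, T.alt, zero_smul,
      one_smul, neg_zero, smul_zero, map_zero, LinearMap.zero_apply, zero_add, add_zero]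
  have h2' : y * T.tau i e f₀ a⁻¹ = T.tau i e f₀ a⁻¹ * y :=
    (T.commute_phi (add_mem (add_mem (T.rI_mem_phi i e f₀) ((T.phi i).smul_mem _ (T.pI_mem_phi i e f₀)))
      ((T.phi i).smul_mem _ (T.qI_mem_phi i e f₀))) hy).symm
  have h3 : T.E i e e * T.tau i e f₀ a⁻¹ = a • T.E i e e := by
    simp only [Sys.tau, mul_add, mul_smul_comm, T.E_rI, T.E_pI, T.E_qI, T.proj_self_e hef, T.alt, zero_smul,
      T.swap e f₀, hef, neg_smul, one_smul, neg_neg, smul_zero, map_zero, inv_inv, zero_add]
  rw [mul_add, mul_one, add_mul, T.tau_mul hef ha]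
  congr 1
  rw [← mul_assoc (T.tau i e f₀ a), h1, smul_mul_assoc, smul_mul_assoc, mul_assoc, h2', ← mul_assoc, h3,
    smul_mul_assoc, smul_smul]

/-- slots of self-adjoint operators of rank two -/
def AllX (s : ι → Sl A) : Prop := ∀ l, s l = .one ∨ ∃ a v b u, s l = .xx a v b u

/-- **descent**: a monomial in self-adjoint operators of rank two -/
theorem descend_two {Q : Submodule F R} (h2 : (2 : F) = 0) (h6 : 4 ≤ Module.finrank F A)
    (hQ : ∀ l, l ≠ i → ∀ a, ∀ x ∈ Q, delta (T.E l a a) x ∈ Q) {w : R} (hwi : T.Cen i w)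
    (hw : w ∈ Q) (hns : ¬ ∃ c : F, w = c • 1) :
    ∃ s : ι → Sl A, (∀ l, Sl.Ok T (s l)) ∧ AllX s ∧ s i = .one ∧ (∃ l, s l ≠ .one) ∧
      T.tens (pv T s) ∈ Q := by
  suffices key : ∀ J : Finset ι, ∀ (s : ι → Sl A) (w : R), i ∉ J → (∀ l ∈ J, s l = .one) → (∀ l, Sl.Ok T (s l)) →
      AllX s → s i = .one → w ≠ 0 → T.CenOut J w → ((∀ l, s l = .one) → ¬ ∃ c : F, w = c • 1) →
      T.tens (pv T s) * w ∈ Q →
      ∃ s' : ι → Sl A, (∀ l, Sl.Ok T (s' l)) ∧ AllX s' ∧ s' i = .one ∧ (∃ l, s' l ≠ .one) ∧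
        T.tens (pv T s') ∈ Q by
    refine key (Finset.univ.erase i) (fun _ => .one) w (by simp) (fun _ _ => rfl) (fun _ => trivial)
      (fun _ => Or.inl rfl) rfl (fun h0 => hns ⟨0, by rw [h0, zero_smul]⟩) (fun m hm => ?_) (fun _ => hns) ?_
    · have : m = i := by simpa using hm
      exact this ▸ hwi
    · rw [show pv T (fun _ => Sl.one) = 1 from funext fun l => rfl, map_one, one_mul]; exact hw
  intro J
  induction J using Finset.strongInduction with
  | H J ih =>
    intro s w hiJ hJs hok hX hsi hw0 hwJ hne hmem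
    rcases J.eq_empty_or_nonempty with rfl | ⟨l, hl⟩
    · obtain ⟨c, rfl⟩ := T.cenOut_empty hwJ
      have hc : c ≠ 0 := fun h => hw0 (by rw [h, zero_smul])
      refine ⟨s, hok, hX, hsi, ?_, ?_⟩
      · by_contra h
        simp only [not_exists, not_not] at h
        exact hne h ⟨c, rfl⟩
      · have := Submodule.smul_mem _ c⁻¹ hmem
        rwa [mul_smul_comm, mul_one, inv_smul_smul₀ hc] at this
    by_cases hwl : T.Cen l w
    · refine ih _ (Finset.erase_ssubset hl) s w (fun h => hiJ (Finset.mem_of_mem_erase h))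
        (fun m hm => hJs m (Finset.mem_of_mem_erase hm)) hok hX hsi hw0 (fun m hm => ?_) hne hmem
      rcases eq_or_ne m l with rfl | hml
      · exact hwl
      · exact hwJ m fun h => hm (Finset.mem_erase.2 ⟨hml, h⟩)
    have hli : l ≠ i := fun h => hiJ (h ▸ hl)
    obtain ⟨a, v, ha, hind, hav, w', hw'0, hw'c, hw'o, hmem'⟩ :=
      cut h2 h6 (hQ l hli) (Sys.cen_tens (pv_one (hJs l hl))) hmem hwl
    obtain ⟨v', b, u, hok', hxe⟩ := exists_slot (T := T) ha hind hav l
    refine ih _ (Finset.erase_ssubset hl) (Function.update s l (.xx a v' b u)) w'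
      (fun h => hiJ (Finset.mem_of_mem_erase h)) (fun m hm => ?_) (fun m => ?_) (fun m => ?_) ?_ hw'0 (fun m hm => ?_)
      (fun h => absurd (h l) (by simp)) ?_
    · rw [Function.update_of_ne (Finset.mem_erase.1 hm).1]; exact hJs m (Finset.mem_of_mem_erase hm)
    · rcases eq_or_ne m l with rfl | hml
      · simpa using hok'
      · simpa [hml] using hok m
    · rcases eq_or_ne m l with rfl | hml
      · exact Or.inr ⟨a, v', b, u, by simp⟩
      · simpa [hml] using hX m
    · rw [Function.update_of_ne hli.symm]; exact hsi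
    · rcases eq_or_ne m l with rfl | hml
      · exact hw'c
      · exact hw'o m hml (hwJ m fun h => hm (Finset.mem_erase.2 ⟨hml, h⟩))
    · convert hmem' using 1
      rw [pv_update, Sys.tens_update, ← pv_one (T := T) (hJs l hl), Function.update_eq_self]
      show T.xop l a v' * T.tens (pv T s) * w' = _
      rw [hxe, T.commute_phi (T.xop_mem_phi l a v) (Sys.cen_tens (pv_one (hJs l hl))), mul_assoc]

end CfsgLib.MaxSub.SpPowO
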