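import Cfsg.Agent.Lib.MaxSub.SpPowO.Space
import Cfsg.Agent.Lib.MaxSub.SpPow.Perm
import Cfsg.Agent.Lib.Geom.SympSpace
import Mathlib.LinearAlgebra.SymplecticGroup

/-!
Tensor powers of a symplectic space: the idempotent of a Lagrangian decomposition of a factor with an isometry of
the factor exchanging the two halves; an exchange of two factors fixing two others is a commutator of isometries;
an element `1 + s • (E i e e * W)` with `W` square zero does not permute the factors.
-/

set_option autoImplicit false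
set_option linter.unusedSectionVars false

namespace CfsgLib.MaxSub.SpPowO

open CfsgLib.MaxSub.SpPow

variable {F A R ι κ : Type*} [Field F] [AddCommGroup A] [Module F A] [Ring R] [Algebra F R] [Fintype κ]
variable (T : Sys F A R ι κ)

/-- a basis of `A` made of hyperbolic pairs -/
def IsSympFam {s : ℕ} (x y : Fin s → A) : Prop :=
  (∀ a b, T.f (x a) (x b) = 0) ∧ (∀ a b, T.f (y a) (y b) = 0) ∧
    (∀ a b, T.f (x a) (y b) = if a = b then 1 else 0) ∧
    ∀ z, z = (∑ a, T.f z (y a) • x a) - ∑ a, T.f z (x a) • y a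

theorem exists_sympFam {s : ℕ} (hs : Module.finrank F A = 2 * s) : ∃ x y : Fin s → A, IsSympFam T x y := by
  classical
  haveI := finite_dim T
  have hJ : IsUnit (Matrix.J (Fin s) F) :=
    IsUnit.of_mul_eq_one (-Matrix.J (Fin s) F) (by rw [mul_neg, Matrix.J_squared, neg_neg])
  obtain ⟨B, hB⟩ : ∃ B : (Fin s ⊕ Fin s → F) →ₗ[F] (Fin s ⊕ Fin s → F) →ₗ[F] F,
      B = Matrix.toLinearMap₂' F (Matrix.J (Fin s) F) := ⟨_, rfl⟩
  have hBv : ∀ u v, B u v = ∑ a, (-(u (Sum.inl a) * v (Sum.inr a)) + u (Sum.inr a) * v (Sum.inl a)) := fun u v => by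
    rw [hB, Matrix.toLinearMap₂'_apply']
    simp [Matrix.J, dotProduct, Matrix.mulVec, Fintype.sum_sum_type, Matrix.fromBlocks, Matrix.one_apply,
      Finset.sum_add_distrib]
  obtain ⟨e, he⟩ := CfsgLib.Geom.exists_symp_isometry (F := F) (2 * s) T.f B T.alt T.nondeg
    (fun v => by rw [hBv]; exact Finset.sum_eq_zero fun a _ => by ring)
    (fun u hu => by
      funext i
      rcases i with a | a
      · simpa [hBv, Pi.single_apply, apply_ite, Finset.sum_ite_eq'] using hu (Pi.single (Sum.inr a) 1)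
      · simpa [hBv, Pi.single_apply, apply_ite, Finset.sum_ite_eq'] using hu (Pi.single (Sum.inl a) 1))
    hs (by simp; omega)
  have hf : ∀ u v, T.f (e.symm u) (e.symm v) = B u v := fun u v => by
    rw [← he (e.symm u) (e.symm v), LinearEquiv.apply_symm_apply, LinearEquiv.apply_symm_apply]
  refine ⟨fun a => e.symm (Pi.single (Sum.inr a) 1), fun a => e.symm (Pi.single (Sum.inl a) 1),
    fun a b => ?_, fun a b => ?_, fun a b => ?_, fun z => ?_⟩
  · simp [hf, hBv, Pi.single_apply]
  · simp [hf, hBv, Pi.single_apply]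
  · simp [hf, hBv, Pi.single_apply, eq_comm]
  · apply e.injective
    have hz : ∀ v, T.f z (e.symm v) = B (e z) v := fun v => by
      rw [← he z (e.symm v), LinearEquiv.apply_symm_apply]
    simp only [map_sub, map_sum, map_smul, LinearEquiv.apply_symm_apply, hz, hBv]
    funext i
    rcases i with a | a <;> simp [Pi.single_apply, Finset.sum_apply]

variable {T}

/-- the identity as a sum over hyperbolic pairs -/
theorem IsSympFam.sum_one {s : ℕ} {x y : Fin s → A} (h : IsSympFam T x y) (i : ι) :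
    (∑ a, T.E i (x a) (y a)) - ∑ a, T.E i (y a) (x a) = 1 := by
  rw [← mul_one ((∑ a, T.E i (x a) (y a)) - ∑ a, T.E i (y a) (x a)), ← T.one i, Finset.mul_sum]
  refine Finset.sum_congr rfl fun l _ => ?_
  conv_rhs => rw [h.2.2.2 (T.b l)]
  simp only [sub_mul, Finset.sum_mul, T.mul, map_sub, map_sum, map_smul, LinearMap.sub_apply, LinearMap.sum_apply,
    LinearMap.smul_apply]

/-- a Lagrangian idempotent and an isometry of the factor exchanging it with its complement -/
theorem exists_split (T : Sys F A R ι κ) {s : ℕ} (hs : Module.finrank F A = 2 * s) (i : ι) :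
    ∃ p w : R, p ∈ T.phi i ∧ w ∈ T.phi i ∧ p * p = p ∧ T.ad p = 1 - p ∧ T.ad w * w = 1 ∧ w * T.ad w = 1 ∧
      w * p = (1 - p) * w := by
  classical
  obtain ⟨x, y, h⟩ := exists_sympFam T hs
  obtain ⟨hxx, hyy, hxy, -⟩ := id h
  have hyx : ∀ a b, T.f (y a) (x b) = if a = b then -1 else 0 := fun a b => by
    rw [T.swap, hxy]
    split_ifs with h1 h2 h3 <;> first | rfl | simp_all
  obtain ⟨p, hp⟩ : ∃ p, p = ∑ a, T.E i (x a) (y a) := ⟨_, rfl⟩
  obtain ⟨w, hw⟩ : ∃ w, w = ∑ a, (T.E i (y a) (y a) + T.E i (x a) (x a)) := ⟨_, rfl⟩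
  have hq : 1 - p = -∑ a, T.E i (y a) (x a) := by rw [hp, ← h.sum_one i]; abel
  have hpp : p * p = p := by
    rw [hp]
    simp [Finset.sum_mul, Finset.mul_sum, T.mul, hxy, Finset.sum_ite_eq, Finset.sum_ite_eq']
  have had : T.ad p = 1 - p := by rw [hq, hp, map_sum]; simp [T.ad_E]
  have haw : T.ad w = -w := by
    rw [hw, map_sum, ← Finset.sum_neg_distrib]
    exact Finset.sum_congr rfl fun a _ => by rw [map_add, T.ad_E, T.ad_E, neg_add]
  have hww : w * w = -1 := by
    rw [hw, ← h.sum_one i]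
    simp [Finset.sum_mul, Finset.mul_sum, add_mul, mul_add, T.mul, hxx, hyy, hxy, hyx, Finset.sum_add_distrib,
      Finset.sum_ite_eq, Finset.sum_ite_eq']
    abel
  have hwp : w * p = (1 - p) * w := by
    rw [hq, hw, hp]
    simp [Finset.sum_mul, Finset.mul_sum, add_mul, mul_add, T.mul, hxx, hyy, hxy, hyx, Finset.sum_add_distrib,
      Finset.sum_ite_eq, Finset.sum_ite_eq']
  refine ⟨p, w, hp ▸ Submodule.sum_mem _ fun a _ => T.E_mem_phi _ _ _,
    hw ▸ Submodule.sum_mem _ fun a _ => add_mem (T.E_mem_phi _ _ _) (T.E_mem_phi _ _ _), hpp, had, ?_, ?_, hwp⟩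
  · rw [haw, neg_mul, hww, neg_neg]
  · rw [haw, mul_neg, hww, neg_neg]

/-- a self-adjoint involution commuting with two split factors is a commutator of isometries -/
theorem exists_commutator {g p p' w : R} (hg : g * g = 1) (hga : T.ad g = g) (hp : p * p = p) (hp' : p' * p' = p')
    (hpa : T.ad p = 1 - p) (hpa' : T.ad p' = 1 - p') (hw : T.ad w * w = 1) (hw' : w * T.ad w = 1)
    (hwp' : w * p' = (1 - p') * w) (cgp : Commute g p) (cgp' : Commute g p') (cgw : Commute g w)
    (cpp : Commute p p') (cwp : Commute w p) :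
    ∃ a b : Rˣ, T.ad (a : R) * (a : R) = 1 ∧ T.ad (b : R) * (b : R) = 1 ∧
      ((a * b * a⁻¹ * b⁻¹ : Rˣ) : R) = g := by
  obtain ⟨P, hP⟩ : ∃ P, P = p * p' + (1 - p) * (1 - p') := ⟨_, rfl⟩
  have hpk : ∀ z : R, p * (p * z) = p * z := fun z => by rw [← mul_assoc, hp]
  have hpk' : ∀ z : R, p' * (p' * z) = p' * z := fun z => by rw [← mul_assoc, hp']
  have hpq : ∀ z : R, p' * (p * z) = p * (p' * z) := fun z => by rw [← mul_assoc, ← cpp.eq, mul_assoc]
  have hPP : P * P = P := by
    rw [hP]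
    simp only [mul_add, add_mul, mul_sub, sub_mul, one_mul, mul_one, mul_assoc, hpk, hpk', hpq, hp, hp', cpp.eq.symm]
    abel
  have hPa : T.ad P = P := by
    rw [hP, map_add, T.ad_mul, T.ad_mul, map_sub, map_sub, T.ad_one, hpa, hpa', sub_sub_cancel, sub_sub_cancel]
    simp only [mul_sub, sub_mul, mul_one, one_mul, cpp.eq.symm]
    abel
  have cgP : Commute g P := by
    rw [hP]
    exact (cgp.mul_right cgp').add_right
      (((Commute.one_right g).sub_right cgp).mul_right ((Commute.one_right g).sub_right cgp'))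
  have hwP : w * P = (1 - P) * w := by
    have e1 : w * (p * p') = p * (1 - p') * w := by
      rw [← mul_assoc, cwp.eq, mul_assoc, hwp', mul_assoc]
    have e2 : w * ((1 - p) * (1 - p')) = (1 - p) * p' * w := by
      rw [← mul_assoc, mul_sub w 1 p, mul_one, cwp.eq, ← one_sub_mul, mul_assoc, mul_sub w 1 p', mul_one, hwp',
        ← one_sub_mul, sub_sub_cancel, mul_assoc]
    rw [hP, mul_add, e1, e2, ← add_mul]
    congr 1
    simp only [mul_sub, sub_mul, mul_one, one_mul]
    abel
  obtain ⟨d, hd⟩ : ∃ d, d = g - 1 := ⟨_, rfl⟩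
  have hdd : d * d = -(d + d) := by
    rw [hd]; simp only [mul_sub, sub_mul, mul_one, one_mul, hg]; abel
  have cdP : Commute d P := hd ▸ cgP.sub_left (Commute.one_left P)
  have cdw : Commute d w := hd ▸ cgw.sub_left (Commute.one_left w)
  have hdk : d * P * (d * P) = -(d * P + d * P) := by
    rw [mul_assoc, ← mul_assoc P, ← cdP.eq, mul_assoc, hPP, ← mul_assoc, hdd, neg_mul, add_mul]
  have hxx : (1 + d * P) * (1 + d * P) = 1 := by
    simp only [add_mul, mul_add, one_mul, mul_one, hdk]; abel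
  have hxa : T.ad (1 + d * P) = 1 + d * P := by
    rw [map_add, T.ad_one, T.ad_mul, hPa, hd, map_sub, T.ad_one, hga, ← hd, cdP.eq]
  let a : Rˣ := ⟨1 + d * P, 1 + d * P, hxx, hxx⟩
  let b : Rˣ := ⟨w, T.ad w, hw', hw⟩
  refine ⟨a, b, by show T.ad (1 + d * P) * (1 + d * P) = 1; rw [hxa, hxx], hw, ?_⟩
  show (1 + d * P) * w * (1 + d * P) * T.ad w = g
  have e3 : w * (1 + d * P) = (1 + d * (1 - P)) * w := by
    rw [mul_add, mul_one, ← mul_assoc, ← cdw.eq, mul_assoc, hwP, add_mul, one_mul, mul_assoc]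
  rw [mul_assoc (1 + d * P) w, e3, ← mul_assoc, mul_assoc _ w, hw', mul_one]
  have e4 : d * P * (d * (1 - P)) = 0 := by
    rw [mul_assoc, ← mul_assoc P, ← cdP.eq, mul_assoc, mul_sub, mul_one, hPP, sub_self, mul_zero, mul_zero]
  rw [add_mul, one_mul, mul_add, mul_one, e4, add_zero, add_assoc, ← mul_add, sub_add_cancel, mul_one, hd,
    add_sub_cancel]

/-- such an element does not permute the factors -/
theorem not_permutes_of [Fintype ι] [DecidableEq ι] [Nontrivial R] {i : ι} {e f₀ : A} (hef : T.f e f₀ = 1) {W : R} (hW : T.Cen i W)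
    (hWW : W * W = 0) (hW0 : W ≠ 0) {s : F} (hs : s ≠ 0) {g : Rˣ}
    (hgv : (g : R) = 1 + s • (T.E i e e * W)) : ¬ Permutes T g := by
  rintro ⟨σ, hσ⟩
  have hff : T.f f₀ e = -1 := by rw [T.swap, hef]
  have hzz : s • (T.E i e e * W) * (s • (T.E i e e * W)) = 0 := by
    rw [smul_mul_smul, mul_assoc, ← mul_assoc W, hW, mul_assoc, hWW, mul_zero, mul_zero, smul_zero]
  have hX : (g : R) * T.E i f₀ f₀ * (↑g⁻¹ : R) =
      T.E i f₀ f₀ - s • ((T.E i e f₀ + T.E i f₀ e) * W) := by
    rw [hgv, inv_one_add hzz hgv]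
    have e1 : T.E i e e * W * T.E i f₀ f₀ = -(T.E i e f₀ * W) := by
      rw [mul_assoc, hW, ← mul_assoc, T.mul, hff, neg_smul, one_smul, neg_mul]
    have e2 : T.E i f₀ f₀ * (T.E i e e * W) = T.E i f₀ e * W := by
      rw [← mul_assoc, T.mul, hef, one_smul]
    have e3 : T.E i e f₀ * W * (T.E i e e * W) = 0 := by
      rw [mul_assoc, ← mul_assoc W, hW, mul_assoc, hWW, mul_zero, mul_zero]
    simp only [add_mul, mul_sub, sub_mul, one_mul, mul_one, smul_mul_assoc, mul_smul_comm, e1, e2, neg_mul, e3,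
      neg_zero, smul_zero, smul_neg, smul_add]
    abel
  have hmem := hσ i f₀ f₀
  rw [hX] at hmem
  by_cases hj : σ i = i
  · rw [hj] at hmem
    obtain ⟨b, hb⟩ := T.blk_phi hmem f₀ e
    rw [show T.E i f₀ f₀ = T.E i f₀ f₀ * 1 from (mul_one _).symm, add_mul, T.blk_sub, T.blk_smul, T.blk_add,
      T.blk_E_mul (T.cen_one i), T.blk_E_mul hW, T.blk_E_mul hW, T.alt, hef, T.alt, zero_mul, zero_smul, one_mul,
      one_smul, zero_mul, zero_smul, add_zero, zero_sub] at hb
    have h1 : W = (-(s⁻¹ * b)) • (1 : R) := by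
      rw [neg_smul, mul_smul, ← hb, smul_neg, neg_neg, inv_smul_smul₀ hs]
    have h2 := hWW
    rw [h1, smul_mul_smul, mul_one, smul_eq_zero, mul_self_eq_zero] at h2
    exact hW0 (by rw [h1, h2.resolve_right one_ne_zero, zero_smul])
  · have h := (T.cen_of_phi (Ne.symm hj) hmem) e e
    have n1 : ∀ p q : A, T.E i p q * W * T.E i e e = T.E i p q * T.E i e e * W := fun p q => by
      rw [mul_assoc, hW, ← mul_assoc]
    simp only [add_mul, mul_add, sub_mul, mul_sub, smul_mul_assoc, mul_smul_comm, n1, ← mul_assoc (T.E i e e), T.mul,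
      hef, hff, T.alt, zero_smul, one_smul, neg_smul, zero_mul, add_zero, zero_add, smul_neg, neg_mul] at h
    have h3 := congrArg (fun z => T.E i f₀ e * z) h
    simp only [mul_sub, mul_smul_comm, mul_neg, ← mul_assoc, T.mul, T.alt, hef, zero_smul, one_smul, zero_mul,
      smul_zero, sub_zero, neg_zero] at h3
    have he0 : e ≠ 0 := fun h => by simp [h] at hef
    have hf0 : f₀ ≠ 0 := fun h => by simp [h] at hef
    refine one_ne_zero (T.E_mul_cancel hf0 he0 (T.cen_one i) ?_)
    rw [mul_one]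
    simpa [hff] using h3

end CfsgLib.MaxSub.SpPowO
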