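import Cfsg.Agent.Lib.MaxSub.SpPowO.SwapTwo

/-!
Tensor powers of a symplectic space, characteristic two: members permuting a set of factors; a root whose root
element permutes the factors of the set is pure, provided the roots living in smaller sets of factors are.
-/

set_option autoImplicit false
set_option linter.unusedSectionVars false

namespace CfsgLib.MaxSub.SpPowO

open CfsgLib.MaxSub.SpPow

variable {F A R ι κ : Type*} [Field F] [AddCommGroup A] [Module F A] [Ring R] [Algebra F R] [Fintype κ]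
variable {T : Sys F A R ι κ} {H : Subgroup Rˣ}

/-- `x` commutes with the factors outside `S` -/
def Off (T : Sys F A R ι κ) (S : Finset ι) (x : R) : Prop := ∀ l ∉ S, T.Cen l x

theorem Off.mul {S : Finset ι} {x y : R} (hx : Off T S x) (hy : Off T S y) : Off T S (x * y) :=
  fun l hl => (hx l hl).mul (hy l hl)

theorem Off.add {S : Finset ι} {x y : R} (hx : Off T S x) (hy : Off T S y) : Off T S (x + y) :=
  fun l hl => (hx l hl).add (hy l hl)

theorem Off.inv {S : Finset ι} {g : Rˣ} (h : Off T S (g : R)) : Off T S (↑g⁻¹ : R) := fun l hl u v =>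
  (Commute.units_inv_left (h l hl u v : Commute (g : R) (T.E l u v))).eq

theorem off_one (T : Sys F A R ι κ) (S : Finset ι) : Off T S 1 := fun l _ => T.cen_one l

theorem off_of_phi (T : Sys F A R ι κ) {S : Finset ι} {k : ι} (hk : k ∈ S) {x : R} (hx : x ∈ T.phi k) :
    Off T S x := fun l hl => Sys.cen_of_phi_ne (fun h : l = k => hl (h ▸ hk)) hx

theorem Off.conj {S : Finset ι} {g : Rˣ} {x : R} (hg : Off T S (g : R)) (hx : Off T S x) :
    Off T S ((g : R) * x * (↑g⁻¹ : R)) := (hg.mul hx).mul hg.inv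

theorem pure_factor [Nontrivial R] {S : Finset ι} {x : R} (hx : IsPure T x) (hS : Off T S x) :
    ∃ k ∈ S, ∃ e, e ≠ 0 ∧ ∃ a : F, a ≠ 0 ∧ x = a • T.E k e e := by
  obtain ⟨k, e, he, a, ha, rfl⟩ := hx
  refine ⟨k, ?_, e, he, a, ha, rfl⟩
  by_contra hk
  have := (hS k hk).smul a⁻¹
  rw [inv_smul_smul₀ ha] at this
  exact Sys.not_cen_E he this

theorem Carries.comp {g h : Rˣ} {i j k : ι} (h1 : Carries T g i j) (h2 : Carries T h j k) :
    Carries T (h * g) i k := fun y hy => by
  have := h2 _ (h1 y hy)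
  simpa [mul_assoc] using this

theorem Carries.refl (T : Sys F A R ι κ) (i : ι) : Carries T (1 : Rˣ) i i := fun y hy => by simpa using hy

theorem Carries.pow {g : Rˣ} {i : ι} (h : Carries T g i i) (m : ℕ) : Carries T (g ^ m) i i := by
  induction m with
  | zero => simpa using Carries.refl T i
  | succ m ih => rw [pow_succ']; exact ih.comp h

theorem Carries.right_unique [Nontrivial R] {g : Rˣ} {i j j' : ι} {e : A} (he : e ≠ 0)
    (h1 : Carries T g i j) (h2 : Carries T g i j') : j = j' := by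
  by_contra hne
  obtain ⟨X, hX⟩ : ∃ X, X = (g : R) * T.E i e e * (↑g⁻¹ : R) := ⟨_, rfl⟩
  have m1 : X ∈ T.phi j := hX ▸ h1 _ (T.E_mem_phi i e e)
  have m2 : T.Cen j X := hX ▸ Sys.cen_of_phi_ne hne (h2 _ (T.E_mem_phi i e e))
  obtain ⟨u, hu⟩ := T.exists_partner he
  obtain ⟨s, hs⟩ := T.blk_phi m1 u e
  have e1 : X = s • (1 : R) := by rw [← hs, T.blk_cen m2, hu, one_smul]
  have h0 : T.E i e e = s • (1 : R) := by
    have := congrArg (fun t => (↑g⁻¹ : R) * t * (g : R)) (hX.symm.trans e1)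
    simpa [mul_assoc] using this
  have hsq := T.n_mul_self i e
  rw [h0, smul_mul_smul, one_mul, smul_eq_zero, or_iff_left one_ne_zero, mul_self_eq_zero] at hsq
  exact T.E_ne_zero i he he (by rw [h0, hsq, zero_smul])

/-- a member permuting the factors in `S` -/
def Good (T : Sys F A R ι κ) (H : Subgroup Rˣ) (S : Finset ι) (g : Rˣ) : Prop :=
  g ∈ H ∧ Off T S (g : R) ∧ ∀ k ∈ S, ∃ k' ∈ S, Carries T g k k'

theorem Good.mul {S : Finset ι} {g h : Rˣ} (hg : Good T H S g) (hh : Good T H S h) : Good T H S (g * h) := by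
  refine ⟨mul_mem hg.1 hh.1, by rw [Units.val_mul]; exact hg.2.1.mul hh.2.1, fun k hk => ?_⟩
  obtain ⟨k', hk', h1⟩ := hh.2.2 k hk
  obtain ⟨k'', hk'', h2⟩ := hg.2.2 k' hk'
  exact ⟨k'', hk'', h1.comp h2⟩

theorem Good.inv [Finite R] {S : Finset ι} {g : Rˣ} (hg : Good T H S g) : Good T H S g⁻¹ := by
  haveI : Finite Rˣ := Finite.of_injective _ Units.val_injective
  have hpow : ∀ m, Good T H S (g ^ m) := by
    intro m
    induction m with
    | zero => exact ⟨by simp, by simpa using off_one T S, fun k hk => ⟨k, hk, by simpa using Carries.refl T k⟩⟩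
    | succ m ih => rw [pow_succ]; exact ih.mul hg
  convert hpow (orderOf g - 1) using 1
  refine inv_eq_of_mul_eq_one_right ?_
  rw [← pow_succ', Nat.sub_add_cancel (orderOf_pos g), pow_orderOf_eq_one]

/-- the roots in fewer factors are pure -/
def Low (T : Sys F A R ι κ) (H : Subgroup Rˣ) (S : Finset ι) : Prop :=
  ∀ k ∈ S, ∀ x, IsRoot T H x → Off T S x → T.Cen k x → IsPure T x

variable [Fintype ι] [DecidableEq ι] [Finite F] [Finite R] [Nontrivial R]
variable {S : Finset ι}

/-- a root commuting with a root element of a factor of the set is pure -/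
theorem pure_of_commute_two (G : Grp T H) (Z : Ctr T H) (h2 : (2 : F) = 0) (h6 : 4 < Module.finrank F A)
    (L : Low T H S) {y : R} (hy : IsPure T y) (hyS : Off T S y) {x : R} (hx : IsRoot T H x) (hxS : Off T S x)
    (hc : y * x = x * y) : IsPure T x := by
  obtain ⟨k, hk', e, he, a, ha, rfl⟩ := pure_factor hy hyS
  rw [smul_mul_assoc, mul_smul_comm] at hc
  exact (pure_or_cen_two G Z h2 h6 he hx (smul_right_injective R ha hc)).elim id (L k hk' x hx hxS)

/-- one pure image decides -/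
theorem good_of_image_two (G : Grp T H) (Z : Ctr T H) (h2 : (2 : F) = 0) (h6 : 4 < Module.finrank F A)
    (L : Low T H S) {g : Rˣ} (hg : g ∈ H) (hgS : Off T S (g : R)) {y : R} (hy : IsPure T y) (hyS : Off T S y)
    (himg : IsPure T ((g : R) * y * (↑g⁻¹ : R))) : Good T H S g := by
  obtain ⟨k₀, hk₀, e, he, a, ha, rfl⟩ := pure_factor hy hyS
  have carry : ∀ l ∈ S, ∀ y, IsPure T y → y ∈ T.phi l → IsPure T ((g : R) * y * (↑g⁻¹ : R)) →
      ∃ l' ∈ S, Carries T g l l' := by
    intro l hl y hy hyl himg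
    obtain ⟨v, hv, b, hb, rfl⟩ := IsPure.of_mem_phi hy hyl
    obtain ⟨l', hl', v', hv', c, hc, hgv⟩ := pure_factor himg (hgS.conj (off_of_phi T hl hyl))
    rw [mul_smul_comm, smul_mul_assoc, ← eq_inv_smul_iff₀ hb, smul_smul] at hgv
    exact ⟨l', hl', stab_two G Z h2 h6 hv hv' hg (mul_ne_zero (inv_ne_zero hb) hc) hgv⟩
  have hm : a • T.E k₀ e e ∈ T.phi k₀ := (T.phi k₀).smul_mem a (T.E_mem_phi k₀ e e)
  refine ⟨hg, hgS, fun l hl => ?_⟩
  rcases eq_or_ne l k₀ with rfl | hne
  · exact carry l hl _ ⟨l, e, he, a, ha, rfl⟩ hm himg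
  have hy' : IsPure T (a • T.E l e e) := ⟨l, e, he, a, ha, rfl⟩
  have hl' : a • T.E l e e ∈ T.phi l := (T.phi l).smul_mem a (T.E_mem_phi l e e)
  refine carry l hl _ hy' hl' (pure_of_commute_two G Z h2 h6 L himg (hgS.conj (off_of_phi T hk₀ hm))
    (hy'.isRoot.conj hg) (hgS.conj (off_of_phi T hl hl')) ?_)
  have := congrArg (fun t => (g : R) * t * (↑g⁻¹ : R)) (T.phi_comm_cen hm (Sys.cen_of_phi_ne (Ne.symm hne) hl'))
  simpa [mul_assoc] using this.symm

/-- **a root whose root element permutes the factors is pure** -/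
theorem pure_of_good_two (G : Grp T H) (Z : Ctr T H) (h2 : (2 : F) = 0) (h6 : 4 < Module.finrank F A)
    (L : Low T H S) {i : ι} (hi : i ∈ S) {x : R} (hx : IsRoot T H x) (hxS : Off T S x) {g : Rˣ}
    (hg : Good T H S g) (hgx : (g : R) = 1 + x) : IsPure T x := by
  obtain ⟨-, -, y₀, ⟨-, e, he, -, -, -⟩, -⟩ := id hx
  obtain ⟨j, hj, hij⟩ := hg.2.2 i hi
  rcases eq_or_ne j i with rfl | hji
  · have hp : IsPure T (T.E j e e) := ⟨j, e, he, 1, one_ne_zero, (one_smul _ _).symm⟩
    have hm := hij _ (T.E_mem_phi j e e)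
    obtain ⟨e', he', b, hb, hgn⟩ := IsPure.of_mem_phi (pure_of_phi_any G (hp.isRoot.conj hg.1) hm) hm
    exact (pure_or_cen_of_image_two G Z h2 h6 he he' hx hg.1 hgx hb hgn).elim id (L j hi x hx hxS)
  · exact (no_swap_two h2 h6 hx hgx hji.symm hij he).elim

end CfsgLib.MaxSub.SpPowO
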