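import Cfsg.Agent.Lib.MaxSub.SpPowO.Cut

/-!
Tensor powers of a symplectic space: commutators of monomials cut in all slots but one; the slot kept carries the
projection on one or two hyperbolic planes.
-/

set_option autoImplicit false
set_option linter.unusedSectionVars false

namespace CfsgLib.MaxSub.SpPowO

open CfsgLib.MaxSub.SpPow

variable {F A R ι κ : Type*} [Field F] [AddCommGroup A] [Module F A] [Ring R] [Algebra F R] [Fintype κ]
  [Fintype ι] [DecidableEq ι]
variable {T : Sys F A R ι κ} {H : Subgroup Rˣ}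

/-- a root element in the plane of a slot -/
def rootSl : Sl A → Sl A
  | .one => .one
  | .nn a b => .nn a b
  | .xx a _ b _ => .nn a b

theorem rootSl_ok {s : Sl A} (h : Sl.Ok T s) : Sl.Ok T (rootSl s) := by
  cases s with
  | one => trivial
  | nn a b => exact h
  | xx a v b u => exact h.1

theorem rootSl_nn {s : Sl A} (hs : s ≠ .one) : ∃ a b, rootSl s = .nn a b := by
  cases s with
  | one => exact absurd rfl hs
  | nn a b => exact ⟨a, b, rfl⟩
  | xx a v b u => exact ⟨a, b, rfl⟩

variable (T) in
/-- the projection on the planes of a slot -/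
def planes (l : ι) : Sl A → R
  | .one => 1
  | .nn a b => T.xop l a b
  | .xx a v b u => T.xop l a b + T.xop l v u

theorem planes_mem (l : ι) (s : Sl A) : planes T l s ∈ T.phi l := by
  cases s with
  | one => exact T.one_mem_phi l
  | nn a b => exact T.xop_mem_phi l a b
  | xx a v b u => exact add_mem (T.xop_mem_phi l a b) (T.xop_mem_phi l v u)

/-- products of a slot with its opposite -/
theorem separate_delta {s : Sl A} (h : Sl.Ok T s) (hs : s ≠ .one) (l : ι) :
    delta (T.op l (rootSl s) : R) ((T.op l s : R) * (Sl.sgn T s • (T.op l s.flip : R))) =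
        -(T.op l (rootSl s) : R) ∧
      delta (T.op l (rootSl s) : R) ((Sl.sgn T s • (T.op l s.flip : R)) * (T.op l s : R)) =
        (T.op l (rootSl s) : R) ∧
      (T.op l s : R) * (Sl.sgn T s • (T.op l s.flip : R)) + (Sl.sgn T s • (T.op l s.flip : R)) * (T.op l s : R) =
        planes T l s := by
  cases s with
  | one => exact absurd rfl hs
  | nn a b =>
    simp only [Sl.Ok] at h
    refine ⟨?_, ?_, ?_⟩ <;>
      simp [delta, Sys.op, rootSl, planes, Sys.xop, Sl.flip, Sl.sgn, T.mul, T.alt, T.swap a b, h, smul_mul_assoc,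
        mul_smul_comm, sub_eq_add_neg]
  | xx a v b u =>
    obtain ⟨h1, h2, h3, h4, h5, h6⟩ := h
    refine ⟨?_, ?_, ?_⟩ <;>
      simp [delta, Sys.op, rootSl, planes, Sys.xop, Sl.flip, Sl.sgn, T.mul, T.alt, mul_sub, sub_mul, mul_add,
        add_mul, h1, h2, h3, h4, h5, h6, T.swap a b, T.swap v u, T.swap a v, T.swap a u, T.swap v b, T.swap b u,
        smul_mul_assoc, mul_smul_comm, sub_eq_add_neg] <;>
      abel

theorem delta_tens (g : (l : ι) → T.phiA l) (l : ι) (M : T.phiA l) :
    delta (M : R) (T.tens g) = T.tens (Function.update g l (M * g l - g l * M - M * g l * M)) := by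
  rw [Sys.tens_split g l, Sys.tens_update g l (M * g l - g l * M - M * g l * M)]
  simp only [delta, Subalgebra.coe_sub, Subalgebra.coe_mul, sub_mul, mul_assoc,
    ← T.commute_phi (T.mem_phi M) (Sys.cen_rest g l)]

/-- differences separate the two orders -/
theorem comb_delta {Q : Submodule F R} (C : Finset ι) (M : (l : ι) → T.phiA l)
    (hQ : ∀ l ∈ C, ∀ x ∈ Q, delta (M l : R) x ∈ Q) :
    ∀ (g h : (l : ι) → T.phiA l) (ε : F), (∀ l ∈ C, M l * g l - g l * M l - M l * g l * M l = -M l) →
      (∀ l ∈ C, M l * h l - h l * M l - M l * h l * M l = M l) → T.tens g + ε • T.tens h ∈ Q →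
      T.tens (fun l => if l ∈ C then M l else g l) +
        (ε * (-1) ^ C.card) • T.tens (fun l => if l ∈ C then M l else h l) ∈ Q := by
  induction C using Finset.induction_on with
  | empty =>
    intro g h ε _ _ hmem
    simpa using hmem
  | insert l C hl ih =>
    intro g h ε hg hh hmem
    have h1 := Q.smul_mem (-1 : F) (hQ l (Finset.mem_insert_self _ _) _ hmem)
    rw [delta_add, delta_smul, delta_tens, delta_tens, hg l (Finset.mem_insert_self _ _),
      hh l (Finset.mem_insert_self _ _), ← neg_one_smul F (M l), Sys.tens_update_smul, smul_add, smul_smul,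
      smul_smul, neg_one_mul (-1 : F), neg_neg, one_smul] at h1
    have h2 := ih (fun m hm => hQ m (Finset.mem_insert_of_mem hm)) (Function.update g l (M l))
      (Function.update h l (M l)) (-1 * ε)
      (fun m hm => by rw [Function.update_of_ne (fun e : m = l => hl (e ▸ hm))]; exact hg m (Finset.mem_insert_of_mem hm))
      (fun m hm => by rw [Function.update_of_ne (fun e : m = l => hl (e ▸ hm))]; exact hh m (Finset.mem_insert_of_mem hm))
      h1
    have e : ∀ g : (l : ι) → T.phiA l, (fun m => if m ∈ C then M m else Function.update g l (M l) m) =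
        fun m => if m ∈ insert l C then M m else g m := fun g => by
      funext m
      rcases eq_or_ne m l with rfl | hml <;> simp [*]
    rw [e, e] at h2
    convert h2 using 3
    rw [Finset.card_insert_of_notMem hl, pow_succ]
    ring

/-- **the commutator with one slot kept** -/
theorem keep {Q : Submodule F R} {s : ι → Sl A} (hs : ∀ l, Sl.Ok T (s l)) (C : Finset ι) {r : ι} (hr : r ∉ C)
    (hne : ∀ l ∈ insert r C, s l ≠ .one)
    (hQ : ∀ l ∈ C, ∀ a, ∀ x ∈ Q, delta (T.E l a a) x ∈ Q) (g h : (l : ι) → T.phiA l)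
    (hg : ∀ l ∈ insert r C, (g l : R) = (T.op l (s l) : R) * (Sl.sgn T (s l) • (T.op l (s l).flip : R)))
    (hh : ∀ l ∈ insert r C, (h l : R) = (Sl.sgn T (s l) • (T.op l (s l).flip : R)) * (T.op l (s l) : R))
    (heq : ∀ l ∉ insert r C, g l = h l) {ε : F} (hε : ε * (-1) ^ C.card = 1)
    (hmem : T.tens g + ε • T.tens h ∈ Q) :
    planes T r (s r) *
      T.tens (Function.update (fun l => if l ∈ C then T.op l (rootSl (s l)) else g l) r 1) ∈ Q := by
  have hroot : ∀ l ∈ C, ∀ x ∈ Q, delta ((T.op l (rootSl (s l)) : T.phiA l) : R) x ∈ Q := by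
    intro l hl x hx
    obtain ⟨a, b, e⟩ := rootSl_nn (hne l (Finset.mem_insert_of_mem hl))
    rw [e]
    exact hQ l hl a x hx
  have h1 := comb_delta C (fun l => T.op l (rootSl (s l))) hroot g h ε (fun l hl => Subtype.ext ?_)
    (fun l hl => Subtype.ext ?_) hmem
  rotate_left
  · have := (separate_delta (hs l) (hne l (Finset.mem_insert_of_mem hl)) l).1
    rw [← hg l (Finset.mem_insert_of_mem hl)] at this
    simpa [delta] using this
  · have := (separate_delta (hs l) (hne l (Finset.mem_insert_of_mem hl)) l).2.1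
    rw [← hh l (Finset.mem_insert_of_mem hl)] at this
    simpa [delta] using this
  rw [hε, one_smul, Sys.tens_split _ r] at h1
  nth_rewrite 2 [Sys.tens_split _ r] at h1
  rw [show Function.update (fun l => if l ∈ C then T.op l (rootSl (s l)) else h l) r 1 =
      Function.update (fun l => if l ∈ C then T.op l (rootSl (s l)) else g l) r 1 by
    funext m
    rcases eq_or_ne m r with rfl | hm
    · simp
    · by_cases hmC : m ∈ C <;> simp [hm, hmC, heq m], ← add_mul] at h1
  rw [if_neg hr, if_neg hr, hg r (Finset.mem_insert_self _ _), hh r (Finset.mem_insert_self _ _),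
    (separate_delta (hs r) (hne r (Finset.mem_insert_self _ _)) r).2.2] at h1
  exact h1

/-- the planes of a slot become one plane with the difference at a vector orthogonal to them -/
theorem delta_planes {s : Sl A} (h : Sl.Ok T s) (hs : s ≠ .one) (l : ι) {q : A}
    (hq : ∀ a b, (s = .nn a b → T.f q a = 0 ∧ T.f q b = 0) ∧
      ∀ v u, s = .xx a v b u → T.f q a = 0 ∧ T.f q b = 0 ∧ T.f q v = 0 ∧ T.f q u = 0) (hq0 : q ≠ 0) :
    ∃ a w, a ≠ 0 ∧ (∀ c : F, w ≠ c • a) ∧ T.f a w = 0 ∧
      delta (T.E l w w) (planes T l s) = -T.xop l a w := by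
  cases s with
  | one => exact absurd rfl hs
  | nn a b =>
    simp only [Sl.Ok] at h
    obtain ⟨h1, h2⟩ := (hq a b).1 rfl
    have ha : a ≠ 0 := by rintro rfl; simp at h
    refine ⟨a, a + q, ha, fun c hc => ?_, by rw [map_add, T.alt, T.perp_left h1, add_zero], ?_⟩
    · have e := congrArg (fun x => T.f x b) hc
      simp only [map_add, map_smul, LinearMap.add_apply, LinearMap.smul_apply, h, h2, add_zero, smul_eq_mul,
        mul_one] at e
      rw [← e, one_smul, add_eq_left] at hc
      exact hq0 hc
    · obtain ⟨w, hw⟩ : ∃ w, w = a + q := ⟨_, rfl⟩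
      rw [← hw]
      have e1 : T.f w a = 0 := by rw [hw, map_add, LinearMap.add_apply, T.alt, h1, add_zero]
      have e2 : T.f w b = 1 := by rw [hw, map_add, LinearMap.add_apply, h, h2, add_zero]
      simp [delta, planes, Sys.xop, T.mul, mul_sub, sub_mul, e1, e2, T.swap w a, T.swap w b, smul_mul_assoc,
        mul_smul_comm]
  | xx a v b u =>
    obtain ⟨k1, k2, k3, k4, k5, k6⟩ := h
    obtain ⟨h1, h2, h3, h4⟩ := (hq a b).2 v u rfl
    have ha : a ≠ 0 := by rintro rfl; simp at k1
    refine ⟨a, a + q, ha, fun c hc => ?_, by rw [map_add, T.alt, T.perp_left h1, add_zero], ?_⟩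
    · have e := congrArg (fun x => T.f x b) hc
      simp only [map_add, map_smul, LinearMap.add_apply, LinearMap.smul_apply, k1, h2, add_zero, smul_eq_mul,
        mul_one] at e
      rw [← e, one_smul, add_eq_left] at hc
      exact hq0 hc
    · obtain ⟨w, hw⟩ : ∃ w, w = a + q := ⟨_, rfl⟩
      rw [← hw]
      have e1 : T.f w a = 0 := by rw [hw, map_add, LinearMap.add_apply, T.alt, h1, add_zero]
      have e2 : T.f w b = 1 := by rw [hw, map_add, LinearMap.add_apply, k1, h2, add_zero]
      have e3 : T.f w v = 0 := by rw [hw, map_add, LinearMap.add_apply, k3, h3, add_zero]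
      have e4 : T.f w u = 0 := by rw [hw, map_add, LinearMap.add_apply, k4, h4, add_zero]
      simp [delta, planes, Sys.xop, T.mul, mul_sub, sub_mul, mul_add, add_mul, e1, e2, e3, e4, T.swap w a,
        T.swap w b, T.swap w v, T.swap w u, smul_mul_assoc, mul_smul_comm]

/-- without such a vector the planes are everything -/
theorem planes_eq_one {s : Sl A} {a v b u : A} (hs : s = .xx a v b u) (h : Sl.Ok T s) (l : ι)
    (hno : ∀ q, T.f q a = 0 → T.f q b = 0 → T.f q v = 0 → T.f q u = 0 → q = 0) : planes T l s = 1 := by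
  subst hs
  obtain ⟨k1, k2, k3, k4, k5, k6⟩ := h
  refine sub_eq_zero.1 (T.eq_zero_of_blk l fun x y => ?_)
  rw [T.blk_sub, T.blk_cen (T.cen_one l), planes, Sys.xop, Sys.xop, T.blk_add, T.blk_sub, T.blk_sub,
    ← mul_one (T.E l a b), ← mul_one (T.E l b a), ← mul_one (T.E l v u), ← mul_one (T.E l u v),
    T.blk_E_mul (T.cen_one l), T.blk_E_mul (T.cen_one l), T.blk_E_mul (T.cen_one l), T.blk_E_mul (T.cen_one l),
    ← sub_smul, ← sub_smul, ← add_smul, ← sub_smul]
  refine (congrArg (· • (1 : R)) ?_).trans (zero_smul F 1)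
  have h0 := hno (y - (T.f y b • a - T.f y a • b + (T.f y u • v - T.f y v • u))) ?_ ?_ ?_ ?_
  · have e := congrArg (fun z => T.f z x) h0
    simp only [map_sub, map_add, map_smul, LinearMap.sub_apply, LinearMap.add_apply, LinearMap.smul_apply,
      smul_eq_mul, map_zero, LinearMap.zero_apply] at e
    linear_combination -e
  all_goals
    simp [k1, k2, k3, k4, k5, k6, T.alt, T.swap a b, T.swap v u, T.swap a v, T.swap a u, T.swap v b, T.swap b u]

end CfsgLib.MaxSub.SpPowO
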