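import Cfsg.Agent.Lib.MaxSub.SpPowO.Commutator

/-!
Tensor powers of a symplectic space with an even number of factors (or in characteristic two): when a centre of a
root parabolic meets the group outside the root group, the group contains a long root element: root elements in
all factors but one and a self-adjoint operator of rank two in the last.
-/

set_option autoImplicit false
set_option linter.unusedSectionVars false

namespace CfsgLib.MaxSub.SpPowO

open CfsgLib.MaxSub.SpPow

variable {F A R ι κ : Type*} [Field F] [AddCommGroup A] [Module F A] [Ring R] [Algebra F R] [Fintype κ]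
  [Fintype ι] [DecidableEq ι]
variable {T : Sys F A R ι κ} {H : Subgroup Rˣ}

/-- a long root element -/
def Long (T : Sys F A R ι κ) (H : Subgroup Rˣ) : Prop :=
  ∃ (s : ι → Sl A) (l : ι) (a v : A), (∀ m, Sl.Ok T (s m)) ∧ s l = .one ∧
    (∀ m, m ≠ l → ∃ a b, s m = .nn a b) ∧ a ≠ 0 ∧ (∀ c : F, v ≠ c • a) ∧
    InL F H (T.xop l a v * T.tens (pv T s))

theorem AllB.long {s : ι → Sl A} {K : Finset ι} {r : ι} (h : AllB T H s K r)
    (hcard : K.card + 1 = Fintype.card ι) : Long T H := by
  obtain ⟨hr, hok, hout, hin, a, v, ha, hind, -, hmem⟩ := h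
  have hK : insert r K = Finset.univ :=
    Finset.eq_univ_of_card _ (by rw [Finset.card_insert_of_notMem hr, hcard])
  exact ⟨s, r, a, v, hok, hout r hr, fun m hm => hin m
    ((Finset.mem_insert.1 (hK ▸ Finset.mem_univ m : m ∈ insert r K)).resolve_left hm), ha, hind, hmem⟩

/-- planes next to root elements: one self-adjoint operator of rank two, or nothing -/
theorem settle (G : Grp T H) {s : ι → Sl A} (hok : ∀ l, Sl.Ok T (s l)) {K : Finset ι}
    (hout : ∀ l ∉ K, s l = .one) (hin : ∀ l ∈ K, ∃ a b, s l = .nn a b) {r i : ι} (hr : r ∉ K) (hi : i ∈ K)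
    {a v b u : A} (hx : Sl.Ok T (Sl.xx a v b u))
    (hmem : InL F H (planes T r (.xx a v b u) * T.tens (pv T s))) :
    (∃ s', AllB T H s' K r) ∨ ((∀ q, T.f q a = 0 → T.f q b = 0 → T.f q v = 0 → T.f q u = 0 → q = 0) ∧
      AllN T H s K) := by
  by_cases hq : ∃ q, q ≠ 0 ∧ T.f q a = 0 ∧ T.f q b = 0 ∧ T.f q v = 0 ∧ T.f q u = 0
  · left
    obtain ⟨q, hq0, h1, h2, h3, h4⟩ := hq
    obtain ⟨a', w, ha', hind, haw, hdel⟩ := delta_planes hx xx_ne r (fun p p' => ⟨fun e => by simp at e,
      fun v' u' e => by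
        simp only [Sl.xx.injEq] at e
        obtain ⟨rfl, rfl, rfl, rfl⟩ := e
        exact ⟨h1, h2, h3, h4⟩⟩) hq0
    obtain ⟨e₁, f₁, hsi⟩ := hin i hi
    have hri : r ≠ i := fun e => hr (e ▸ hi)
    have hp : T.Cen i (planes T r (.xx a v b u)) := T.cen_of_phi hri.symm (planes_mem r _)
    obtain ⟨rest, hrest⟩ : ∃ y, y = T.tens (Function.update (pv T s) i 1) := ⟨_, rfl⟩
    have hs : T.tens (pv T s) = T.E i e₁ e₁ * rest := by
      rw [Sys.tens_split _ i, hrest]; congr 1; simp [pv, hsi, Sys.op]
    have hci : T.Cen i rest := hrest ▸ Sys.cen_rest _ _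
    have hcr : T.Cen r rest := by
      rw [hrest]; exact Sys.cen_tens (by rw [Function.update_of_ne hri]; exact pv_one (hout r hr))
    have hzs : planes T r (.xx a v b u) * rest ∈ Zs T H i e₁ := by
      refine ⟨hp.mul hci, ?_⟩
      rwa [← mul_assoc, ← hp e₁ e₁, mul_assoc, ← hs]
    have h5 := delta_mem G hri (w := planes T r (.xx a v b u) * rest) w hzs
    rw [show delta (T.E r w w) (planes T r (.xx a v b u) * rest) =
        delta (T.E r w w) (planes T r (.xx a v b u)) * rest by
      simp only [delta, sub_mul, mul_assoc, hcr w w], hdel] at h5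
    have h6 := h5.2.smul (-1)
    refine ⟨s, hr, hok, hout, hin, a', w, ha', hind, haw, ?_⟩
    convert h6 using 1
    rw [neg_one_smul, neg_mul, mul_neg, neg_neg, hs, ← mul_assoc, ← mul_assoc,
      (T.cen_of_phi hri.symm (T.xop_mem_phi r a' w)) e₁ e₁]
  · right
    have hno : ∀ q, T.f q a = 0 → T.f q b = 0 → T.f q v = 0 → T.f q u = 0 → q = 0 := fun q h1 h2 h3 h4 => by
      by_contra h0; exact hq ⟨q, h0, h1, h2, h3, h4⟩
    refine ⟨hno, hok, hout, hin, ?_⟩
    rwa [planes_eq_one rfl hx r hno, one_mul] at hmem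

theorem ad_phi_comm {l : ι} {x y : R} (hx : x ∈ T.phi l) (hy : T.Cen l y) : T.ad (x * y) = T.ad x * T.ad y := by
  rw [T.commute_phi hx hy, T.ad_mul]

/-- the adjoint of a monomial of root elements -/
theorem ad_mono (K : Finset ι) (s : ι → Sl A) (hout : ∀ l ∉ K, s l = .one) (hin : ∀ l ∈ K, ∃ a b, s l = .nn a b) :
    T.ad (T.tens (pv T s)) = ((-1 : F) ^ K.card) • T.tens (pv T s) := by
  induction K using Finset.induction_on generalizing s with
  | empty =>
    have : pv T s = 1 := funext fun l => pv_one (hout l (Finset.notMem_empty l))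
    rw [this, map_one, T.ad_one, Finset.card_empty, pow_zero, one_smul]
  | insert l K hl ih =>
    have e := ih (Function.update s l .one) (fun m hm => ?_) (fun m hm => ?_)
    · rw [pv_update, op_one] at e
      obtain ⟨a, b, hsl⟩ := hin l (Finset.mem_insert_self _ _)
      rw [Sys.tens_split _ l, ad_phi_comm (T.mem_phi _) (Sys.cen_rest _ _), e, Finset.card_insert_of_notMem hl,
        show ((pv T s l : T.phiA l) : R) = T.E l a a by simp [pv, hsl, Sys.op], T.ad_E, pow_succ,
        mul_neg_one, neg_mul, mul_smul_comm, neg_smul]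
    · rcases eq_or_ne m l with rfl | hml
      · simp
      · rw [Function.update_of_ne hml]; exact hout m (by simp [hml, hm])
    · rw [Function.update_of_ne (fun e : m = l => hl (e ▸ hm))]; exact hin m (Finset.mem_insert_of_mem hm)

theorem mono_ne_zero [Nontrivial R] (K : Finset ι) (s : ι → Sl A) (hok : ∀ l, Sl.Ok T (s l))
    (hout : ∀ l ∉ K, s l = .one) (hin : ∀ l ∈ K, ∃ a b, s l = .nn a b) : T.tens (pv T s) ≠ 0 := by
  induction K using Finset.induction_on generalizing s with
  | empty =>
    have : pv T s = 1 := funext fun l => pv_one (hout l (Finset.notMem_empty l))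
    rw [this, map_one]; exact one_ne_zero
  | insert l K hl ih =>
    have e := ih (Function.update s l .one) (fun m => ?_) (fun m hm => ?_) (fun m hm => ?_)
    · rw [pv_update, op_one] at e
      obtain ⟨a, b, hsl⟩ := hin l (Finset.mem_insert_self _ _)
      have hab : T.f a b = 1 := by have := hok l; rwa [hsl] at this
      have ha : a ≠ 0 := by rintro rfl; simp at hab
      rw [Sys.tens_split _ l, show ((pv T s l : T.phiA l) : R) = T.E l a a by simp [pv, hsl, Sys.op]]
      exact fun h => e (T.E_mul_cancel ha ha (Sys.cen_rest _ _) h)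
    · rcases eq_or_ne m l with rfl | hml
      · simp [Sl.Ok]
      · simpa [hml] using hok m
    · rcases eq_or_ne m l with rfl | hml
      · simp
      · rw [Function.update_of_ne hml]; exact hout m (by simp [hml, hm])
    · rw [Function.update_of_ne (fun e : m = l => hl (e ▸ hm))]; exact hin m (Finset.mem_insert_of_mem hm)

theorem AllN.odd [Nontrivial R] (G : Grp T H) (h2 : (2 : F) ≠ 0) {s : ι → Sl A} {K : Finset ι}
    (h : AllN T H s K) : Odd K.card := by
  obtain ⟨hok, hout, hin, hmem⟩ := h
  have e := ad_mono (T := T) K s hout hin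
  rw [G.ad_eq_neg h2 hmem] at e
  by_contra hodd
  rw [(Nat.not_odd_iff_even.1 hodd).neg_one_pow, one_smul, neg_eq_iff_add_eq_zero, ← two_smul F (T.tens (pv T s)),
    smul_eq_zero] at e
  exact mono_ne_zero K s hok hout hin (e.resolve_left h2)

/-! ### Odd characteristic -/

/-- two more root elements -/
theorem AllN.step (G : Grp T H) (P : Perms T H) (h2 : (2 : F) ≠ 0) {s : ι → Sl A} {K : Finset ι}
    (h : AllN T H s K) (hK : Odd K.card) (h3 : 3 ≤ K.card) (hlt : K.card + 2 ≤ Fintype.card ι) :
    ∃ (s' : ι → Sl A) (K' : Finset ι), AllN T H s' K' ∧ K'.card = K.card + 2 := by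
  obtain ⟨hok, hout, hin, hmem⟩ := h
  have hcompl : 1 < Kᶜ.card := by rw [Finset.card_compl]; omega
  obtain ⟨j, hj, j', hj', hjj⟩ := Finset.one_lt_card.1 hcompl
  rw [Finset.mem_compl] at hj hj'
  obtain ⟨i, hi, i', hi', hii⟩ := Finset.one_lt_card.1 (show 1 < K.card by omega)
  obtain ⟨g, hg, hgE⟩ := P i j
  obtain ⟨g', hg', hgE'⟩ := P i' j'
  obtain ⟨σ, hσ⟩ : ∃ σ : Equiv.Perm ι, σ = Equiv.swap i' j' * Equiv.swap i j := ⟨_, rfl⟩
  have hE : ∀ l u v, ((g' * g : Rˣ) : R) * T.E l u v * (↑(g' * g)⁻¹ : R) = T.E (σ l) u v := fun l u v => by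
    rw [hσ, Equiv.Perm.mul_apply, ← hgE', ← hgE]
    simp [mul_assoc]
  have hσs : ∀ l, σ.symm l = Equiv.swap i j (Equiv.swap i' j' l) := fun l => by
    rw [hσ, Equiv.symm_apply_eq, Equiv.Perm.mul_apply, Equiv.swap_apply_self, Equiv.swap_apply_self]
  have n1 : i ≠ j' := fun h => hj' (h ▸ hi)
  have n2 : i' ≠ j := fun h => hj (h ▸ hi')
  have s1 : σ.symm i = j := by rw [hσs, Equiv.swap_apply_of_ne_of_ne hii n1, Equiv.swap_apply_left]
  have s2 : σ.symm i' = j' := by
    rw [hσs, Equiv.swap_apply_left, Equiv.swap_apply_of_ne_of_ne n1.symm (Ne.symm hjj)]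
  have s3 : σ.symm j = i := by rw [hσs, Equiv.swap_apply_of_ne_of_ne n2.symm hjj, Equiv.swap_apply_right]
  have s4 : σ.symm j' = i' := by rw [hσs, Equiv.swap_apply_right, Equiv.swap_apply_of_ne_of_ne (Ne.symm hii) n2]
  have s5 : ∀ l, l ≠ i → l ≠ i' → l ≠ j → l ≠ j' → σ.symm l = l := fun l a b c d => by
    rw [hσs, Equiv.swap_apply_of_ne_of_ne b d, Equiv.swap_apply_of_ne_of_ne a c]
  have hnn : ∀ l ∈ K, s l ≠ .one := fun l hl => by obtain ⟨a, b, h⟩ := hin l hl; simp [h]
  obtain ⟨C, hCd⟩ : ∃ C, C = (K.erase i).erase i' := ⟨_, rfl⟩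
  have hC' : ∀ l, l ∈ C ↔ l ∈ K ∧ l ≠ i ∧ l ≠ i' := fun l => by simp [hCd]; tauto
  have hCc : C.card + 2 = K.card := by
    rw [hCd, Finset.card_erase_of_mem (Finset.mem_erase.2 ⟨Ne.symm hii, hi'⟩), Finset.card_erase_of_mem hi]
    omega
  obtain ⟨s', hs'⟩ := grow G h2 hok hmem (mul_mem hg' hg) hE C (by rw [Nat.odd_iff] at hK ⊢; omega)
    (fun l hl => by
      obtain ⟨h0, h1, h1'⟩ := (hC' l).1 hl
      exact ⟨hnn l h0, s5 l h1 h1' (fun h => hj (h ▸ h0)) (fun h => hj' (h ▸ h0))⟩)
    (fun l hlC => by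
      rcases eq_or_ne l i with rfl | h
      · right; rw [s1]; exact hout _ hj
      rcases eq_or_ne l i' with rfl | h'
      · right; rw [s2]; exact hout _ hj'
      left; exact hout _ fun hlK => hlC ((hC' l).2 ⟨hlK, h, h'⟩))
    (fun l _ hl => hin l (not_not.1 fun h => hl (hout l h)))
    (fun l _ hl => hin _ (not_not.1 fun h => hl (hout _ h)))
    (i := i) (j := j) (fun h => ((hC' i).1 h).2.1 rfl) (hnn i hi) (fun h => hj ((hC' j).1 h).1)
    (by rw [s3]; exact hnn i hi) (insert j (insert j' K)) (fun l => by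
      rw [Finset.mem_insert, Finset.mem_insert]
      rcases eq_or_ne l j with rfl | c
      · simp [s3, hnn i hi]
      rcases eq_or_ne l j' with rfl | d
      · simp [s4, hnn i' hi']
      simp only [c, d, false_or]
      constructor
      · exact fun h => Or.inl (hnn l h)
      · intro h
        by_contra hlK
        rw [s5 l (fun h => hlK (h ▸ hi)) (fun h => hlK (h ▸ hi')) c d, or_self] at h
        exact h (hout l hlK))
  refine ⟨s', _, hs', ?_⟩
  rw [Finset.card_insert_of_notMem (by simp [hj, hjj]), Finset.card_insert_of_notMem hj']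

/-- root elements in all factors but one give a long root element -/
theorem AllN.long (G : Grp T H) (P : Perms T H) {s : ι → Sl A} {K : Finset ι} (h : AllN T H s K)
    (hK : Odd K.card) (h3 : 3 ≤ K.card) (hcard : K.card + 1 = Fintype.card ι) : Long T H := by
  obtain ⟨hok, hout, hin, hmem⟩ := h
  obtain ⟨j, hj⟩ : ∃ j, j ∉ K := by
    by_contra h
    simp only [not_exists, not_not] at h
    rw [Finset.eq_univ_of_forall h, Finset.card_univ] at hcard
    omega
  obtain ⟨r, hr, i, hi, hri⟩ := Finset.one_lt_card.1 (show 1 < K.card by omega)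
  obtain ⟨e, e', hie⟩ := hin i hi
  obtain ⟨a, b, hra⟩ := hin r hr
  obtain ⟨C, hCd⟩ : ∃ C, C = (K.erase i).erase r := ⟨_, rfl⟩
  have hC' : ∀ l, l ∈ C ↔ l ∈ K ∧ l ≠ i ∧ l ≠ r := fun l => by simp [hCd]; tauto
  have hCodd : Odd C.card := by
    rw [hCd, Finset.card_erase_of_mem (Finset.mem_erase.2 ⟨hri, hr⟩), Finset.card_erase_of_mem hi]
    rw [Nat.odd_iff] at hK ⊢
    omega
  obtain ⟨s', hok', hout', hin', hr', hmem'⟩ := grow_keep G P hok hmem hie (hout j hj) C (r := r)
    (fun h => ((hC' r).1 h).2.2 rfl) (fun l => by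
      simp only [Finset.mem_insert, hC']
      constructor
      · intro h
        obtain ⟨a, b, e⟩ := hin l (by rcases h with rfl | rfl | h <;> [exact hi; exact hr; exact h.1])
        simp [e]
      · intro h
        by_cases h1 : l = i
        · exact Or.inl h1
        by_cases h1' : l = r
        · exact Or.inr (Or.inl h1')
        exact Or.inr (Or.inr ⟨not_not.1 fun hlK => h (hout l hlK), h1, h1'⟩))
    (by simp [hC', hri.symm]) hCodd.neg_one_pow
  rw [hra] at hmem'
  have hab : T.f a b = 1 := by have := hok r; rwa [hra] at this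
  refine ⟨s', r, a, b, hok', hout' r hr', fun m hm => hin' m ?_, by rintro rfl; simp at hab, fun c hc => ?_, hmem'⟩
  · rw [Finset.mem_insert, Finset.mem_insert, hC']
    by_cases hmj : m = j
    · exact Or.inl hmj
    by_cases hmi : m = i
    · exact Or.inr (Or.inl hmi)
    refine Or.inr (Or.inr ⟨?_, hmi, hm⟩)
    by_contra hmK
    have h2' : insert j (insert m K) ⊆ Finset.univ := Finset.subset_univ _
    have := Finset.card_le_card h2'
    rw [Finset.card_insert_of_notMem (by simp [hj, Ne.symm hmj]), Finset.card_insert_of_notMem hmK,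
      Finset.card_univ] at this
    omega
  · rw [hc, map_smul, T.alt, smul_zero] at hab
    exact zero_ne_one hab

/-- a long root element from root elements in an odd number of factors -/
theorem AllN.to_long (G : Grp T H) (P : 2 < Fintype.card ι → Perms T H) (h2 : (2 : F) ≠ 0) (heven : Even (Fintype.card ι))
    {s : ι → Sl A} {K : Finset ι} (h : AllN T H s K) (hK : Odd K.card) (h3 : 3 ≤ K.card) : Long T H := by
  generalize hn : Fintype.card ι - K.card = n
  induction n using Nat.strong_induction_on generalizing s K with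
  | _ n ih =>
    have hle : K.card ≤ Fintype.card ι := Finset.card_le_univ K
    obtain ⟨a, ha⟩ := hK
    obtain ⟨b, hb⟩ := heven
    by_cases hc : K.card + 1 = Fintype.card ι
    · exact AllN.long G (P (by omega)) h ⟨a, ha⟩ h3 hc
    obtain ⟨s', K', h', hc'⟩ := AllN.step G (P (by omega)) h2 h ⟨a, ha⟩ h3 (by omega)
    exact ih (Fintype.card ι - K'.card) (by omega) h' ⟨a + 1, by omega⟩ (by omega) rfl

/-- a long root element from a mixed monomial -/
theorem AllB.to_long (G : Grp T H) (P : 2 < Fintype.card ι → Perms T H) (h2 : (2 : F) ≠ 0) (heven : Even (Fintype.card ι))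
    {s : ι → Sl A} {K : Finset ι} {r : ι} (h : AllB T H s K r) (hK : Odd K.card) : Long T H := by
  by_cases hcard : K.card + 1 = Fintype.card ι
  · exact h.long hcard
  obtain ⟨s₁, hok, hsupp, hin, -, hmem⟩ := h.full
  have hr : r ∉ K := h.1
  have hle := Finset.card_le_univ (insert r K)
  rw [Finset.card_insert_of_notMem hr] at hle
  obtain ⟨j, hj⟩ : ∃ j, j ∉ insert r K := by
    by_contra h
    simp only [not_exists, not_not] at h
    apply hcard
    rw [← Finset.card_insert_of_notMem hr, Finset.eq_univ_of_forall h, Finset.card_univ]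
  obtain ⟨i, hi⟩ : K.Nonempty := Finset.card_pos.1 hK.pos
  have hKc := Finset.card_le_univ (insert j (insert r K))
  rw [Finset.card_insert_of_notMem hj, Finset.card_insert_of_notMem hr] at hKc
  obtain ⟨g, hg, hgE⟩ := P (by have := Finset.card_pos.2 ⟨i, hi⟩; omega) i j
  have hij : i ≠ j := fun e => hj (e ▸ Finset.mem_insert_of_mem hi)
  have hir : i ≠ r := fun e => hr (e ▸ hi)
  obtain ⟨C, hCd⟩ : ∃ C, C = insert r (K.erase i) := ⟨_, rfl⟩
  have hmemC : ∀ l, l ∈ C ↔ l ∈ insert r K ∧ l ≠ i := fun l => by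
    rw [hCd]; simp only [Finset.mem_insert, Finset.mem_erase]
    constructor
    · rintro (rfl | ⟨h1, h1'⟩)
      exacts [⟨Or.inl rfl, hir.symm⟩, ⟨Or.inr h1', h1⟩]
    · rintro ⟨rfl | h1, h1'⟩
      exacts [Or.inl rfl, Or.inr ⟨h1', h1⟩]
  have hCc : C.card = K.card := by
    rw [hCd, Finset.card_insert_of_notMem (fun h => hr (Finset.mem_of_mem_erase h)), Finset.card_erase_of_mem hi]
    have := Finset.card_pos.2 ⟨i, hi⟩
    omega
  have hsj : s₁ j = .one := not_not.1 fun h => hj ((hsupp j).2 h)
  have hsi : s₁ i ≠ .one := (hsupp i).1 (Finset.mem_insert_of_mem hi)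
  have hfix : ∀ l, l ≠ i → l ≠ j → Equiv.swap i j l = l := fun l => Equiv.swap_apply_of_ne_of_ne
  obtain ⟨s', hs'⟩ := grow G h2 hok hmem hg (σ := Equiv.swap i j) hgE C (hCc ▸ hK)
    (fun l hl => by
      obtain ⟨h1, h1'⟩ := (hmemC l).1 hl
      exact ⟨(hsupp l).1 h1, by rw [Equiv.symm_swap, hfix l h1' (fun e => hj (e ▸ h1))]⟩)
    (fun l hlC => by
      rcases eq_or_ne l i with rfl | h
      · right; simpa using hsj
      · left; exact not_not.1 fun h1 => hlC ((hmemC l).2 ⟨(hsupp l).2 h1, h⟩))
    (fun l hlC hl => by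
      rcases eq_or_ne l i with rfl | h
      · exact hin l hi
      · exact absurd ((hmemC l).2 ⟨(hsupp l).2 hl, h⟩) hlC)
    (fun l hlC hl => by
      rcases eq_or_ne l j with rfl | h
      · rw [Equiv.symm_swap, Equiv.swap_apply_right]; exact hin i hi
      rcases eq_or_ne l i with rfl | h'
      · rw [Equiv.symm_swap, Equiv.swap_apply_left] at hl; exact absurd hsj hl
      · rw [Equiv.symm_swap, hfix l h' h] at hl
        exact absurd ((hmemC l).2 ⟨(hsupp l).2 hl, h'⟩) hlC)
    (i := i) (j := j) (fun h => ((hmemC i).1 h).2 rfl) hsi (fun h => hj ((hmemC j).1 h).1)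
    (by rw [Equiv.symm_swap, Equiv.swap_apply_right]; exact hsi) (insert j (insert r K)) (fun l => by
      rw [Finset.mem_insert]
      rcases eq_or_ne l j with rfl | h
      · simp [hsi]
      rcases eq_or_ne l i with rfl | h'
      · simp [hsi, Finset.mem_insert_of_mem hi]
      rw [Equiv.symm_swap, hfix l h' h, or_self, hsupp l]
      simp [h])
  have hc' : (insert j (insert r K)).card = K.card + 2 := by
    rw [Finset.card_insert_of_notMem hj, Finset.card_insert_of_notMem hr]
  obtain ⟨a, ha⟩ := hK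
  exact AllN.to_long G P h2 heven hs' (by rw [hc']; exact ⟨a + 1, by omega⟩) (by omega)

/-- **a long root element**, odd characteristic, even number of factors -/
theorem exists_long_odd [Nontrivial R] (G : Grp T H) (P : 2 < Fintype.card ι → Perms T H) (h2 : (2 : F) ≠ 0)
    (heven : Even (Fintype.card ι)) (hZ : ¬ Ctr T H) : Long T H := by
  classical
  simp only [Ctr, not_forall, not_exists] at hZ
  obtain ⟨i, e, he, y, hy, hin, hno⟩ := hZ
  have hyZ : y ∈ Zs T H i e := ⟨hy, scal_mem G h2 he hy hin⟩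
  obtain ⟨s, hs, hsi, ⟨l₀, hl₀⟩, hmem⟩ := descend G h2 hyZ (by
    rintro ⟨c, rfl⟩
    exact hno c (by rw [mul_smul_comm, mul_one]))
  obtain ⟨f₀, hef⟩ := T.exists_partner he
  obtain ⟨C, hCdef⟩ : ∃ C, C = Finset.univ.filter fun l => s l ≠ .one := ⟨_, rfl⟩
  have hC : ∀ l, l ∈ C ↔ s l ≠ .one := fun l => by simp [hCdef]
  have hiC : i ∉ C := fun h => (hC i).1 h hsi
  have hC0 : 0 < C.card := Finset.card_pos.2 ⟨l₀, (hC l₀).2 hl₀⟩
  have hcard : (insert i C).card = C.card + 1 := Finset.card_insert_of_notMem hiC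
  by_cases hx : ∀ r a v b u, s r ≠ .xx a v b u
  · have hnn : ∀ l ∈ C, ∃ a b, s l = .nn a b := fun l hl => by
      rcases hsl : s l with _ | ⟨a', b'⟩ | ⟨a', v', b', u'⟩
      · exact absurd hsl ((hC l).1 hl)
      · exact ⟨a', b', rfl⟩
      · exact absurd hsl (hx l a' v' b' u')
    have hA : AllN T H (Function.update s i (.nn e f₀)) (insert i C) := by
      refine ⟨fun l => ?_, fun l hl => ?_, fun l hl => ?_, ?_⟩
      · rcases eq_or_ne l i with rfl | h
        · simpa [Sl.Ok] using hef
        · simpa [h] using hs l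
      · rw [Finset.mem_insert, not_or] at hl
        simpa [hl.1] using not_not.1 fun h => hl.2 ((hC l).2 h)
      · rcases eq_or_ne l i with rfl | h
        · exact ⟨e, f₀, by simp⟩
        · rw [Function.update_of_ne h]; exact hnn l ((Finset.mem_insert.1 hl).resolve_left h)
      · convert hmem.2 using 1
        rw [pv_update, Sys.tens_update, ← pv_one (T := T) hsi, Function.update_eq_self]
        rfl
    have hodd := AllN.odd G h2 hA
    obtain ⟨c, hc⟩ := hodd
    exact AllN.to_long G P h2 heven hA ⟨c, hc⟩ (by omega)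
  simp only [not_forall, ne_eq, not_not] at hx
  obtain ⟨r, a, v, b, u, hr⟩ := hx
  have hok : Sl.Ok T (Sl.xx a v b u) := hr ▸ hs r
  rcases Nat.even_or_odd C.card with hpar | hpar
  · obtain ⟨s', hs'⟩ := jordan_step G h2 he hs hsi hr C hC hpar hmem
    obtain ⟨c, hc⟩ := hpar
    exact AllN.to_long G P h2 heven hs' ⟨c, by omega⟩ (by omega)
  have hrC : r ∈ C := (hC r).2 (by simp [hr])
  by_cases h1 : C = {r}
  · have hB : AllB T H (fun l => if l = i then .nn e f₀ else .one) {i} r := by
      refine ⟨by simpa using fun e : r = i => hiC (e ▸ hrC), fun l => ?_, fun l hl => ?_, fun l hl => ?_, a, v,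
        by rintro rfl; simp [Sl.Ok] at hok, fun c hc => ?_, hok.2.2.1, ?_⟩
      · dsimp only
        split_ifs
        exacts [hef, trivial]
      · simpa using hl
      · exact ⟨e, f₀, by simpa using hl⟩
      · have := hok.2.1
        rw [hc, map_smul, LinearMap.smul_apply, hok.2.2.2.1, smul_zero] at this
        exact zero_ne_one this
      · convert hmem.2 using 1
        have e1 : T.tens (pv T s) = T.xop r a v := by
          refine (congrArg T.tens ?_).trans (T.tens_single r ⟨T.xop r a v, T.xop_mem_phi r a v⟩)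
          funext l
          rcases eq_or_ne l r with rfl | h
          · simp [pv, hr, Sys.op]
          · rw [Pi.mulSingle_eq_of_ne h]
            exact pv_one (not_not.1 fun h' => h (Finset.mem_singleton.1 (h1 ▸ (hC l).2 h')))
        have e2 : T.tens (pv T fun l => if l = i then Sl.nn e f₀ else Sl.one) = T.E i e e := by
          refine (congrArg T.tens ?_).trans (T.tens_single i ⟨T.E i e e, T.E_mem_phi i e e⟩)
          funext l
          rcases eq_or_ne l i with rfl | h <;> simp [pv, Sys.op, *]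
        rw [e1, e2, T.commute_phi (T.xop_mem_phi r a v) (T.cen_E (fun h : r = i => hiC (h ▸ hrC)) e e)]
    exact AllB.to_long G P h2 heven hB (by simp)
  have hCe : Even (C.erase r).card := by
    rw [Finset.card_erase_of_mem hrC]; exact Nat.Odd.sub_odd hpar odd_one
  have hC3 : 3 ≤ C.card := by
    obtain ⟨c, hc⟩ := hpar
    by_contra h3
    exact h1 (Finset.card_eq_one.1 (show C.card = 1 by omega) |>.elim fun x hx => by
      rw [hx] at hrC ⊢; rw [Finset.mem_singleton.1 hrC])
  have hins : insert r (C.erase r) = C := Finset.insert_erase hrC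
  obtain ⟨s', hok', hout', hin', hr', hmem'⟩ := jordan_keep G he hs (i := i) hok hsi (C.erase r) (r := r)
    (Finset.notMem_erase r C) (fun l => by rw [hins]; exact hC l) hCe.neg_one_pow hmem
  rw [hr] at hmem'
  have hc' : (insert i (C.erase r)).card = C.card := by
    rw [Finset.card_insert_of_notMem (fun h => hiC (Finset.mem_of_mem_erase h)), Finset.card_erase_of_mem hrC]
    omega
  rcases settle G hok' hout' hin' hr' (Finset.mem_insert_self _ _) hok hmem' with ⟨s'', hB⟩ | ⟨-, hA⟩
  · exact AllB.to_long G P h2 heven hB (hc'.symm ▸ hpar)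
  · exact AllN.to_long G P h2 heven hA (hc'.symm ▸ hpar) (by omega)

/-! ### Characteristic two -/

/-- **a long root element**, characteristic two -/
theorem exists_long_two [Finite F] [Nontrivial R] (G : Grp T H) (P : 2 < Fintype.card ι → Perms T H) (h2 : (2 : F) = 0)
    (h6 : 4 < Module.finrank F A) (hZ : ¬ Ctr T H) : Long T H := by
  classical
  simp only [Ctr, not_forall, not_exists] at hZ
  obtain ⟨i, e, he, y, hy, hin, hno⟩ := hZ
  have hyZ : y ∈ Zs T H i e := ⟨hy, scal_mem_two G h2 he hy hin⟩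
  obtain ⟨s, hs, hX, hsi, ⟨l₀, hl₀⟩, hmem⟩ := descend_two h2 (by omega)
    (fun l hl a x hx => delta_mem G hl a hx) hy hyZ (by
    rintro ⟨c, rfl⟩
    exact hno c (by rw [mul_smul_comm, mul_one]))
  have hone : ∀ n : ℕ, (-1 : F) ^ n = 1 := fun n => by rw [neg_two h2 (1 : F), one_pow]
  obtain ⟨a, v, b, u, hl⟩ := (hX l₀).resolve_left hl₀
  have hok : Sl.Ok T (Sl.xx a v b u) := hl ▸ hs l₀
  have hnot : ∀ {a v b u : A},
      ¬ (∀ q, T.f q a = 0 → T.f q b = 0 → T.f q v = 0 → T.f q u = 0 → q = 0) := fun {a v b u} hno' => by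
    obtain ⟨q, hq0, hq⟩ := exists_perp T ![a, b, v, u] h6
    exact hq0 (hno' q (hq 0) (hq 1) (hq 2) (hq 3))
  obtain ⟨C, hCdef⟩ : ∃ C, C = (Finset.univ.filter fun l => s l ≠ .one).erase l₀ := ⟨_, rfl⟩
  have hC : ∀ l, l ∈ insert l₀ C ↔ s l ≠ .one := fun l => by
    rcases eq_or_ne l l₀ with rfl | h
    · simp [hl₀]
    · simp [hCdef, h]
  obtain ⟨s', hok', hout', hin', hr', hmem'⟩ := jordan_keep G he hs (i := i) hok hsi C (r := l₀)
    (by simp [hCdef]) hC (hone _) hmem
  rw [hl] at hmem'
  obtain ⟨s₁, hB⟩ := (settle G hok' hout' hin' hr' (Finset.mem_insert_self _ _) hok hmem').resolve_right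
    fun h => hnot h.1
  obtain ⟨K, hKd⟩ : ∃ K, K = insert i C := ⟨_, rfl⟩
  rw [← hKd] at hB
  have hKne : K.Nonempty := hKd ▸ Finset.insert_nonempty _ _
  clear hKd hmem' hout' hin' hr' hok' hC hCdef
  generalize hn : Fintype.card ι - K.card = n
  induction n using Nat.strong_induction_on generalizing s₁ K with
  | _ n ih =>
    by_cases hcard : K.card + 1 = Fintype.card ι
    · exact hB.long hcard
    have hr : l₀ ∉ K := hB.1
    obtain ⟨t, htok, htsupp, htin, ⟨a', v', b', u', htr⟩, htmem⟩ := hB.full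
    obtain ⟨j, hj⟩ : ∃ j, j ∉ insert l₀ K := by
      by_contra h
      simp only [not_exists, not_not] at h
      apply hcard
      rw [← Finset.card_insert_of_notMem hr, Finset.eq_univ_of_forall h, Finset.card_univ]
    obtain ⟨k, hk⟩ := hKne
    obtain ⟨e₁, f₁, hke⟩ := htin k hk
    obtain ⟨t', htok', htout', htin', htr', htmem'⟩ := grow_keep G
      (P (by
        have hlt := Finset.card_le_univ (insert j (insert l₀ K))
        rw [Finset.card_insert_of_notMem hj, Finset.card_insert_of_notMem hr] at hlt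
        have := Finset.card_pos.2 ⟨k, hk⟩
        omega)) htok htmem hke
      (not_not.1 fun h => hj ((htsupp j).2 h)) (K.erase k) (r := l₀) (fun h => hr (Finset.mem_of_mem_erase h))
      (fun l => by
        rw [← htsupp l]
        simp only [Finset.mem_insert, Finset.mem_erase]
        constructor
        · rintro (rfl | h | h)
          exacts [Or.inr hk, Or.inl h, Or.inr h.2]
        · rintro (h | h)
          exacts [Or.inr (Or.inl h), (eq_or_ne l k).imp id fun h' => Or.inr ⟨h', h⟩])
      (by simp [show k ≠ l₀ from fun e => hr (e ▸ hk)]) (by rw [hone, neg_two h2 (1 : F)])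
    have hxok : Sl.Ok T (Sl.xx a' v' b' u') := htr ▸ htok l₀
    rw [htr] at htmem'
    obtain ⟨s₂, hB'⟩ := (settle G htok' htout' htin' htr' (Finset.mem_insert_self _ _) hxok htmem').resolve_right
      fun h => hnot h.1
    have hlt := Finset.card_le_univ (insert j (insert l₀ K))
    rw [Finset.card_insert_of_notMem hj, Finset.card_insert_of_notMem hr] at hlt
    have e1 : (insert j (insert k (K.erase k))).card = K.card + 1 := by
      rw [Finset.insert_erase hk, Finset.card_insert_of_notMem (fun h => hj (Finset.mem_insert_of_mem h))]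
    exact ih (Fintype.card ι - (insert j (insert k (K.erase k))).card) (by omega) s₂ _ hB'
      (Finset.insert_nonempty _ _) rfl

end CfsgLib.MaxSub.SpPowO
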