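import Cfsg.Agent.Lib.MaxSub.SpPowO.Omega
import Cfsg.Agent.Lib.MaxSub.SpPowO.AllPureTwo
import Cfsg.Agent.Lib.MaxSub.SpPow.AllPure
import Cfsg.Agent.Lib.MaxSub.SpPow.Chain
import Cfsg.Agent.Lib.MaxSub.TensorSS

/-!
The stabiliser of a tensor power of a symplectic form is maximal in `Ω` of plus type.
-/

set_option autoImplicit false
set_option linter.unusedSectionVars false

namespace CfsgLib.MaxSub.SpPowO

open Matrix Cfsg.Geo CfsgLib.Geom
open CfsgLib.MaxSub.SpPow
open scoped MatrixGroups

variable {F : Type*} [Field F] [Fintype F] {n k t : ℕ}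

local notation "𝕄" => Matrix (Fin n) (Fin n) F

namespace Data

variable (D : Data F n k t)

include D in
theorem even_k : Even k := CfsgLib.MaxSub.TensorSS.even_of_symp D.hf₁

/-- with small centres the members permute the factors -/
theorem permutes_of_ctr [Nonempty (Fin n)] (hk : 2 ≤ k) (hex2 : ¬ (Fintype.card F = 3 ∧ k = 2))
    (hex3 : ¬ Odd (Fintype.card F) → 6 ≤ k) {M : Subgroup (GL (Fin n) F)} (G : Grp D.sys M) (Z : Ctr D.sys M) :
    ∀ g ∈ M, Permutes D.sys g := by
  classical
  obtain ⟨e, he⟩ : ∃ e : Fin k → F, e ≠ 0 :=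
    ⟨Pi.single ⟨0, by omega⟩ 1, fun h => by simpa using congrFun h ⟨0, by omega⟩⟩
  obtain ⟨p, hp⟩ := CharP.exists F
  haveI : Fact p.Prime := ⟨CharP.char_is_prime F p⟩
  by_cases hp2 : p = 2
  · subst hp2
    have h2 : (2 : F) = 0 := CharP.cast_eq_zero F 2
    have heven : ¬ Odd (Fintype.card F) := by
      have := FiniteField.even_card_of_char_two (F := F) (ringChar.eq F 2)
      rw [Nat.odd_iff]; omega
    intro g hg
    exact permutes_two G Z h2 (by rw [Module.finrank_fin_fun]; have := hex3 heven; omega) he hg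
  obtain ⟨j, hj⟩ := D.even_k
  refine fun g hg => Grp.permutes (fun d hd => ?_) he hg
  by_cases hk2 : k = 2
  · have h3 : Fintype.card F ≠ 3 := fun h => hex2 ⟨h, hk2⟩
    have h1 : 1 < Fintype.card F := Fintype.one_lt_card
    have hodd : Fintype.card F % 2 = 1 := FiniteField.odd_card_of_char_ne_two (by rwa [ringChar.eq F p])
    exact G.all_pure Z p hp2 (by omega) he hd
  · refine G.all_pure_four Z p hp2 (fun u v _ => ?_) he hd
    obtain ⟨q, hq0, hq⟩ := exists_perp D.sys ![u, v] (by rw [Module.finrank_fin_fun]; omega)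
    exact ⟨q, hq0, hq 0, hq 1⟩

/-- **maximality** -/
theorem maximal (hn : 13 ≤ n) (ht : 2 ≤ t) (hqt : Odd (Fintype.card F) → Even t)
    (hex2 : ¬ (Fintype.card F = 3 ∧ k = 2)) (hex3 : ¬ Odd (Fintype.card F) → 6 ≤ k) :
    IsMaximalIn (omegaGL D.Q) D.base := by
  classical
  have hcard : n = k ^ t := by simpa using Fintype.card_congr D.e
  obtain ⟨j, hj⟩ := D.even_k
  have hk : 2 ≤ k := by
    rcases Nat.lt_or_ge k 2 with h | h
    · exfalso
      have : k = 0 := by omega
      subst this
      rw [zero_pow (by omega)] at hcard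
      omega
    · exact h
  have h4 : k = 2 → 4 ≤ t := fun h => by
    subst h
    by_contra hlt
    have : 2 ^ t ≤ 2 ^ 3 := Nat.pow_le_pow_right (by norm_num) (by omega)
    omega
  haveI : Nonempty (Fin n) := ⟨⟨0, by omega⟩⟩
  haveI : NeZero k := ⟨by omega⟩
  have h2odd : (2 : F) ≠ 0 → Odd (Fintype.card F) := fun h2 => by
    rw [Nat.odd_iff]
    refine FiniteField.odd_card_of_char_ne_two fun h => h2 ?_
    haveI := ringChar.of_eq h
    exact CharP.cast_eq_zero F 2
  refine ⟨lt_of_le_of_ne inf_le_right (D.base_ne (by omega) hk ht h4), fun M hb hM => ?_⟩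
  have G := D.grp_of_le (by omega) hb hM
  by_cases hZ : Ctr D.sys M
  · exact Or.inl (le_antisymm (le_inf (D.le_wreath_of_permutes (by omega)
      (D.permutes_of_ctr hk hex2 hex3 G hZ)) hM) hb)
  refine Or.inr (le_antisymm hM ?_)
  have hle : commutator (quadIsoms D.Qf) ≤ M.comap (isomsToGL D.Qf) := by
    refine D.acts.commutator_le (H := M) (fun g hg h hgh => ?_) G
      (D.perms_of_le (by omega) D.even_k (fun h => hqt (h2odd h)) hb) D.sep (five_le (by omega))
      (by rw [Module.finrank_fin_fun]; omega) (by rw [Fintype.card_fin]; exact ht)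
      (by rw [Module.finrank_fin_fun, Fintype.card_fin]; exact h4) ?_ hZ
    · show isomsToGL D.Qf h ∈ M
      have : isomsToGL D.Qf h = g := Units.ext (Matrix.ext_of_mulVec_single fun b => by
        rw [isomsToGL_mulVec]; exact (hgh _).symm)
      rwa [this]
    · rcases eq_or_ne (2 : F) 0 with h2 | h2
      · refine Or.inr ⟨h2, ?_⟩
        have heven : ¬ Odd (Fintype.card F) := by
          haveI := CharTwo.of_one_ne_zero_of_two_eq_zero (one_ne_zero (α := F)) h2
          have := FiniteField.even_card_of_char_two (F := F) (ringChar.eq F 2)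
          rw [Nat.odd_iff]; omega
        rw [Module.finrank_fin_fun]
        have := hex3 heven
        omega
      · exact Or.inl ⟨h2, by rw [Fintype.card_fin]; exact hqt (h2odd h2)⟩
  rw [omega_eq]
  rintro _ ⟨h, hh, rfl⟩
  exact hle hh

end Data

end CfsgLib.MaxSub.SpPowO
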