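import Cfsg.Agent.Lib.MaxSub.SpPow.Model
import Cfsg.Agent.Lib.MaxSub.SpPowO.Close
import Cfsg.Agent.Lib.Geom.OmegaMax

/-!
The coordinate model of a tensor power of a symplectic form similar to the polar form of a quadratic form which
vanishes on the pure tensors.
-/

set_option autoImplicit false
set_option linter.unusedSectionVars false

namespace CfsgLib.MaxSub.SpPowO

open Matrix CfsgLib.Aschbacher Cfsg.Geo
open CfsgLib.MaxSub.SpPow
open CfsgLib.MaxSub.SpPow.Data (sl sl_apply)
open CfsgLib.Geom (quadFormOf quadFormOf_coe quadFormOf_sep)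
open scoped MatrixGroups

variable {F : Type*} [Field F] {n k t : ℕ}

local notation "𝕄" => Matrix (Fin n) (Fin n) F

/-- The data of a tensor power of a symplectic form in an orthogonal space. -/
structure Data (F : Type*) [Field F] (n k t : ℕ) where
  Q : (Fin n → F) → F
  hQ : IsNondegenerateQuadraticForm Q
  e : Fin n ≃ (Fin t → Fin k)
  P : GL (Fin n) F
  f₁ : (Fin k → F) → (Fin k → F) → F
  hf₁ : IsSymplecticForm f₁
  c : F
  hc : c ≠ 0
  hT : ∀ x y : (Fin t → Fin k) → F,
    QuadraticMap.polar Q ((P : Matrix (Fin n) (Fin n) F) *ᵥ (x ∘ e))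
      ((P : Matrix (Fin n) (Fin n) F) *ᵥ (y ∘ e)) =
      c * ∑ a, ∑ b, x a * (∏ i, gramMatrix f₁ (a i) (b i)) * id (y b)
  hpure : ∀ xs : Fin t → Fin k → F,
    Q ((P : Matrix (Fin n) (Fin n) F) *ᵥ ((fun a => ∏ i, xs i (a i)) ∘ e)) = 0

namespace Data

variable (D : Data F n k t)

/-- the quadratic form -/
def Qf : QuadraticForm F (Fin n → F) := quadFormOf D.hQ

/-- the Gram matrix of the polar form -/
noncomputable def S : 𝕄 := LinearMap.toMatrix₂' F D.Qf.polarBilin

theorem polar_eq (x y : Fin n → F) : QuadraticMap.polar D.Q x y = x ⬝ᵥ (D.S *ᵥ y) := by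
  rw [← Matrix.toLinearMap₂'_apply' D.S x y, S, Matrix.toLinearMap₂'_toMatrix']
  rfl

theorem S_symm : D.Sᵀ = D.S := by
  ext a b
  simp only [S, Matrix.transpose_apply, LinearMap.toMatrix₂'_apply]
  exact QuadraticMap.polar_comm _ _ _

theorem isUnit_S : IsUnit D.S.det := by
  rw [isUnit_iff_ne_zero]
  intro h0
  obtain ⟨v, hv, hv0⟩ := Matrix.exists_mulVec_eq_zero_iff.2 h0
  refine hv (quadFormOf_sep D.hQ v fun y => ?_)
  rw [QuadraticMap.polar_comm, quadFormOf_coe, polar_eq, hv0, dotProduct_zero]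

theorem S_cancel (x : 𝕄) : D.S * (D.S⁻¹ * x) = x := by
  rw [← mul_assoc, Matrix.mul_nonsing_inv _ D.isUnit_S, one_mul]

theorem S_cancel' (x : 𝕄) : D.S⁻¹ * (D.S * x) = x := by
  rw [← mul_assoc, Matrix.nonsing_inv_mul _ D.isUnit_S, one_mul]

/-- the adjoint for the polar form -/
noncomputable def adM : 𝕄 →ₗ[F] 𝕄 where
  toFun x := D.S⁻¹ * xᵀ * D.S
  map_add' x y := by simp [Matrix.transpose_add, mul_add, add_mul]
  map_smul' c x := by simp [Matrix.transpose_smul]

theorem adM_apply (x : 𝕄) : D.adM x = D.S⁻¹ * xᵀ * D.S := rfl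

theorem adM_mul (x y : 𝕄) : D.adM (x * y) = D.adM y * D.adM x := by
  simp only [adM_apply, Matrix.transpose_mul, mul_assoc, D.S_cancel]

theorem adM_one : D.adM 1 = 1 := by
  rw [adM_apply, Matrix.transpose_one, mul_one, Matrix.nonsing_inv_mul _ D.isUnit_S]

theorem adM_adM (x : 𝕄) : D.adM (D.adM x) = x := by
  simp only [adM_apply, Matrix.transpose_mul, Matrix.transpose_transpose, Matrix.transpose_nonsing_inv, S_symm]
  simp only [mul_assoc, D.S_cancel', Matrix.nonsing_inv_mul _ D.isUnit_S, mul_one]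

/-- the Gram matrix of a factor -/
def G : Matrix (Fin k) (Fin k) F := gramMatrix D.f₁


theorem G_transpose : D.Gᵀ = -D.G := by
  ext a b
  exact D.hf₁.skew _ _

theorem f₁_eq (x y : Fin k → F) : D.f₁ x y = x ⬝ᵥ (D.G *ᵥ y) := by
  let B : (Fin k → F) →ₗ[F] (Fin k → F) →ₗ[F] F :=
    LinearMap.mk₂ F D.f₁ D.hf₁.bilinear.add_left (fun c x y => D.hf₁.bilinear.smul_left c x y)
      D.hf₁.bilinear.add_right (fun c x y => D.hf₁.bilinear.smul_right c x y)
  have hB : B = Matrix.toLinearMap₂' F D.G := by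
    refine LinearMap.ext_basis (Pi.basisFun F (Fin k)) (Pi.basisFun F (Fin k)) fun a b => ?_
    simp [B, Data.G, gramMatrix, Matrix.toLinearMap₂'_apply']
  have := congrFun (congrArg DFunLike.coe (congrFun (congrArg DFunLike.coe hB) x)) y
  simpa [B, Matrix.toLinearMap₂'_apply'] using this

theorem isUnit_det : IsUnit D.G.det := by
  rw [isUnit_iff_ne_zero]
  intro h0
  obtain ⟨v, hv, hv0⟩ := Matrix.exists_mulVec_eq_zero_iff.2 h0
  obtain ⟨x, hx⟩ := (D.hf₁.nondegenerate v hv).1
  exact hx (by rw [f₁_eq, hv0, dotProduct_zero])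

/-- the transport to the coordinates of the form -/
def tr : Matrix (Fin t → Fin k) (Fin t → Fin k) F ≃ₐ[F] 𝕄 :=
  (Matrix.reindexAlgEquiv F F D.e.symm).trans (cj D.P)

theorem tr_apply (X : Matrix (Fin t → Fin k) (Fin t → Fin k) F) :
    D.tr X = (D.P : 𝕄) * Matrix.reindex D.e.symm D.e.symm X * (↑D.P⁻¹ : 𝕄) := rfl

/-- a factor -/
def slot (i : Fin t) : Matrix (Fin k) (Fin k) F →ₐ[F] 𝕄 := D.tr.toAlgHom.comp (sl i)

theorem slot_eq (i : Fin t) (x : Matrix (Fin k) (Fin k) F) : D.slot i x = slotFactor D.e D.P i x := rfl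

/-- the Gram matrix of the tensor power -/
def pG : Matrix (Fin t → Fin k) (Fin t → Fin k) F := pureMat fun _ => D.G

theorem gram_pullback :
    (D.P : 𝕄)ᵀ * D.S * (D.P : 𝕄) = D.c • Matrix.reindex D.e.symm D.e.symm D.pG := by
  classical
  refine Matrix.ext fun a b => ?_
  have h := D.hT (Pi.single (D.e a) 1) (Pi.single (D.e b) 1)
  have e1 : ∀ j, (Pi.single (D.e j) 1 : (Fin t → Fin k) → F) ∘ D.e = Pi.single j 1 := fun j => by
    funext l; simp [Pi.single_apply]
  rw [e1, e1, polar_eq, Matrix.mulVec_mulVec] at h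
  rw [← Matrix.vecMul_transpose, ← Matrix.dotProduct_mulVec, Matrix.mulVec_mulVec] at h
  simp [Pi.single_apply, ← mul_assoc] at h
  simp [h, pG, G, pureMat]

theorem adM_tr {X X' : Matrix (Fin t → Fin k) (Fin t → Fin k) F} (h : Xᵀ * D.pG = D.pG * X') :
    D.adM (D.tr X) = D.tr X' := by
  classical
  set re := Matrix.reindexAlgEquiv F F D.e.symm with hre
  have hP : (↑D.P⁻¹ : 𝕄)ᵀ * (D.P : 𝕄)ᵀ = 1 := by
    rw [← Matrix.transpose_mul, Units.mul_inv, Matrix.transpose_one]
  have hSP : D.S * (D.P : 𝕄) = D.c • ((↑D.P⁻¹ : 𝕄)ᵀ * re D.pG) := by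
    rw [← mul_smul_comm, show D.c • re D.pG = (D.P : 𝕄)ᵀ * D.S * (D.P : 𝕄) from
      D.gram_pullback.symm, ← mul_assoc, ← mul_assoc, hP, one_mul]
  have hX : (re X)ᵀ * re D.pG = re D.pG * re X' := by
    rw [← map_mul, ← h, map_mul]
    congr 1
  have key : (D.tr X)ᵀ * D.S = D.S * D.tr X' := by
    calc (D.tr X)ᵀ * D.S
        = (↑D.P⁻¹ : 𝕄)ᵀ * (re X)ᵀ * ((D.P : 𝕄)ᵀ * D.S * (D.P : 𝕄)) * (↑D.P⁻¹ : 𝕄) := by
          rw [tr_apply, Matrix.transpose_mul, Matrix.transpose_mul]
          simp only [mul_assoc, Units.mul_inv, mul_one]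
          rfl
      _ = D.c • ((↑D.P⁻¹ : 𝕄)ᵀ * (re D.pG * re X') * (↑D.P⁻¹ : 𝕄)) := by
          rw [show (D.P : 𝕄)ᵀ * D.S * (D.P : 𝕄) = D.c • re D.pG from D.gram_pullback,
            mul_smul_comm, smul_mul_assoc, mul_assoc _ (re X)ᵀ, hX]
      _ = D.S * (D.P : 𝕄) * re X' * (↑D.P⁻¹ : 𝕄) := by
          rw [hSP, smul_mul_assoc, smul_mul_assoc, ← mul_assoc ((↑D.P⁻¹ : 𝕄)ᵀ)]
      _ = D.S * D.tr X' := by rw [tr_apply, mul_assoc, mul_assoc, ← mul_assoc (D.P : 𝕄)]; rfl
  rw [adM_apply, mul_assoc, key, D.S_cancel']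

theorem adM_slot {i : Fin t} {x x' : Matrix (Fin k) (Fin k) F} (h : xᵀ * D.G = D.G * x') :
    D.adM (D.slot i x) = D.slot i x' := by

  refine D.adM_tr ?_
  show (pureMat (Function.update (fun _ => (1 : Matrix (Fin k) (Fin k) F)) i x))ᵀ * pureMat _ = pureMat _ * pureMat _
  rw [show ∀ a : Fin t → Matrix (Fin k) (Fin k) F, (pureMat a)ᵀ = pureMat fun l => (a l)ᵀ from fun a => rfl,
    pureMat_mul, pureMat_mul]
  congr 1
  funext l
  rcases eq_or_ne l i with rfl | hl
  · simp [h]
  · simp [hl]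

theorem single_eq (b : Fin k) : D.G *ᵥ (D.G⁻¹ *ᵥ Pi.single b 1) = Pi.single b 1 := by
  rw [Matrix.mulVec_mulVec, Matrix.mul_nonsing_inv _ D.isUnit_det, Matrix.one_mulVec]

/-- the operators of the factors -/
noncomputable def sys : Sys F (Fin k → F) (𝕄) (Fin t) (Fin k) where
  f := LinearMap.mk₂ F D.f₁ D.hf₁.bilinear.add_left (fun c x y => D.hf₁.bilinear.smul_left c x y)
    D.hf₁.bilinear.add_right (fun c x y => D.hf₁.bilinear.smul_right c x y)
  alt := D.hf₁.alternating
  nondeg u h := by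
    by_contra hu
    obtain ⟨x, hx⟩ := (D.hf₁.nondegenerate u hu).2
    exact hx (h x)
  b l := Pi.single l 1
  b' l := D.G⁻¹ *ᵥ Pi.single l 1
  dual y := by
    funext j
    simp only [LinearMap.mk₂_apply, f₁_eq, single_eq]
    simp [dotProduct_single, Finset.sum_apply, Pi.single_apply]
  E i := LinearMap.mk₂ F (fun u v => D.slot i (vecMulVec u (D.G *ᵥ v)))
    (fun u u' v => by rw [Matrix.add_vecMulVec, map_add])
    (fun c u v => by rw [Matrix.smul_vecMulVec, map_smul])
    (fun u v v' => by rw [Matrix.mulVec_add, Matrix.vecMulVec_add, map_add])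
    (fun c u v => by rw [Matrix.mulVec_smul, Matrix.vecMulVec_smul, map_smul])
  mul i u v u' v' := by
    simp only [LinearMap.mk₂_apply]
    rw [← map_mul, Matrix.vecMulVec_mul_vecMulVec, f₁_eq, ← map_smul, dotProduct_comm]
    congr 1
    ext a b
    simp [Matrix.vecMulVec_apply]
    ring
  one i := by
    simp only [LinearMap.mk₂_apply, single_eq]
    rw [← map_sum, ← map_one (D.slot i)]
    congr 1
    ext a b
    simp [Matrix.sum_apply, Matrix.vecMulVec_apply, Pi.single_apply, Matrix.one_apply]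
  comm i j hij u v u' v' := by
    simp only [LinearMap.mk₂_apply]
    show D.tr _ * D.tr _ = D.tr _ * D.tr _
    rw [← map_mul, ← map_mul]
    congr 1
    show pureMat _ * pureMat _ = pureMat _ * pureMat _
    rw [pureMat_mul, pureMat_mul]
    congr 1
    funext l
    rcases eq_or_ne l i with rfl | hl
    · simp [hij]
    · simp [hl]
  ad := D.adM
  ad_mul := D.adM_mul
  ad_ad := D.adM_adM
  ad_one := D.adM_one
  ad_E i u v := by
    simp only [LinearMap.mk₂_apply]
    rw [← map_neg]
    refine D.adM_slot ?_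
    rw [Matrix.transpose_vecMulVec, Matrix.vecMulVec_mul, ← Matrix.mulVec_transpose, G_transpose, Matrix.neg_mulVec,
      mul_neg, Matrix.mul_vecMulVec, Matrix.vecMulVec_neg]
  scal x hx := by
    classical
    rcases isEmpty_or_nonempty (Fin t → Fin k) with hem | hne
    · haveI : IsEmpty (Fin n) := D.e.isEmpty
      exact ⟨0, Subsingleton.elim _ _⟩
    rcases isEmpty_or_nonempty (Fin k) with hk | hk
    · rcases Nat.eq_zero_or_pos t with rfl | ht
      · haveI : Subsingleton (Fin 0 → Fin k) := inferInstance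
        haveI : Subsingleton (Fin n) := D.e.subsingleton
        obtain ⟨a⟩ : Nonempty (Fin n) := D.e.nonempty
        refine ⟨x a a, ?_⟩
        ext p q
        rw [Subsingleton.elim p a, Subsingleton.elim q a]
        simp
      · exact (hk.false (hne.some ⟨0, ht⟩)).elim
    obtain ⟨c, hc⟩ := scalar_of_commute_slots (D.tr.symm x) fun i y => by
      have e1 : y = ∑ a, ∑ b, y a b • vecMulVec (Pi.single a 1) (D.G *ᵥ (D.G⁻¹ *ᵥ Pi.single b 1)) := by
        ext p q
        simp only [single_eq]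
        simp [Matrix.sum_apply, Matrix.vecMulVec_apply, Pi.single_apply]
      have e2 : x * D.slot i y = D.slot i y * x := by
        rw [e1]
        simp only [map_sum, map_smul, Finset.mul_sum, Finset.sum_mul, mul_smul_comm, smul_mul_assoc]
        exact Finset.sum_congr rfl fun a _ => Finset.sum_congr rfl fun b _ => congrArg _ (hx i _ _)
      have e3 := congrArg D.tr.symm e2
      rw [map_mul, map_mul, show D.tr.symm (D.slot i y) = sl i y from D.tr.symm_apply_apply _] at e3
      exact e3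
    refine ⟨c, ?_⟩
    have := congrArg D.tr hc
    rwa [AlgEquiv.apply_symm_apply, map_smul, map_one] at this

theorem sys_f (u v : Fin k → F) : D.sys.f u v = D.f₁ u v := rfl

theorem sys_E (i : Fin t) (u v : Fin k → F) : D.sys.E i u v = D.slot i (vecMulVec u (D.G *ᵥ v)) := rfl

theorem sys_ad (x : 𝕄) : D.sys.ad x = D.adM x := rfl

theorem slot_mem_phi (i : Fin t) (y : Matrix (Fin k) (Fin k) F) : D.slot i y ∈ D.sys.phi i := by
  have e1 : y = ∑ a, ∑ b, y a b • vecMulVec (Pi.single a 1) (D.G *ᵥ (D.G⁻¹ *ᵥ Pi.single b 1)) := by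
    ext p q
    simp only [single_eq]
    simp [Matrix.sum_apply, Matrix.vecMulVec_apply, Pi.single_apply]
  rw [e1]
  simp only [map_sum, map_smul]
  exact Submodule.sum_mem _ fun a _ => Submodule.sum_mem _ fun b _ =>
    Submodule.smul_mem _ _ (D.sys.E_mem_phi i (Pi.single a 1) (D.G⁻¹ *ᵥ Pi.single b 1))

theorem phi_le_range (i : Fin t) {z : 𝕄} (hz : z ∈ D.sys.phi i) : z ∈ (D.slot i).range := by
  induction hz using Submodule.span_induction with
  | mem z hz => obtain ⟨⟨u, v⟩, rfl⟩ := hz; exact ⟨_, rfl⟩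
  | zero => exact Subalgebra.zero_mem _
  | add a b _ _ ha hb => exact Subalgebra.add_mem _ ha hb
  | smul c a _ ha => exact Subalgebra.smul_mem _ ha c

/-- the stabiliser of the decomposition in the commutator subgroup of the isometries -/
def base : Subgroup (GL (Fin n) F) := tensorWreathSubgroup k t D.e D.P ⊓ omegaGL D.Q

theorem mem_wreath {y : GL (Fin t → Fin k) F} (hy : IsPureTensor k t y ∨ IsFactorPermutation k t y) :
    MulAut.conj D.P (glReindex D.e.symm y) ∈ tensorWreathSubgroup k t D.e D.P :=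
  Subgroup.mem_map_of_mem _ (Subgroup.mem_map_of_mem _ (Subgroup.subset_closure hy))

theorem conj_val (y : GL (Fin t → Fin k) F) :
    ((MulAut.conj D.P (glReindex D.e.symm y) : GL (Fin n) F) : 𝕄) = D.tr (y : Matrix _ _ F) := rfl

/-- members of the stabiliser permute the factors -/
theorem permutes_of_mem {g : GL (Fin n) F} (hg : g ∈ tensorWreathSubgroup k t D.e D.P) : Permutes D.sys g := by
  classical
  obtain ⟨g', ⟨y, hy, rfl⟩, rfl⟩ := hg
  have key : ∃ σ : Equiv.Perm (Fin t), ∀ l x, ∃ x',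
      (y : Matrix (Fin t → Fin k) (Fin t → Fin k) F) * sl l x *
        (↑y⁻¹ : Matrix (Fin t → Fin k) (Fin t → Fin k) F) = sl (σ l) x' := by
    induction hy using Subgroup.closure_induction with
    | mem y hy =>
      rcases hy with ⟨gs, hgs⟩ | ⟨σ, hσ⟩
      · refine ⟨1, fun l x => ⟨(gs l : Matrix (Fin k) (Fin k) F) * x * (↑(gs l)⁻¹ : Matrix (Fin k) (Fin k) F), ?_⟩⟩
        have ev : (y : Matrix (Fin t → Fin k) (Fin t → Fin k) F) = pureMat fun a => (gs a : Matrix (Fin k) (Fin k) F) := by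
          ext p q; exact hgs p q
        have ei : (↑y⁻¹ : Matrix (Fin t → Fin k) (Fin t → Fin k) F) = pureMat fun a => (↑(gs a)⁻¹ : Matrix (Fin k) (Fin k) F) :=
          Units.inv_eq_of_mul_eq_one_right (by rw [ev, pureMat_mul]; simp [pureMat_one])
        rw [ev, ei, sl_apply, sl_apply, pureMat_mul, pureMat_mul]
        congr 1
        funext a
        rcases eq_or_ne a l with rfl | ha
        · simp
        · simp [ha]
      · refine ⟨σ, fun l x => ⟨x, ?_⟩⟩
        have ev : (y : Matrix (Fin t → Fin k) (Fin t → Fin k) F) = permMat σ := by ext p q; exact hσ p q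
        have ei : (↑y⁻¹ : Matrix (Fin t → Fin k) (Fin t → Fin k) F) = permMat σ.symm :=
          Units.inv_eq_of_mul_eq_one_right (by rw [ev]; exact permMat_mul_inv σ)
        rw [ev, ei, sl_apply, sl_apply, show Function.update (fun _ => (1 : Matrix (Fin k) (Fin k) F)) l x =
            fun a => Function.update (fun _ => (1 : Matrix (Fin k) (Fin k) F)) (σ l) x (σ a) by
          funext a
          rcases eq_or_ne a l with rfl | ha
          · simp
          · rw [Function.update_of_ne ha, Function.update_of_ne (σ.injective.ne ha)],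
          ← pureMat_mul_permMat]
        simp only [Equiv.apply_symm_apply]
        rw [mul_assoc, permMat_mul_inv, mul_one]
    | one => exact ⟨1, fun l x => ⟨x, by simp⟩⟩
    | mul a b _ _ ha hb =>
      obtain ⟨σ, hσ⟩ := ha
      obtain ⟨τ, hτ⟩ := hb
      refine ⟨σ * τ, fun l x => ?_⟩
      obtain ⟨x₁, h1⟩ := hτ l x
      obtain ⟨x₂, h2⟩ := hσ (τ l) x₁
      exact ⟨x₂, by rw [Equiv.Perm.mul_apply, ← h2, ← h1]; simp [mul_assoc]⟩
    | inv a _ ha =>
      obtain ⟨σ, hσ⟩ := ha
      choose f hf using hσ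
      refine ⟨σ⁻¹, fun l x => ?_⟩
      have hinj : Function.Injective (f (σ⁻¹ l)) := by
        intro x₁ x₂ h
        have e1 := hf (σ⁻¹ l) x₁
        rw [h, ← hf (σ⁻¹ l) x₂] at e1
        simp only [Units.mul_left_inj, Units.mul_right_inj] at e1
        rcases isEmpty_or_nonempty (Fin k) with hk | hk
        · exact Subsingleton.elim _ _
        · exact (sl (σ⁻¹ l)).toRingHom.injective e1
      haveI : Finite (Matrix (Fin k) (Fin k) F) ∨ True := Or.inr trivial
      let L : Matrix (Fin k) (Fin k) F →ₗ[F] Matrix (Fin k) (Fin k) F :=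
        { toFun := f (σ⁻¹ l)
          map_add' := fun x y => by
            rcases isEmpty_or_nonempty (Fin k) with hk | hk
            · exact Subsingleton.elim _ _
            apply (sl (σ (σ⁻¹ l))).toRingHom.injective
            show sl _ _ = sl _ _
            rw [map_add, ← hf, ← hf, ← hf, map_add, mul_add, add_mul]
          map_smul' := fun c x => by
            rcases isEmpty_or_nonempty (Fin k) with hk | hk
            · exact Subsingleton.elim _ _
            apply (sl (σ (σ⁻¹ l))).toRingHom.injective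
            show sl _ _ = sl _ _
            rw [map_smul, ← hf, RingHom.id_apply, map_smul, ← hf, mul_smul_comm, smul_mul_assoc] }
      obtain ⟨x', hx'⟩ := (LinearMap.injective_iff_surjective (f := L)).1 hinj x
      refine ⟨x', ?_⟩
      have e1 := hf (σ⁻¹ l) x'
      rw [show f (σ⁻¹ l) x' = x from hx', show σ (σ⁻¹ l) = l from σ.apply_symm_apply l] at e1
      rw [← e1, inv_inv]
      simp [mul_assoc]
  obtain ⟨σ, hσ⟩ := key
  refine ⟨σ, fun l u v => ?_⟩
  obtain ⟨x', hx'⟩ := hσ l (vecMulVec u (D.G *ᵥ v))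
  rw [sys_E]
  rw [← map_inv, ← map_inv]
  show D.tr (y : Matrix (Fin t → Fin k) (Fin t → Fin k) F) * D.tr (sl l (vecMulVec u (D.G *ᵥ v))) *
    D.tr (↑y⁻¹ : Matrix (Fin t → Fin k) (Fin t → Fin k) F) ∈ D.sys.phi (σ l)
  rw [← map_mul, ← map_mul, hx']
  exact D.slot_mem_phi (σ l) x'

/-- a group permuting the factors lies in the stabiliser -/
theorem le_wreath_of_permutes [NeZero k] [Nonempty (Fin n)] (ht : 0 < t) {M : Subgroup (GL (Fin n) F)}
    (h : ∀ g ∈ M, Permutes D.sys g) : M ≤ tensorWreathSubgroup k t D.e D.P := by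
  classical
  refine le_tensorWreathSubgroup ht D.slot D.e D.P D.slot_eq fun g hg => ?_
  obtain ⟨σ, hσ⟩ := h g hg
  refine ⟨σ, fun i x => D.phi_le_range _ ?_⟩
  exact phi_map (T := D.sys) (hσ i) (D.slot_mem_phi i x)

/-- the vector of a pure tensor -/
def vec (a : Fin t → Fin k → F) : Fin n → F := (D.P : 𝕄) *ᵥ ((fun p => ∏ i, a i (p i)) ∘ D.e)

theorem q_vec (a : Fin t → Fin k → F) : D.Q (D.vec a) = 0 := D.hpure a

theorem slot_vec (l : Fin t) (M : Matrix (Fin k) (Fin k) F) (a : Fin t → Fin k → F) :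
    D.slot l M *ᵥ D.vec a = D.vec (Function.update a l (M *ᵥ a l)) := by
  classical
  show D.tr (sl l M) *ᵥ _ = _
  rw [tr_apply, vec, vec, ← Matrix.mulVec_mulVec, Matrix.mulVec_mulVec _ (↑D.P⁻¹ : 𝕄), Units.inv_mul,
    Matrix.one_mulVec, ← Matrix.mulVec_mulVec]
  congr 1
  funext p
  simp only [Matrix.mulVec, dotProduct, Matrix.reindex_apply, Matrix.submatrix_apply, Equiv.symm_symm,
    Function.comp_apply]
  rw [Equiv.sum_comp D.e (fun r => sl l M (D.e p) r * ∏ i, a i (r i))]
  simp only [sl_apply, pureMat, Matrix.of_apply, ← Finset.prod_mul_distrib]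
  rw [← Fintype.prod_sum fun i c => Function.update (fun _ => (1 : Matrix (Fin k) (Fin k) F)) l M i (D.e p i) c * a i c]
  refine Finset.prod_congr rfl fun i _ => ?_
  rcases eq_or_ne i l with rfl | hi
  · rw [Function.update_self, Function.update_self]; rfl
  · rw [Function.update_of_ne hi, Function.update_of_ne hi]
    simp [Matrix.one_apply]

theorem vec_E (l : Fin t) (u v : Fin k → F) (a : Fin t → Fin k → F) :
    D.sys.E l u v *ᵥ D.vec a = D.sys.f (a l) v • D.vec (Function.update a l u) := by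
  have hv : vecMulVec u (D.G *ᵥ v) *ᵥ a l = D.f₁ (a l) v • u := by
    rw [Matrix.vecMulVec_mulVec, f₁_eq, dotProduct_comm]
    ext i; simp [mul_comm]
  show D.slot l (vecMulVec u (D.G *ᵥ v)) *ᵥ D.vec a = D.f₁ (a l) v • D.vec (Function.update a l u)
  rw [slot_vec, hv, vec, vec, ← Matrix.mulVec_smul]
  congr 1
  funext p
  simp only [Function.comp_apply, Pi.smul_apply, smul_eq_mul, ← Finset.mul_prod_erase _ _ (Finset.mem_univ l),
    Function.update_self, mul_assoc]
  congr 2
  exact Finset.prod_congr rfl fun j hj => by simp [Function.update_of_ne (Finset.ne_of_mem_erase hj)]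

theorem polar_vec (x y : Fin t → Fin k → F) :
    QuadraticMap.polar D.Q (D.vec x) (D.vec y) = D.c * ∏ i, D.f₁ (x i) (y i) := by
  rw [vec, vec, D.hT]
  congr 1
  simp only [id_eq, ← Finset.prod_mul_distrib]
  rw [Finset.sum_congr rfl fun p _ => (Fintype.prod_sum fun i j =>
    x i (p i) * gramMatrix D.f₁ (p i) j * y i j).symm,
    ← Fintype.prod_sum fun i j => ∑ j', x i j * gramMatrix D.f₁ j j' * y i j']
  refine Finset.prod_congr rfl fun i _ => ?_
  rw [f₁_eq, dotProduct]
  refine Finset.sum_congr rfl fun p _ => ?_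
  rw [Matrix.mulVec, dotProduct, Finset.mul_sum]
  exact Finset.sum_congr rfl fun r _ => by rw [G, mul_assoc]

theorem span_vec : Submodule.span F (Set.range D.vec) = ⊤ := by
  classical
  refine eq_top_iff.2 fun x _ => ?_
  have hp : ∀ i, D.vec (fun l => Pi.single (D.e i l) 1) = (D.P : 𝕄) *ᵥ Pi.single i 1 := by
    intro i
    rw [vec]
    congr 1
    funext j
    simp only [Function.comp_apply, Pi.single_apply]
    rcases eq_or_ne j i with rfl | hj
    · simp
    · rw [if_neg hj]
      obtain ⟨l, hl⟩ := Function.ne_iff.1 (D.e.injective.ne hj)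
      exact Finset.prod_eq_zero (Finset.mem_univ l) (if_neg hl)
  have hx : x = ∑ i, ((↑D.P⁻¹ : 𝕄) *ᵥ x) i • D.vec fun l => Pi.single (D.e i l) 1 := by
    simp only [hp, ← Matrix.mulVec_smul, ← Matrix.mulVec_sum]
    rw [← pi_eq_sum_univ' ((↑D.P⁻¹ : 𝕄) *ᵥ x), Matrix.mulVec_mulVec, Units.mul_inv, Matrix.one_mulVec]
  rw [hx]
  exact Submodule.sum_mem _ fun i _ => Submodule.smul_mem _ _ (Submodule.subset_span ⟨_, rfl⟩)

/-- the pure tensors as a multilinear map -/
def vecM : MultilinearMap F (fun _ : Fin t => Fin k → F) (Fin n → F) :=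
  MultilinearMap.mk' D.vec
    (fun a l x y => by
      rw [vec, vec, vec, ← Matrix.mulVec_add]
      congr 1
      funext p
      simp only [Function.comp_apply, Pi.add_apply, ← Finset.mul_prod_erase _ _ (Finset.mem_univ l),
        Function.update_self, add_mul]
      congr 2 <;>
        exact Finset.prod_congr rfl fun j hj => by simp [Function.update_of_ne (Finset.ne_of_mem_erase hj)])
    (fun a l c x => by
      rw [vec, vec, ← Matrix.mulVec_smul]
      congr 1
      funext p
      simp only [Function.comp_apply, Pi.smul_apply, smul_eq_mul, ← Finset.mul_prod_erase _ _ (Finset.mem_univ l),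
        Function.update_self, mul_assoc]
      congr 2
      exact Finset.prod_congr rfl fun j hj => by simp [Function.update_of_ne (Finset.ne_of_mem_erase hj)])

/-- the tensor power as a quadratic space -/
noncomputable def pureSpace : PureSpace D.Qf (Fin k → F) (Fin t) where
  f := D.sys.f
  alt := D.sys.alt
  nd := D.sys.nondeg
  vec := D.vecM
  c := D.c
  hc := D.hc
  polar_vec := D.polar_vec
  q_vec := D.q_vec
  span := D.span_vec

/-- an isometry of the polar form with singular images of the pure tensors preserves the quadratic form -/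
theorem isom_of {g : 𝕄} (hg : D.adM g * g = 1) (hp : ∀ a, D.Q (g *ᵥ D.vec a) = 0) (v : Fin n → F) :
    D.Q (g *ᵥ v) = D.Q v := by
  have hS : gᵀ * D.S * g = D.S := by
    have := congrArg (fun z => D.S * z) hg
    simpa only [adM_apply, mul_assoc, D.S_cancel, mul_one] using this
  have hpol : ∀ x y, QuadraticMap.polar D.Q (g *ᵥ x) (g *ᵥ y) = QuadraticMap.polar D.Q x y := fun x y => by
    rw [polar_eq, polar_eq, Matrix.mulVec_mulVec, ← Matrix.vecMul_transpose, ← Matrix.dotProduct_mulVec,
      Matrix.mulVec_mulVec, ← mul_assoc, hS]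
  have hv : v ∈ Submodule.span F (Set.range D.vec) := by rw [D.span_vec]; trivial
  induction hv using Submodule.span_induction with
  | mem v hv => obtain ⟨a, rfl⟩ := hv; rw [hp, q_vec]
  | zero => rw [Matrix.mulVec_zero]
  | add x y _ _ hx hy =>
    have h := hpol x y
    simp only [QuadraticMap.polar] at h
    rw [Matrix.mulVec_add]
    linear_combination h + hx + hy
  | smul c x _ hx => rw [Matrix.mulVec_smul, D.hQ.smul, D.hQ.smul, hx]

end Data

end CfsgLib.MaxSub.SpPowO
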