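import Cfsg.Agent.Lib.Geom.SiegelFull

/-!
Isometries acting trivially on a totally singular subspace and on the quotient by it are products of Siegel
transformations of pairs of singular vectors.
-/

set_option autoImplicit false
set_option linter.unusedSectionVars false

namespace CfsgLib.MaxSub.SpPowO

open CfsgLib.Geom CfsgLib.Classical
open QuadraticMap (polar)

variable {F V : Type*} [Field F] [AddCommGroup V] [Module F V] [FiniteDimensional F V] {Q : QuadraticForm F V}

/-- `g` moves every vector inside the totally singular `U` and fixes `U` -/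
theorem mem_of_ts (hQ : ∀ x, (∀ y, polar Q x y = 0) → x = 0) {H : Subgroup (quadIsoms Q)}
    (hH : ∀ r s, Q r = 0 → Q s = 0 → polar Q r s = 0 → siegel Q r s ∈ H) {U : Submodule F V}
    (hU : ∀ u ∈ U, Q u = 0) (g : quadIsoms Q) (him : ∀ x, g.1 x - x ∈ U) (hfix : ∀ u ∈ U, g.1 u = u) : g ∈ H := by
  induction h : Module.finrank F V - Module.finrank F (LinearMap.ker (g.1.toLinearMap - LinearMap.id)) using
    Nat.strong_induction_on generalizing g with
  | _ n ih =>
    by_cases hall : ∀ x, g.1 x = x
    · rw [show g = 1 from quadIsoms_ext Q fun x => hall x]; exact one_mem H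
    push Not at hall
    obtain ⟨v, hv⟩ := hall
    have hUU : ∀ a ∈ U, ∀ b ∈ U, polar Q a b = 0 := fun a ha b hb => by
      rw [QuadraticMap.polar, hU _ (add_mem ha hb), hU a ha, hU b hb]; simp
    have hex : ∀ x, ∃ m ∈ U, g.1 x = x + m := fun x => ⟨_, him x, (add_sub_cancel _ _).symm⟩
    choose N hN hgN using hex
    have hself : ∀ x, polar Q x (N x) = 0 := fun x => by
      have h1 : Q (g.1 x) = Q x := g.2 x
      rw [hgN, QuadraticMap.map_add (Q : QuadraticMap F V F), hU _ (hN x)] at h1
      linear_combination h1
    have hpol : ∀ x y, polar Q x (N y) + polar Q y (N x) = 0 := fun x y => by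
      have h1 := OrthSub.polar_map g x y
      rw [hgN, hgN, QuadraticMap.polar_add_left, QuadraticMap.polar_add_right, QuadraticMap.polar_add_right,
        hUU _ (hN x) _ (hN y), QuadraticMap.polar_comm _ (N x) y] at h1
      linear_combination h1
    have hr0 : N v ≠ 0 := fun e => hv (by rw [hgN, e, add_zero])
    obtain ⟨w, hw⟩ := exists_partner Q hQ hr0
    have hQr : Q (N v) = 0 := hU _ (hN v)
    have hns : -N w ∈ U := neg_mem (hN w)
    have hrs : polar Q (N v) (-N w) = 0 := hUU _ (hN v) _ hns
    have hS := hH _ _ hQr (hU _ hns) hrs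
    obtain ⟨g', hg'⟩ : ∃ g', g' = siegel Q (N v) (-N w) * g := ⟨_, rfl⟩
    have happ : ∀ x, g'.1 x = x + (N x - polar Q (N v) x • N w + polar Q (N w) x • N v) := fun x => by
      rw [hg', Subgroup.coe_mul, LinearEquiv.mul_apply, siegel_apply Q hQr hrs, hU _ hns, hgN,
        QuadraticMap.polar_add_right, QuadraticMap.polar_add_right, hUU _ (hN v) _ (hN x), hUU _ hns _ (hN x),
        QuadraticMap.polar_neg_left]
      module
    have him' : ∀ x, g'.1 x - x ∈ U := fun x => by
      rw [happ, add_sub_cancel_left]
      exact add_mem (sub_mem (hN x) (U.smul_mem _ (hN w))) (U.smul_mem _ (hN v))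
    have hfix' : ∀ u ∈ U, g'.1 u = u := fun u hu => by
      have e : N u = 0 := add_left_cancel (a := u) (by rw [← hgN, hfix u hu, add_zero])
      rw [happ, e, hUU _ (hN v) _ hu, hUU _ (hN w) _ hu]
      simp
    have hker : ∀ x, g.1 x = x → g'.1 x = x := fun x hx => by
      have e : N x = 0 := add_left_cancel (a := x) (by rw [← hgN, hx, add_zero])
      have e1 : ∀ y, polar Q (N y) x = 0 := fun y => by
        rw [QuadraticMap.polar_comm]
        simpa [e, QuadraticMap.polar_zero_right] using hpol x y
      rw [happ, e, e1, e1]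
      simp
    have hfv : g'.1 v = v := by
      have e1 : polar Q (N v) v = 0 := by rw [QuadraticMap.polar_comm]; exact hself v
      have e2 : polar Q (N w) v = -1 := by
        rw [QuadraticMap.polar_comm]
        have := hpol v w
        rw [QuadraticMap.polar_comm _ w (N v), hw] at this
        linear_combination this
      rw [happ, e1, e2]
      simp
    have hlt : LinearMap.ker (g.1.toLinearMap - LinearMap.id) < LinearMap.ker (g'.1.toLinearMap - LinearMap.id) := by
      refine lt_of_le_of_ne (fun x hx => ?_) fun e => ?_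
      · simp only [LinearMap.mem_ker, LinearMap.sub_apply, LinearEquiv.coe_coe, LinearMap.id_apply, sub_eq_zero] at hx ⊢
        exact hker x hx
      · have : v ∈ LinearMap.ker (g'.1.toLinearMap - LinearMap.id) := by
          simp [LinearMap.mem_ker, hfv]
        rw [← e, LinearMap.mem_ker] at this
        simp only [LinearMap.sub_apply, LinearEquiv.coe_coe, LinearMap.id_apply, sub_eq_zero] at this
        exact hv this
    have h1 := Submodule.finrank_lt_finrank_of_lt hlt
    have h2 := Submodule.finrank_le (LinearMap.ker (g'.1.toLinearMap - LinearMap.id))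
    have := ih _ (by omega) g' him' hfix' rfl
    rw [hg'] at this
    simpa using mul_mem (inv_mem hS) this

/-- such an isometry lies in the commutator subgroup -/
theorem mem_commutator_of_ts [Finite F] (hQ : ∀ x, (∀ y, polar Q x y = 0) → x = 0) (h5 : 5 ≤ Module.finrank F V)
    {U : Submodule F V} (hU : ∀ u ∈ U, Q u = 0) (g : quadIsoms Q) (him : ∀ x, g.1 x - x ∈ U)
    (hfix : ∀ u ∈ U, g.1 u = u) : g ∈ commutator (quadIsoms Q) :=
  mem_of_ts hQ (fun r s _ _ _ => OrthSub.siegel_mem_commutator hQ h5 r s) hU g him hfix

/-- a span of singular vectors orthogonal to each other is totally singular -/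
theorem ts_span {S : Set V} (h0 : ∀ u ∈ S, Q u = 0) (h1 : ∀ u ∈ S, ∀ v ∈ S, polar Q u v = 0) :
    ∀ u ∈ Submodule.span F S, Q u = 0 := by
  intro u hu
  suffices h : Q u = 0 ∧ ∀ v ∈ S, polar Q u v = 0 from h.1
  induction hu using Submodule.span_induction with
  | mem u hu => exact ⟨h0 u hu, h1 u hu⟩
  | zero => exact ⟨QuadraticMap.map_zero _, fun v _ => QuadraticMap.polar_zero_left _ v⟩
  | smul c u _ h =>
    exact ⟨by rw [quad_smul, h.1, mul_zero], fun v hv => by rw [QuadraticMap.polar_smul_left, h.2 v hv, smul_zero]⟩
  | add u u' hu hu' h h' =>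
    refine ⟨?_, fun v hv => by rw [QuadraticMap.polar_add_left, h.2 v hv, h'.2 v hv, add_zero]⟩
    have : polar Q u u' = 0 := by
      clear h' 
      induction hu' using Submodule.span_induction with
      | mem x hx => exact h.2 x hx
      | zero => exact QuadraticMap.polar_zero_right _ u
      | smul c x _ hx => rw [QuadraticMap.polar_smul_right, hx, smul_zero]
      | add x y _ _ hx hy => rw [QuadraticMap.polar_add_right, hx, hy, add_zero]
    rw [QuadraticMap.map_add (Q : QuadraticMap F V F), h.1, h'.1, this]
    simp

end CfsgLib.MaxSub.SpPowO
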