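import Cfsg.Agent.Lib.MaxSub.SpPowO.Model
import Cfsg.Agent.Lib.MaxSub.SpPowO.Flip
import Cfsg.Agent.Lib.MaxSub.SpPowO.Act
import Cfsg.Agent.Lib.MaxSub.SpPowO.Unipotent
import Cfsg.Agent.Lib.Classical.Preserving

/-!
The stabiliser of a tensor power of a symplectic form in the commutator subgroup of the orthogonal group: root
elements of the factors, exchanges of two factors of three or more, an element outside.
-/

set_option autoImplicit false
set_option linter.unusedSectionVars false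

namespace CfsgLib.MaxSub.SpPowO

open Matrix CfsgLib.Aschbacher Cfsg.Geo CfsgLib.Geom
open CfsgLib.MaxSub.SpPow
open CfsgLib.MaxSub.SpPow.Data (sl sl_apply permMat_transpose' permMat_inv')
open CfsgLib.Classical (glLin glLin_apply siegel siegel_apply)
open scoped MatrixGroups

variable {F : Type*} [Field F] [Fintype F] {n k t : ℕ}

local notation "𝕄" => Matrix (Fin n) (Fin n) F

namespace Data

variable (D : Data F n k t)

theorem exists_preimage {g : GL (Fin n) F} (hq : ∀ v, D.Q ((g : 𝕄) *ᵥ v) = D.Q v) :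
    ∃ h : quadIsoms D.Qf, (∀ v, h.1 v = (g : 𝕄) *ᵥ v) ∧ isomsToGL D.Qf h = g := by
  refine ⟨⟨glLin g, mem_quadIsoms.2 fun v => by rw [glLin_apply]; exact hq v⟩, fun v => glLin_apply g v, ?_⟩
  exact Units.ext (Matrix.ext_of_mulVec_single fun b => by
    rw [isomsToGL_mulVec]; exact glLin_apply g _)

theorem omega_eq : omegaGL D.Q = (commutator (quadIsoms D.Qf)).map (isomsToGL D.Qf) :=
  omegaGL_eq_map D.Qf

theorem sep : ∀ x, (∀ y, QuadraticMap.polar D.Qf x y = 0) → x = 0 := quadFormOf_sep D.hQ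

theorem five_le (hn : 5 ≤ n) : 5 ≤ Module.finrank F (Fin n → F) := by rwa [Module.finrank_fin_fun]

/-- isometries acting trivially on a totally singular subspace and its quotient lie in `Ω` -/
theorem mem_omega_of_ts (hn : 5 ≤ n) {g : GL (Fin n) F} (hq : ∀ v, D.Q ((g : 𝕄) *ᵥ v) = D.Q v)
    {U : Submodule F (Fin n → F)} (hU : ∀ u ∈ U, D.Q u = 0) (him : ∀ x, (g : 𝕄) *ᵥ x - x ∈ U)
    (hfix : ∀ u ∈ U, (g : 𝕄) *ᵥ u = u) : g ∈ omegaGL D.Q := by
  obtain ⟨h, hv, hg⟩ := D.exists_preimage hq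
  rw [omega_eq, ← hg]
  exact Subgroup.mem_map_of_mem _ (mem_commutator_of_ts D.sep (five_le hn) (U := U) hU h
    (fun x => by rw [hv]; exact him x) fun u hu => by rw [hv]; exact hfix u hu)

theorem adM_of_isom {g : 𝕄} (hq : ∀ v, D.Q (g *ᵥ v) = D.Q v) : D.adM g * g = 1 := by
  have hS : gᵀ * D.S * g = D.S := by
    refine Matrix.ext fun a b => ?_
    have h : QuadraticMap.polar D.Q (g *ᵥ Pi.single a 1) (g *ᵥ Pi.single b 1) =
        QuadraticMap.polar D.Q (Pi.single a 1) (Pi.single b 1) := by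
      simp only [QuadraticMap.polar, ← Matrix.mulVec_add, hq]
    rw [polar_eq, polar_eq, Matrix.mulVec_mulVec, ← Matrix.vecMul_transpose, ← Matrix.dotProduct_mulVec,
      Matrix.mulVec_mulVec, ← mul_assoc] at h
    simpa using h
  rw [adM_apply, mul_assoc, mul_assoc, ← mul_assoc gᵀ, hS, Matrix.nonsing_inv_mul _ D.isUnit_S]

theorem iso_omega {g : GL (Fin n) F} (hg : g ∈ omegaGL D.Q) : D.adM (g : 𝕄) * (g : 𝕄) = 1 := by
  rw [omega_eq] at hg
  obtain ⟨h, -, rfl⟩ := hg
  exact D.adM_of_isom fun v => by rw [isomsToGL_mulVec]; exact h.2 v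

/-- in odd characteristic the isometries of the polar form preserve the quadratic form -/
theorem isom_of_odd (h2 : (2 : F) ≠ 0) {g : 𝕄} (hg : D.adM g * g = 1) (v : Fin n → F) :
    D.Q (g *ᵥ v) = D.Q v := by
  have hS : gᵀ * D.S * g = D.S := by
    have := congrArg (fun z => D.S * z) hg
    simpa only [adM_apply, mul_assoc, D.S_cancel, mul_one] using this
  have e : ∀ x, 2 * D.Q x = x ⬝ᵥ (D.S *ᵥ x) := fun x => by
    rw [← polar_eq, QuadraticMap.polar, ← two_smul F x, D.hQ.smul]; ring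
  refine mul_left_cancel₀ h2 ?_
  rw [e, e, Matrix.mulVec_mulVec, ← Matrix.vecMul_transpose, ← Matrix.dotProduct_mulVec, Matrix.mulVec_mulVec,
    ← mul_assoc, hS]

/-- the root elements of the factors -/
theorem root_base (hn : 5 ≤ n) (i : Fin t) (u : Fin k → F) (c : F) : InH D.base (1 + c • D.sys.E i u u) := by
  classical
  obtain ⟨z, hz⟩ : ∃ z, z = c • vecMulVec u (D.G *ᵥ u) := ⟨_, rfl⟩
  have hzz : z * z = 0 := by
    rw [hz, smul_mul_smul, Matrix.vecMulVec_mul_vecMulVec, dotProduct_comm, ← f₁_eq, D.hf₁.alternating]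
    ext a b
    simp [Matrix.vecMulVec_apply]
  let g : GL (Fin k) F := ⟨1 + z, 1 - z, by rw [add_mul, one_mul, mul_sub, mul_one, hzz]; abel,
    by rw [sub_mul, one_mul, mul_add, mul_one, hzz]; abel⟩
  let y : GL (Fin t → Fin k) F := Units.map (sl i).toMonoidHom g
  have hy : IsPureTensor k t y := by
    refine ⟨Function.update (fun _ => 1) i g, fun p q => ?_⟩
    show pureMat (Function.update (fun _ => (1 : Matrix (Fin k) (Fin k) F)) i (1 + z)) p q = _
    simp only [pureMat, Matrix.of_apply]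
    refine Finset.prod_congr rfl fun l _ => ?_
    rcases eq_or_ne l i with rfl | hl <;> simp [g, *]
  have hval : D.tr (y : Matrix _ _ F) = 1 + c • D.sys.E i u u := by
    show D.slot i (1 + z) = _
    rw [map_add, map_one, hz, map_smul, sys_E]
  have hiso : D.adM (D.tr (y : Matrix _ _ F)) * D.tr (y : Matrix _ _ F) = 1 := by
    rw [hval]
    have hd : D.adM (D.sys.E i u u) = -D.sys.E i u u := D.sys.ad_E i u u
    have hnn : D.sys.E i u u * D.sys.E i u u = 0 := D.sys.n_mul_self i u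
    rw [map_add, adM_one, map_smul, hd]
    simp [add_mul, mul_add, smul_mul_smul, hnn]
  obtain ⟨gg, hgg⟩ : ∃ gg, gg = MulAut.conj D.P (glReindex D.e.symm y) := ⟨_, rfl⟩
  have hgv : (gg : 𝕄) = 1 + c • D.sys.E i u u := by rw [hgg, conj_val, hval]
  refine ⟨gg, ⟨hgg ▸ D.mem_wreath (Or.inl hy), ?_⟩, hgv⟩
  have hvec : ∀ a, (gg : 𝕄) *ᵥ D.vec a = D.vec a + (c * D.f₁ (a i) u) • D.vec (Function.update a i u) := fun a => by
    rw [hgv, Matrix.add_mulVec, Matrix.one_mulVec, Matrix.smul_mulVec, vec_E, smul_smul]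
    rfl
  refine D.mem_omega_of_ts hn (D.isom_of (by rw [hgg, conj_val]; exact hiso) fun a => ?_)
    (U := Submodule.span F (D.vec '' {a | a i = u})) ?_ ?_ ?_
  · rw [hgg, conj_val]
    show D.Q (D.slot i (1 + z) *ᵥ D.vec a) = 0
    rw [slot_vec, q_vec]
  · refine ts_span (Q := D.Qf) (by rintro _ ⟨a, -, rfl⟩; exact D.q_vec a) ?_
    rintro _ ⟨a, ha, rfl⟩ _ ⟨b, hb, rfl⟩
    show QuadraticMap.polar D.Q (D.vec a) (D.vec b) = 0
    rw [polar_vec, Finset.prod_eq_zero (Finset.mem_univ i), mul_zero]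
    rw [show a i = u from ha, show b i = u from hb, D.hf₁.alternating]
  · intro x
    have hx : x ∈ Submodule.span F (Set.range D.vec) := by rw [D.span_vec]; trivial
    induction hx using Submodule.span_induction with
    | mem x hx =>
      obtain ⟨a, rfl⟩ := hx
      rw [hvec, add_sub_cancel_left]
      exact Submodule.smul_mem _ _ (Submodule.subset_span ⟨_, Function.update_self i u a, rfl⟩)
    | zero => rw [Matrix.mulVec_zero, sub_zero]; exact zero_mem _
    | add a b _ _ ha hb => rw [Matrix.mulVec_add, add_sub_add_comm]; exact add_mem ha hb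
    | smul r a _ ha => rw [Matrix.mulVec_smul, ← smul_sub]; exact Submodule.smul_mem _ r ha
  · intro x hx
    induction hx using Submodule.span_induction with
    | mem x hx =>
      obtain ⟨a, ha, rfl⟩ := hx
      rw [hvec, show a i = u from ha, D.hf₁.alternating, mul_zero, zero_smul, add_zero]
    | zero => rw [Matrix.mulVec_zero]
    | add a b _ _ ha hb => rw [Matrix.mulVec_add, ha, hb]
    | smul r a _ ha => rw [Matrix.mulVec_smul, ha]

theorem grp_of_le (hn : 5 ≤ n) {M : Subgroup (GL (Fin n) F)} (hb : D.base ≤ M) (hM : M ≤ omegaGL D.Q) :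
    Grp D.sys M where
  iso g hg := D.iso_omega (hM hg)
  root i u c := by
    obtain ⟨g, hg, hgv⟩ := D.root_base hn i u c
    exact ⟨g, hb hg, hgv⟩

theorem perm_vec (σ : Equiv.Perm (Fin t)) (a : Fin t → Fin k → F) :
    D.tr (permMat σ) *ᵥ D.vec a = D.vec (fun i => a (σ.symm i)) := by
  classical
  rw [tr_apply, vec, vec, ← Matrix.mulVec_mulVec, Matrix.mulVec_mulVec _ (↑D.P⁻¹ : 𝕄), Units.inv_mul,
    Matrix.one_mulVec, ← Matrix.mulVec_mulVec]
  congr 1
  funext p
  simp only [Matrix.mulVec, dotProduct, Matrix.reindex_apply, Matrix.submatrix_apply, Equiv.symm_symm,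
    Function.comp_apply]
  rw [Equiv.sum_comp D.e (fun r => permMat σ (D.e p) r * ∏ i, a i (r i))]
  simp only [permMat, Matrix.of_apply, ite_mul, one_mul, zero_mul, Finset.sum_ite_eq', Finset.mem_univ, if_true]
  rw [← Equiv.prod_comp σ (fun i => a (σ.symm i) (D.e p i))]
  simp

/-- exchanges of two of at least three factors lie in the stabiliser -/
theorem swap_base (hn : 5 ≤ n) (ht : 3 ≤ t) (hkev : Even k) (hpar : (2 : F) ≠ 0 → 4 ≤ t) (i j : Fin t) (hij : i ≠ j) :
    ∃ g ∈ D.base, ∀ l u v, (g : 𝕄) * D.sys.E l u v * (↑g⁻¹ : 𝕄) = D.sys.E (Equiv.swap i j l) u v := by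
  classical
  obtain ⟨σ, hσ⟩ : ∃ σ : Equiv.Perm (Fin t), σ = Equiv.swap i j := ⟨_, rfl⟩
  rw [← hσ]
  have hσσ : σ.symm = σ := by rw [hσ, Equiv.symm_swap]
  let y : GL (Fin t → Fin k) F := ⟨permMat σ, permMat σ.symm, permMat_mul_inv σ, permMat_inv' σ⟩
  have hy : IsFactorPermutation k t y := ⟨σ, fun p q => rfl⟩
  obtain ⟨g, hg⟩ : ∃ g, g = MulAut.conj D.P (glReindex D.e.symm y) := ⟨_, rfl⟩
  have hgv : (g : 𝕄) = D.tr (permMat σ) := by rw [hg, conj_val]
  have hE : ∀ l u v, (g : 𝕄) * D.sys.E l u v * (↑g⁻¹ : 𝕄) = D.sys.E (σ l) u v := by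
    intro l u v
    rw [hg, ← map_inv, conj_val, ← map_inv, conj_val, sys_E, sys_E]
    show D.tr (permMat σ) * D.tr (sl l _) * D.tr (permMat σ.symm) = D.tr (sl (σ l) _)
    rw [← map_mul, ← map_mul]
    congr 1
    rw [sl_apply, sl_apply, show Function.update (fun _ => (1 : Matrix (Fin k) (Fin k) F)) l
        (vecMulVec u (D.G *ᵥ v)) = fun a => Function.update (fun _ => (1 : Matrix (Fin k) (Fin k) F)) (σ l)
        (vecMulVec u (D.G *ᵥ v)) (σ a) by
      funext a
      rcases eq_or_ne a l with rfl | ha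
      · simp
      · rw [Function.update_of_ne ha, Function.update_of_ne (σ.injective.ne ha)],
      ← pureMat_mul_permMat]
    simp only [Equiv.apply_symm_apply]
    rw [mul_assoc, permMat_mul_inv, mul_one]
  have hga : D.adM (g : 𝕄) = (g : 𝕄) := by
    rw [hgv, D.adM_tr (X' := permMat σ.symm), hσσ]
    show (permMat σ)ᵀ * D.pG = _
    rw [permMat_transpose']
    exact (pureMat_mul_permMat σ.symm (fun _ => D.G)).symm
  have hgg : (g : 𝕄) * (g : 𝕄) = 1 := by
    rw [hgv, ← map_mul]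
    conv_lhs => arg 2; arg 2; rw [← hσσ]
    rw [permMat_mul_inv, map_one]
  have hiso : D.adM (g : 𝕄) * (g : 𝕄) = 1 := by rw [hga, hgg]
  refine ⟨g, ⟨hg ▸ D.mem_wreath (Or.inr hy), ?_⟩, hE⟩
  obtain ⟨m, hmi, hmj⟩ : ∃ m : Fin t, m ≠ i ∧ m ≠ j := by
    by_contra h
    push Not at h
    have h1 : (Finset.univ : Finset (Fin t)) ⊆ {i, j} := fun m _ => by
      rcases eq_or_ne m i with rfl | hm
      · simp
      · simp [h m hm]
    have h2 := (Finset.card_le_card h1).trans Finset.card_le_two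
    simp at h2
    omega
  by_cases h2 : (2 : F) = 0
  · have hq := D.isom_of (g := (g : 𝕄)) hiso fun a => by rw [hgv, perm_vec, q_vec]
    have hggv : ∀ v, (g : 𝕄) *ᵥ ((g : 𝕄) *ᵥ v) = v := fun v => by
      rw [Matrix.mulVec_mulVec, hgg, Matrix.one_mulVec]
    have hself : ∀ v, QuadraticMap.polar D.Q ((g : 𝕄) *ᵥ v) v = 0 := fun v => by
      have hsym : ∀ a b, QuadraticMap.polar D.Q ((g : 𝕄) *ᵥ a) b = QuadraticMap.polar D.Q ((g : 𝕄) *ᵥ b) a := fun a b => by
        conv_lhs => rw [← hggv b]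
        rw [QuadraticMap.polar_comm (D.Q) _ a]
        simp only [QuadraticMap.polar, ← Matrix.mulVec_add, hq]
      have hv : v ∈ Submodule.span F (Set.range D.vec) := by rw [D.span_vec]; trivial
      induction hv using Submodule.span_induction with
      | mem v hv =>
        obtain ⟨a, rfl⟩ := hv
        rw [hgv, perm_vec, polar_vec, Finset.prod_eq_zero (Finset.mem_univ m), mul_zero]
        rw [hσσ, hσ, Equiv.swap_apply_of_ne_of_ne hmi hmj, D.hf₁.alternating]
      | zero => rw [Matrix.mulVec_zero, polar_eq, zero_dotProduct]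
      | add a b _ _ ha hb =>
        rw [Matrix.mulVec_add, D.hQ.polar_bilinear.add_left, D.hQ.polar_bilinear.add_right,
          D.hQ.polar_bilinear.add_right, ha, hb, hsym a b]
        linear_combination QuadraticMap.polar D.Q ((g : 𝕄) *ᵥ b) a * h2
      | smul r a _ ha =>
        rw [Matrix.mulVec_smul, D.hQ.polar_bilinear.smul_left, D.hQ.polar_bilinear.smul_right, ha, mul_zero, mul_zero]
    refine D.mem_omega_of_ts hn hq (U := LinearMap.range (Matrix.mulVecLin (g : 𝕄) - LinearMap.id)) ?_ (fun x => ⟨x, rfl⟩) ?_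
    · rintro _ ⟨v, rfl⟩
      show D.Q ((g : 𝕄) *ᵥ v - v) = 0
      have h := QuadraticMap.map_add D.Qf ((g : 𝕄) *ᵥ v - v) v
      rw [sub_add_cancel, show ⇑D.Qf = D.Q from rfl, hq, D.hQ.polar_bilinear.smul_left (-1) v v |> fun _ =>
        show QuadraticMap.polar D.Q ((g : 𝕄) *ᵥ v - v) v = -(2 * D.Q v) by
          rw [sub_eq_add_neg, ← neg_one_smul F v, D.hQ.polar_bilinear.add_left, hself,
            D.hQ.polar_bilinear.smul_left, QuadraticMap.polar, ← two_smul F v, D.hQ.smul]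
          ring] at h
      linear_combination -h + D.Q v * h2
    · rintro _ ⟨v, rfl⟩
      show (g : 𝕄) *ᵥ ((g : 𝕄) *ᵥ v - v) = (g : 𝕄) *ᵥ v - v
      rw [Matrix.mulVec_sub, hggv, ← sub_eq_zero]
      have : (2 : F) • (v - (g : 𝕄) *ᵥ v) = 0 := by rw [h2, zero_smul]
      rw [two_smul] at this
      rw [← this]
      abel
  · have h4 := hpar h2
    obtain ⟨m', hm'i, hm'j, hmm⟩ : ∃ m' : Fin t, m' ≠ i ∧ m' ≠ j ∧ m' ≠ m := by
      by_contra h
      push Not at h
      have h1 : (Finset.univ : Finset (Fin t)) ⊆ {i, j, m} := fun l _ => by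
        by_cases hli : l = i
        · simp [hli]
        by_cases hlj : l = j
        · simp [hlj]
        simp [h l hli hlj]
      have h3 := (Finset.card_le_card h1).trans Finset.card_le_three
      simp at h3
      omega
    obtain ⟨s, hs⟩ := hkev
    have hdim : Module.finrank F (Fin k → F) = 2 * s := by rw [Module.finrank_fin_fun]; omega
    obtain ⟨p, -, hp, -, hpp, hpa, -, -, -⟩ := exists_split D.sys hdim m
    obtain ⟨p', w, hp', hw, hpp', hpa', hwl, hwr, hwp⟩ := exists_split D.sys hdim m'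
    have hcom : ∀ l, l ≠ i → l ≠ j → ∀ z ∈ D.sys.phi l, Commute (g : 𝕄) z := by
      intro l hli hlj z hz
      induction hz using Submodule.span_induction with
      | mem z hz =>
        obtain ⟨⟨u, v⟩, rfl⟩ := hz
        have h := hE l u v
        rw [hσ, Equiv.swap_apply_of_ne_of_ne hli hlj] at h
        show (g : 𝕄) * D.sys.E l u v = D.sys.E l u v * (g : 𝕄)
        conv_rhs => rw [← h]
        rw [mul_assoc, Units.inv_mul, mul_one]
      | zero => exact Commute.zero_right _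
      | add a b _ _ ha hb => exact ha.add_right hb
      | smul r a _ ha => exact ha.smul_right r
    obtain ⟨a, b, ha, hb, hab⟩ := exists_commutator (T := D.sys) hgg hga hpp hpp' hpa hpa' hwl hwr hwp
      (hcom m hmi hmj p hp) (hcom m' hm'i hm'j p' hp') (hcom m' hm'i hm'j w hw)
      (D.sys.commute_phi hp (D.sys.cen_of_phi hmm.symm hp'))
      (D.sys.commute_phi hw (D.sys.cen_of_phi hmm hp))
    obtain ⟨a', -, ha'⟩ := D.exists_preimage (D.isom_of_odd h2 ha)
    obtain ⟨b', -, hb'⟩ := D.exists_preimage (D.isom_of_odd h2 hb)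
    rw [omega_eq, show g = isomsToGL D.Qf (a' * b' * a'⁻¹ * b'⁻¹) by
      rw [map_mul, map_mul, map_mul, map_inv, map_inv, ha', hb']; exact Units.ext hab.symm]
    exact Subgroup.mem_map_of_mem _
      (Subgroup.commutator_mem_commutator (Subgroup.mem_top a') (Subgroup.mem_top b'))

theorem perms_of_le (hn : 5 ≤ n) (hkev : Even k) (hpar : (2 : F) ≠ 0 → Even t) {M : Subgroup (GL (Fin n) F)}
    (hb : D.base ≤ M) : 2 < Fintype.card (Fin t) → Perms D.sys M := by
  intro ht i j
  rw [Fintype.card_fin] at ht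
  rcases eq_or_ne i j with rfl | hij
  · exact ⟨1, one_mem M, fun l u v => by simp⟩
  obtain ⟨g, hg, hgE⟩ := D.swap_base hn (by omega) hkev (fun h => by obtain ⟨r, hr⟩ := hpar h; omega) i j hij
  exact ⟨g, hb hg, hgE⟩

/-- the tensor power acts on the quadratic space -/
theorem acts : Acts D.sys D.pureSpace (Matrix.toLinAlgEquiv' : 𝕄 ≃ₐ[F] _).toAlgHom :=
  ⟨rfl, fun l u v a => D.vec_E l u v a⟩

/-- the stabiliser is proper -/
theorem base_ne (hn : 5 ≤ n) (hk : 2 ≤ k) (ht : 2 ≤ t) (h4 : k = 2 → 4 ≤ t) : D.base ≠ omegaGL D.Q := by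
  classical
  haveI : Nonempty (Fin n) := ⟨⟨0, by omega⟩⟩
  intro heq
  obtain ⟨l, m, hlm⟩ : ∃ l m : Fin t, l ≠ m := ⟨⟨0, by omega⟩, ⟨1, by omega⟩, by simp [Fin.ext_iff]⟩
  obtain ⟨e, he⟩ : ∃ e : Fin k → F, e ≠ 0 :=
    ⟨Pi.single ⟨0, by omega⟩ 1, fun h => by simpa using congrFun h ⟨0, by omega⟩⟩
  obtain ⟨f₀, hef⟩ := D.sys.exists_partner he
  obtain ⟨z, hz⟩ : ∃ z, ∀ c : F, z ≠ c • e := ⟨f₀, fun c h => by simp [h, D.sys.alt] at hef⟩
  obtain ⟨z, hez, hzi⟩ : ∃ z, (D.sys.f e z = 0 ∨ k = 2) ∧ ∀ c : F, z ≠ c • e := by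
    by_cases hk2 : k = 2
    · exact ⟨z, Or.inr hk2, hz⟩
    obtain ⟨q, hq0, hq⟩ := exists_perp D.sys ![e, f₀] (by rw [Module.finrank_fin_fun]; omega)
    exact ⟨q, Or.inl (D.sys.perp_left (hq 0)), fun c h => hq0 (by
      have h1 : D.sys.f q f₀ = 0 := hq 1
      rw [h, map_smul, LinearMap.smul_apply, hef, smul_eq_mul, mul_one] at h1
      rw [h, h1, zero_smul])⟩
  obtain ⟨y, hy⟩ : ∃ y : Fin t → Fin k → F, y = fun _ => e := ⟨_, rfl⟩
  obtain ⟨r, hr⟩ : ∃ r, r = D.vec (Function.update y l e) := ⟨_, rfl⟩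
  obtain ⟨s, hs⟩ : ∃ s, s = D.vec (Function.update y l z) := ⟨_, rfl⟩
  have hrs : QuadraticMap.polar D.Q r s = 0 := by
    rw [hr, hs, polar_vec, Finset.prod_eq_zero (Finset.mem_univ m), mul_zero]
    rw [Function.update_of_ne hlm.symm, Function.update_of_ne hlm.symm, D.hf₁.alternating]
  have hgΩ : isomsToGL D.Qf (siegel D.Qf r s) ∈ omegaGL D.Q := by
    rw [omega_eq]
    exact Subgroup.mem_map_of_mem _ (OrthSub.siegel_mem_commutator D.sep (five_le hn) r s)
  obtain ⟨g, hg⟩ : ∃ g, g = isomsToGL D.Qf (siegel D.Qf r s) := ⟨_, rfl⟩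
  obtain ⟨W, hWd⟩ : ∃ W, W = D.sys.xop l e z *
      D.sys.tens (Function.update (pv D.sys (restSl y l)) m 1) := ⟨_, rfl⟩
  have hN : D.sys.xop l e z * rest D.sys y l = D.sys.E m e e * W := by
    rw [hWd, rest, Sys.tens_split _ m, ← mul_assoc, ← mul_assoc,
      show ((pv D.sys (restSl y l) m : D.sys.phiA m) : 𝕄) = D.sys.E m e e by
        show ((D.sys.op m (restSl y l m) : D.sys.phiA m) : 𝕄) = _
        rw [restSl_ne y hlm.symm, hy]; rfl,
      (D.sys.cen_of_phi hlm.symm (D.sys.xop_mem_phi l e z)) e e]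
  have hgv : (g : 𝕄) = 1 + (-D.c) • (D.sys.E m e e * W) := by
    rw [← hN]
    refine Matrix.ext_of_mulVec_single fun b => ?_
    have h1 : (D.sys.xop l e z * rest D.sys y l) *ᵥ Pi.single b 1 = D.c⁻¹ •
        (QuadraticMap.polar D.Q (Pi.single b 1) s • r - QuadraticMap.polar D.Q (Pi.single b 1) r • s) := by
      rw [hr, hs]
      exact D.acts.long_vec y l e z _
    rw [hg, isomsToGL_mulVec, siegel_apply D.Qf (hr ▸ D.q_vec _) hrs, Matrix.add_mulVec, Matrix.one_mulVec,
      Matrix.smul_mulVec, h1, smul_smul, neg_mul, mul_inv_cancel₀ D.hc, neg_one_smul,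
      QuadraticMap.polar_comm _ r, QuadraticMap.polar_comm _ s, show D.Qf s = 0 from hs ▸ D.q_vec _]
    simp only [show ⇑D.Qf = D.Q from rfl]
    module
  have hW : D.sys.Cen m W :=
    hWd ▸ (D.sys.cen_of_phi hlm.symm (D.sys.xop_mem_phi l e z)).mul (Sys.cen_rest _ m)
  have hrest : D.sys.Cen l (D.sys.tens (Function.update (pv D.sys (restSl y l)) m 1)) :=
    Sys.cen_tens (by rw [Function.update_of_ne hlm]; exact pv_one (restSl_self y l))
  have hWW : W * W = 0 := by
    rw [hWd, mul_assoc, ← mul_assoc (D.sys.tens _), ← D.sys.commute_phi (D.sys.xop_mem_phi l e z) hrest, mul_assoc,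
      ← mul_assoc]
    rcases hez with h | h
    · have hx : D.sys.xop l e z * D.sys.xop l e z = 0 := by
        simp [Sys.xop, mul_sub, sub_mul, D.sys.mul, h, D.sys.perp_left h, D.sys.alt]
      rw [hx, zero_mul]
    · obtain ⟨m', hm'l, hm'm⟩ : ∃ m', m' ≠ l ∧ m' ≠ m := by
        by_contra hno
        push Not at hno
        have h1 : (Finset.univ : Finset (Fin t)) ⊆ {l, m} := fun x _ => by
          rcases eq_or_ne x l with rfl | hx
          · simp
          · simp [hno x hx]
        have h2 := (Finset.card_le_card h1).trans Finset.card_le_two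
        simp at h2
        have := h4 h
        omega
      rw [← map_mul, Sys.tens_split _ m']
      have hop : ((Function.update (pv D.sys (restSl y l)) m 1 m' : D.sys.phiA m') : 𝕄) = D.sys.E m' e e := by
        rw [Function.update_of_ne hm'm]
        show ((D.sys.op m' (restSl y l m') : D.sys.phiA m') : 𝕄) = _
        rw [restSl_ne y hm'l, hy]; rfl
      rw [Pi.mul_apply, MulMemClass.coe_mul, hop, D.sys.n_mul_self, zero_mul, mul_zero]
  have hW0 : W ≠ 0 := by
    intro h0
    obtain ⟨q, hq1, hq2⟩ : ∃ q, D.sys.f q z = 1 ∧ D.sys.f q e = 0 := by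
      obtain ⟨q, h1, h2⟩ := exists_dual D.sys he hzi 0 (-1)
      exact ⟨q, by rw [D.sys.swap z q, h2, neg_neg], by rw [D.sys.swap e q, h1, neg_zero]⟩
    obtain ⟨b, hb⟩ : ∃ b : Fin t → Fin k → F, b = Function.update (fun _ => f₀) l q := ⟨_, rfl⟩
    have h1 := D.acts.long_vec y l e z (D.vec b)
    rw [hN, h0, mul_zero, map_zero, LinearMap.zero_apply] at h1
    have hps : QuadraticMap.polar D.Qf (D.vec b) (D.vec (Function.update y l z)) ≠ 0 := by
      show QuadraticMap.polar D.Q _ _ ≠ 0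
      rw [polar_vec]
      refine mul_ne_zero D.hc (Finset.prod_ne_zero_iff.2 fun x _ => ?_)
      rw [hb]
      rcases eq_or_ne x l with rfl | hx
      · rw [Function.update_self, Function.update_self, ← sys_f, hq1]; exact one_ne_zero
      · rw [Function.update_of_ne hx, Function.update_of_ne hx, hy, ← sys_f, D.sys.swap e f₀, hef]
        exact neg_ne_zero.2 one_ne_zero
    have hpr : QuadraticMap.polar D.Qf (D.vec b) (D.vec (Function.update y l e)) = 0 := by
      show QuadraticMap.polar D.Q _ _ = 0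
      rw [polar_vec, Finset.prod_eq_zero (Finset.mem_univ l), mul_zero]
      rw [hb, Function.update_self, Function.update_self, ← sys_f, hq2]
    have hr0 : D.vec (Function.update y l e) ≠ 0 := fun h => by
      have h2 := D.polar_vec (Function.update y l e) fun _ => f₀
      rw [h, polar_eq, zero_dotProduct, Finset.prod_eq_one, mul_one] at h2
      · exact D.hc h2.symm
      · intro x _
        rcases eq_or_ne x l with rfl | hx <;> simp [*, ← sys_f]
    change (0 : Fin n → F) = D.c⁻¹ • (_ • D.vec _ - _ • D.vec _) at h1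
    rw [show QuadraticMap.polar D.Qf (D.vec b) (D.pureSpace.vec (Function.update y l e)) = 0 from hpr, zero_smul,
      sub_zero, smul_smul, eq_comm, smul_eq_zero, mul_eq_zero] at h1
    exact h1.elim (fun h => h.elim (inv_ne_zero D.hc) hps) hr0
  refine not_permutes_of (T := D.sys) hef hW hWW hW0 (neg_ne_zero.2 D.hc) hgv (D.permutes_of_mem ?_)
  rw [← hg, ← heq] at hgΩ
  exact hgΩ.1

end Data

end CfsgLib.MaxSub.SpPowO
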