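import Cfsg.Agent.Lib.MaxSub.SpPowO.Long
import Cfsg.Agent.Lib.MaxSub.SpPow.Move

/-!
Tensor powers of a symplectic space: one long root element gives those at all pairs of orthogonal vectors of every
factor, with any vectors in the other factors.
-/

set_option autoImplicit false
set_option linter.unusedSectionVars false

namespace CfsgLib.MaxSub.SpPowO

open CfsgLib.MaxSub.SpPow

variable {F A R ι κ : Type*} [Field F] [AddCommGroup A] [Module F A] [Ring R] [Algebra F R] [Fintype κ]
  [Fintype ι] [DecidableEq ι]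
variable {T : Sys F A R ι κ} {H : Subgroup Rˣ}

/-- root elements of all slots but `l` -/
def restSl (y : ι → A) (l : ι) : ι → Sl A := fun m => if m = l then .one else .nn (y m) (y m)

/-- the operator of a family of vectors, one in each factor but `l` -/
def rest (T : Sys F A R ι κ) (y : ι → A) (l : ι) : R := T.tens (pv T (restSl y l))

theorem restSl_self (y : ι → A) (l : ι) : restSl y l l = Sl.one := if_pos rfl

theorem restSl_ne (y : ι → A) {l m : ι} (h : m ≠ l) : restSl y l m = .nn (y m) (y m) := if_neg h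

theorem cen_rest_self (y : ι → A) (l : ι) : T.Cen l (rest T y l) :=
  Sys.cen_tens (pv_one (restSl_self y l))

theorem rest_zero {y : ι → A} {l m : ι} (hm : m ≠ l) (h : y m = 0) : rest T y l = 0 := by
  rw [rest, Sys.tens_split _ m]
  simp [pv, restSl_ne y hm, Sys.op, h]

theorem rest_sq (y : ι → A) {l m : ι} (hm : m ≠ l) : rest T y l * rest T y l = 0 := by
  rw [rest, ← map_mul, Sys.tens_split _ m]
  simp [pv, restSl_ne y hm, Sys.op, T.n_mul_self]

/-- conjugation in the factor -/
theorem conj_root {l : ι} {w : A} {c : F} {h : Rˣ} (hh : (h : R) = 1 + c • T.E l w w) (u z : A) :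
    (h : R) * T.xop l u z * (↑h⁻¹ : R) = T.xop l (u + (c * T.f u w) • w) (z + (c * T.f z w) • w) := by
  have hzz : (c • T.E l w w) * (c • T.E l w w) = 0 := by rw [smul_mul_smul, T.n_mul_self, smul_zero]
  rw [inv_one_add hzz hh, hh]
  simp only [Sys.xop, add_mul, mul_sub, sub_mul, one_mul, mul_one, T.mul, map_add, map_smul, LinearMap.add_apply,
    LinearMap.smul_apply, smul_smul, smul_add, smul_sub, smul_mul_assoc, mul_smul_comm, T.swap u w, T.swap z w]
  module

/-- moving the vectors of the factor -/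
theorem pair_conj (G : Grp T H) {y : ι → A} {l : ι} {u z : A} (h : InL F H (T.xop l u z * rest T y l)) (w : A)
    (c : F) : InL F H (T.xop l (u + (c * T.f u w) • w) (z + (c * T.f z w) • w) * rest T y l) := by
  obtain ⟨g, hg, hgv⟩ := G.root l w c
  have := h.conj hg
  have hgm : (g : R) ∈ T.phi l := hgv ▸ add_mem (T.one_mem_phi l) ((T.phi l).smul_mem _ (T.E_mem_phi l w w))
  have hc : rest T y l * (↑g⁻¹ : R) = (↑g⁻¹ : R) * rest T y l :=
    (Commute.units_inv_right (show Commute (rest T y l) (g : R) from (T.commute_phi hgm (cen_rest_self y l)).symm)).eq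
  rwa [mul_assoc, mul_assoc, hc, ← mul_assoc, ← mul_assoc, conj_root hgv] at this

/-- the vectors of the other factors are arbitrary -/
theorem pair_move (G : Grp T H) {y y' : ι → A} {l : ι} (hy : ∀ m, m ≠ l → y m ≠ 0) {u z : A}
    (h : InL F H (T.xop l u z * rest T y l)) : InL F H (T.xop l u z * rest T y' l) := by
  by_cases hy' : ∀ m, m ≠ l → y' m ≠ 0
  swap
  · simp only [not_forall, not_not] at hy'
    obtain ⟨m, hm, h0⟩ := hy'
    rw [rest_zero hm h0, mul_zero]
    exact fun c => by simpa using (InH.one : InH H (1 : R))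
  suffices key : ∀ S : Finset ι, InL F H (T.xop l u z * rest T (fun m => if m ∈ S then y' m else y m) l) by
    simpa using key Finset.univ
  intro S
  induction S using Finset.induction_on with
  | empty => simpa using h
  | insert m S hmS ih =>
    rcases eq_or_ne m l with rfl | hml
    · convert ih using 2
      refine congrArg (fun x => T.tens (pv T x)) ?_
      funext k
      rcases eq_or_ne k m with rfl | hk
      · simp [restSl]
      · simp [restSl, hk]
    obtain ⟨g, hg, hgc, hgv⟩ := G.exists_carry (hy m hml) (hy' m hml) m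
    obtain ⟨a', ha'⟩ : ∃ a' : ι → A, a' = fun k => if k ∈ S then y' k else y k := ⟨_, rfl⟩
    rw [← ha'] at ih
    have e0 : pv T (restSl (fun k => if k ∈ insert m S then y' k else y k) l) =
        Function.update (pv T (restSl a' l)) m (T.op m (Sl.nn (y' m) (y' m))) := by
      rw [← pv_update]
      congr 1
      funext k
      rcases eq_or_ne k m with rfl | hk
      · simp [restSl, hml]
      · simp [restSl, ha', hk]
    have h1 := ih.conj hg
    have hx : (g : R) * T.xop l u z = T.xop l u z * (g : R) :=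
      (T.commute_phi (T.xop_mem_phi l u z) (hgc l (Ne.symm hml))).symm
    rw [← mul_assoc, hx, mul_assoc (T.xop l u z), mul_assoc (T.xop l u z)] at h1
    unfold rest at h1 ⊢
    rw [Sys.tens_conj _ m hgc (T.op m (Sl.nn (y' m) (y' m))) (by
      simpa [pv, Sys.op, restSl, ha', hml, hmS] using hgv), ← e0] at h1
    exact h1

/-- the factor is arbitrary -/
theorem pair_swap (P : Perms T H) {y : ι → A} {l : ι} {u z : A} (h : InL F H (T.xop l u z * rest T y l)) (l' : ι) :
    ∃ y' : ι → A, (∀ m, m ≠ l' → ∃ k, k ≠ l ∧ y' m = y k) ∧ InL F H (T.xop l' u z * rest T y' l') := by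
  obtain ⟨g, hg, hgE⟩ := P l l'
  refine ⟨fun m => y (Equiv.swap l l' m), fun m hm => ⟨_, ?_, rfl⟩, ?_⟩
  · intro e
    exact hm (by simpa using congrArg (Equiv.swap l l') e)
  have e : restSl y l ∘ (Equiv.swap l l').symm = restSl (fun m => y (Equiv.swap l l' m)) l' := by
    funext m
    rcases eq_or_ne m l' with rfl | hm
    · simp [restSl]
    · have : Equiv.swap l l' m ≠ l := fun e => hm (by simpa using congrArg (Equiv.swap l l') e)
      simp [restSl, hm, this]
  have hx : (g : R) * T.xop l u z * (↑g⁻¹ : R) = T.xop l' u z := by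
    simp only [Sys.xop, mul_sub, sub_mul, hgE, Equiv.swap_apply_left]
  have h1 := h.conj hg
  rw [show (g : R) * (T.xop l u z * rest T y l) * (↑g⁻¹ : R) =
      (g : R) * T.xop l u z * (↑g⁻¹ : R) * ((g : R) * rest T y l * (↑g⁻¹ : R)) by simp [mul_assoc], hx,
    rest, conj_pv hgE, e] at h1
  exact h1

/-- all long root elements with the rank two operator in the factor of a given one -/
theorem pairs_at [Nontrivial R] (G : Grp T H) (ht : 2 ≤ Fintype.card ι) {l : ι} {a v : A} (ha : a ≠ 0)
    (hind : ∀ c : F, v ≠ c • a) {y' : ι → A} (hy'0 : ∀ m, m ≠ l → y' m ≠ 0)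
    (hmem₀ : InL F H (T.xop l a v * rest T y' l)) (y : ι → A) (u z : A)
    (huz : T.f u z = 0 ∨ Module.finrank F A = 2) : InL F H (T.xop l u z * rest T y l) := by
  have hmem' := pair_move G (y' := y) hy'0 hmem₀
  haveI := finite_dim T
  have hz0 : InL F H (0 : R) := fun c => by simpa using (InH.one : InH H (1 : R))
  rcases eq_or_ne u 0 with rfl | hu
  · simpa [Sys.xop] using hz0
  obtain ⟨m, hm⟩ := Fintype.exists_ne_of_one_lt_card (by omega) l
  -- the partners of a vector
  let V : A → Submodule F A := fun u =>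
    { carrier := {z | InL F H (T.xop l u z * rest T y l)}
      add_mem' := fun {z z'} hz hz' => by
        simp only [Set.mem_ofPred_eq] at hz hz' ⊢
        rw [show T.xop l u (z + z') = T.xop l u z + T.xop l u z' by simp [Sys.xop]; abel, add_mul]
        refine hz.add ?_ hz'
        rw [mul_assoc (T.xop l u z), ← mul_assoc (rest T y l),
          ← T.commute_phi (T.xop_mem_phi l u z') (cen_rest_self y l), mul_assoc, rest_sq y hm, mul_zero, mul_zero]
      zero_mem' := by simpa [Sys.xop] using hz0
      smul_mem' := fun c z hz => by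
        simp only [Set.mem_ofPred_eq] at hz ⊢
        rw [show T.xop l u (c • z) = c • T.xop l u z by simp [Sys.xop, smul_sub], smul_mul_assoc]
        exact hz.smul c }
  have step : ∀ x x' : A, T.f x x' ≠ 0 → (∃ z, (∀ c : F, z ≠ c • x) ∧ z ∈ V x) →
      ∃ z, (∀ c : F, z ≠ c • x') ∧ z ∈ V x' := by
    rintro x x' hne ⟨z, hz, hzm⟩
    obtain ⟨q, hq⟩ : ∃ q, q = (T.f x x')⁻¹ := ⟨_, rfl⟩
    have := pair_conj G hzm (x' - x) q
    have e : x + (q * T.f x (x' - x)) • (x' - x) = x' := by
      rw [map_sub, T.alt, sub_zero, hq, inv_mul_cancel₀ hne, one_smul, add_sub_cancel]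
    rw [e] at this
    refine ⟨_, fun c hc => hz c ?_, this⟩
    obtain ⟨D, hD⟩ : ∃ D, D = x' - x := ⟨_, rfl⟩
    rw [← hD] at hc e
    have h1 := congrArg (fun p => T.f p D) hc
    simp only [map_add, map_smul, LinearMap.add_apply, LinearMap.smul_apply, smul_eq_mul, T.alt, mul_zero,
      add_zero] at h1
    have hxD : T.f x' D = T.f x D := by
      conv_lhs => rw [← e]
      simp [T.alt]
    rw [hxD] at h1
    rw [h1, ← e] at hc
    rw [smul_add, smul_smul, show c * (q * T.f x D) = q * (c * T.f x D) by ring, add_left_inj] at hc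
    exact hc
  obtain ⟨w, hw1, hw2⟩ := exists_meet (T := T) ha hu
  obtain ⟨v', hv', hv'm⟩ := step w u (by rw [T.swap u w]; exact neg_ne_zero.2 hw2)
    (step a w hw1 ⟨v, hind, hmem'⟩)
  -- everything orthogonal
  have hperp : ∀ x, T.f u x = 0 → x ∈ V u := by
    have h1 : ∀ x, T.f u x = 0 → T.f v' x ≠ 0 → x ∈ V u := by
      intro x hx hne
      have := pair_conj G hv'm x 1
      rw [hx, mul_zero, zero_smul, add_zero, one_mul] at this
      have h2 := (V u).smul_mem (T.f v' x)⁻¹ ((V u).sub_mem (show v' + T.f v' x • x ∈ V u from this) hv'm)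
      rwa [add_sub_cancel_left, inv_smul_smul₀ hne] at h2
    obtain ⟨x₀, hx₀, hx₀'⟩ := exists_dual T hu hv' 0 1
    intro x hx
    by_cases hne : T.f v' x = 0
    · have h2 := (V u).sub_mem (h1 (x + x₀) (by rw [map_add, hx, hx₀, add_zero])
        (by rw [map_add, hne, zero_add, hx₀']; exact one_ne_zero)) (h1 x₀ hx₀ (by rw [hx₀']; exact one_ne_zero))
      rwa [add_sub_cancel_right] at h2
    · exact h1 x hx hne
  rcases huz with h | h
  · exact hperp z h
  · have hli : LinearIndependent F ![u, v'] :=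
      (LinearIndependent.pair_iff' hu).2 fun c e => hv' c e.symm
    have htop := hli.span_eq_top_of_card_eq_finrank' (by simpa using h.symm)
    refine (Submodule.span_le.2 ?_ : Submodule.span F (Set.range ![u, v']) ≤ V u) (htop ▸ Submodule.mem_top)
    rintro _ ⟨r, rfl⟩
    fin_cases r
    · exact hperp u (T.alt u)
    · exact hv'm

/-- a long root element as an operator of pairs -/
theorem Long.exists_at (hL : Long T H) : ∃ (l₀ : ι) (a v : A) (Y : ι → A), a ≠ 0 ∧ (∀ c : F, v ≠ c • a) ∧
    (∀ m, m ≠ l₀ → Y m ≠ 0) ∧ InL F H (T.xop l₀ a v * rest T Y l₀) := by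
  obtain ⟨s, l₀, a, v, hok, hl₀, hnn, ha, hind, hmem⟩ := hL
  choose y₀ b₀ hy₀ using hnn
  obtain ⟨Y, hY⟩ : ∃ Y : ι → A, Y = fun m => if h : m = l₀ then a else y₀ m h := ⟨_, rfl⟩
  have hY0 : ∀ m, m ≠ l₀ → Y m ≠ 0 := fun m hm h0 => by
    have h := hok m
    rw [hy₀ m hm] at h
    simp [hY, hm] at h0
    simp [Sl.Ok, h0] at h
  have hr : T.tens (pv T s) = rest T Y l₀ := by
    rw [rest]
    congr 1
    funext m
    rcases eq_or_ne m l₀ with rfl | hm
    · simp [pv, restSl_self, hl₀]
    · simp [pv, restSl, hy₀ m hm, hY, hm, Sys.op]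
  rw [hr] at hmem
  exact ⟨l₀, a, v, Y, ha, hind, hY0, hmem⟩

/-- some factor has all long root elements -/
theorem pairs_some [Nontrivial R] (G : Grp T H) (ht : 2 ≤ Fintype.card ι) (hL : Long T H) :
    ∃ l : ι, ∀ (y : ι → A) (u z : A), T.f u z = 0 ∨ Module.finrank F A = 2 →
      InL F H (T.xop l u z * rest T y l) := by
  obtain ⟨l₀, a, v, Y, ha, hind, hY0, hmem⟩ := hL.exists_at
  exact ⟨l₀, pairs_at G ht ha hind hY0 hmem⟩

/-- **all long root elements** -/
theorem pairs [Nontrivial R] (G : Grp T H) (P : Perms T H) (ht : 2 ≤ Fintype.card ι) (hL : Long T H) (y : ι → A)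
    (l : ι) (u z : A) (huz : T.f u z = 0 ∨ Module.finrank F A = 2) :
    InL F H (T.xop l u z * rest T y l) := by
  obtain ⟨l₀, a, v, Y, ha, hind, hY0, hmem⟩ := hL.exists_at
  obtain ⟨y', hy', hmem'⟩ := pair_swap P hmem l
  refine pairs_at G ht ha hind (fun m hm => ?_) hmem' y u z huz
  obtain ⟨k, hk, e⟩ := hy' m hm
  rw [e]
  exact hY0 k hk

end CfsgLib.MaxSub.SpPowO
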