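import Cfsg.Agent.Lib.MaxSub.SpPowO.Act
import Cfsg.Agent.Lib.MaxSub.SpPow.Perm

/-!
Tensor powers of a symplectic space in a quadratic space: some long root element does not permute the factors.
-/

set_option autoImplicit false
set_option linter.unusedSectionVars false

namespace CfsgLib.MaxSub.SpPowO

open CfsgLib.MaxSub.SpPow CfsgLib.Geom CfsgLib.Classical
open QuadraticMap (polar)
open Function (update)

variable {F V A R ι κ : Type*} [Field F] [AddCommGroup V] [Module F V] [AddCommGroup A] [Module F A] [Ring R]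
  [Algebra F R] [Fintype κ] [Fintype ι] [DecidableEq ι]
variable {T : Sys F A R ι κ}

/-- a root element of a factor times a square-zero operator of the others does not permute the factors -/
theorem not_permutes_mul [Nontrivial R] {i : ι} {e f₀ : A} (hef : T.f e f₀ = 1) {w : R} (hwc : T.Cen i w)
    (hw2 : w * w = 0) (hw0 : w ≠ 0) {x : R} (hx : x = T.E i e e * w) {g : Rˣ}
    (hg : (g : R) = 1 + x) : ¬ Permutes T g := by
  rintro ⟨σ, hσ⟩
  have hzz : x * x = 0 := by
    rw [hx, mul_assoc, ← mul_assoc w, hwc, mul_assoc, ← mul_assoc, T.n_mul_self, zero_mul]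
  have h1 := hσ i f₀ f₀
  rw [inv_one_add hzz hg, hg] at h1
  have e1 : (1 + x) * T.E i f₀ f₀ * (1 - x) =
      T.E i f₀ f₀ + (T.qI i e f₀ - T.pI i e f₀) * w := by
    rw [hx]
    have a1 : T.E i e e * w * T.E i f₀ f₀ = -T.pI i e f₀ * w := by
      rw [mul_assoc, hwc, ← mul_assoc, Sys.n_mul_m hef]
    have a2 : T.E i f₀ f₀ * (T.E i e e * w) = -T.qI i e f₀ * w := by
      rw [← mul_assoc, Sys.m_mul_n hef]
    have a3 : -T.pI i e f₀ * w * (T.E i e e * w) = 0 := by
      rw [mul_assoc, ← mul_assoc w, hwc, mul_assoc (T.E i e e), hw2, mul_zero, mul_zero]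
    simp only [add_mul, mul_sub, one_mul, mul_one, a1, a2, a3]
    simp only [sub_mul, neg_mul]
    abel
  rw [e1] at h1
  have hMw : T.blk i e e (T.E i f₀ f₀ + (T.qI i e f₀ - T.pI i e f₀) * w) = -1 := by
    rw [T.blk_add, Sys.qI, Sys.pI, sub_mul, neg_mul, T.blk_sub,
      show -(T.E i f₀ e * w) = (-1 : F) • (T.E i f₀ e * w) by simp, T.blk_smul, T.blk_E_mul hwc, T.blk_E_mul hwc,
      ← mul_one (T.E i f₀ f₀), T.blk_E_mul (T.cen_one i)]
    simp [T.alt, T.swap e f₀, hef]
  by_cases hj : σ i = i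
  · rw [hj] at h1
    obtain ⟨c, hc⟩ := T.blk_phi h1 f₀ e
    rw [T.blk_add, Sys.qI, Sys.pI, sub_mul, neg_mul, T.blk_sub,
      show -(T.E i f₀ e * w) = (-1 : F) • (T.E i f₀ e * w) by simp, T.blk_smul, T.blk_E_mul hwc, T.blk_E_mul hwc,
      ← mul_one (T.E i f₀ f₀), T.blk_E_mul (T.cen_one i)] at hc
    simp [T.alt, T.swap e f₀, hef] at hc
    have h3 := congrArg (fun x => x * x) hc
    simp only [neg_mul_neg, hw2, smul_mul_smul, one_mul] at h3
    rcases smul_eq_zero.1 h3.symm with h4 | h4
    · rw [mul_self_eq_zero.1 h4, zero_smul, neg_eq_zero] at hc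
      exact hw0 hc
    · exact one_ne_zero h4
  · have hc := T.blk_cen (T.cen_of_phi (Ne.symm hj) h1) e e
    rw [hMw, T.alt, zero_smul] at hc
    exact one_ne_zero (neg_eq_zero.1 hc)

variable {Q : QuadraticForm F V} {C : PureSpace Q A ι} {ρ : R →ₐ[F] Module.End F V}

/-- **a Siegel transformation outside the stabiliser** -/
theorem Acts.exists_moved [Finite F] [FiniteDimensional F A] [FiniteDimensional F V] [Nontrivial R]
    (h : Acts T C ρ) (hsep : ∀ x, (∀ y, polar Q x y = 0) → x = 0) (h5 : 5 ≤ Module.finrank F V)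
    (hA : 0 < Module.finrank F A) (ht : 2 ≤ Fintype.card ι)
    (h4 : Module.finrank F A = 2 → 4 ≤ Fintype.card ι) :
    ∃ k ∈ commutator (quadIsoms Q), ∀ g : Rˣ, ρ (g : R) = k.1.toLinearMap → Function.Injective ρ →
      ¬ Permutes T g := by
  classical
  haveI := Module.finrank_pos_iff.1 hA
  obtain ⟨a, ha⟩ := exists_ne (0 : A)
  obtain ⟨v, hv, hv'⟩ := C.exists_off ha
  obtain ⟨l, i, hil⟩ := Fintype.exists_pair_of_one_lt_card (α := ι) (by omega)
  obtain ⟨y, hy⟩ : ∃ y : ι → A, y = fun _ => a := ⟨_, rfl⟩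
  have hrs : polar Q (C.vec (update y l a)) (C.vec (update y l v)) = 0 :=
    C.polar_zero i (by rw [Function.update_of_ne hil.symm, Function.update_of_ne hil.symm, C.alt])
  refine ⟨siegel Q (C.vec (update y l a)) (C.vec (update y l v)), OrthSub.siegel_mem_commutator hsep h5 _ _,
    fun g hg hinj => ?_⟩
  obtain ⟨X, hX⟩ : ∃ X, X = T.xop l a v * rest T y l := ⟨_, rfl⟩
  have hρ : ∀ x, ρ X x = C.c⁻¹ • (polar Q x (C.vec (update y l v)) • C.vec (update y l a) -
      polar Q x (C.vec (update y l a)) • C.vec (update y l v)) := hX ▸ h.long_vec y l a v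
  have hgv : (g : R) = 1 + (-C.c) • X := hinj (LinearMap.ext fun x => by
    rw [hg, map_add, map_one, map_smul, LinearMap.add_apply, LinearMap.smul_apply, Module.End.one_apply, hρ,
      LinearEquiv.coe_coe, siegel_apply Q (C.q_vec _) hrs, C.q_vec, QuadraticMap.polar_comm _ x,
      QuadraticMap.polar_comm _ x, smul_smul, neg_mul, mul_inv_cancel₀ C.hc]
    module)
  -- the operator is not zero
  obtain ⟨a', ha'⟩ := C.exists_one ha
  obtain ⟨b, hb, hb'⟩ := C.exists_sep (v := v) (w := a) hv
  have hX0 : X ≠ 0 := by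
    intro h0
    obtain ⟨x₀, hx₀⟩ : ∃ x₀, x₀ = C.vec (update (fun _ => a') l b) := ⟨_, rfl⟩
    have e1 : polar Q x₀ (C.vec (update y l a)) = 0 :=
      hx₀ ▸ C.polar_zero l (by rw [Function.update_self, Function.update_self, hb])
    have e2 : polar Q x₀ (C.vec (update y l v)) ≠ 0 := by
      rw [hx₀, C.polar_vec]
      refine mul_ne_zero C.hc (Finset.prod_ne_zero_iff.2 fun m _ => ?_)
      rcases eq_or_ne m l with rfl | hm
      · rwa [Function.update_self, Function.update_self]
      · rw [Function.update_of_ne hm, Function.update_of_ne hm, hy, C.swap a a', ha']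
        exact neg_ne_zero.2 one_ne_zero
    have h1 := hρ x₀
    rw [h0, map_zero, LinearMap.zero_apply, e1, zero_smul, sub_zero, smul_smul, eq_comm, smul_eq_zero] at h1
    have e3 : C.vec (update y l a) ≠ 0 := fun h2 => by
      have := C.polar_vec (fun _ => a') (update y l a)
      rw [h2, QuadraticMap.polar_zero_right, eq_comm, mul_eq_zero] at this
      refine this.elim C.hc (Finset.prod_ne_zero_iff.2 fun m _ => ?_)
      rw [hy, show update (fun _ : ι => a) l a m = a from by
        rcases eq_or_ne m l with rfl | hm <;> simp [*], C.swap a a', ha']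
      exact neg_ne_zero.2 one_ne_zero
    exact h1.elim (mul_ne_zero (inv_ne_zero C.hc) e2) e3
  obtain ⟨w, hw⟩ : ∃ w, w = (-C.c) • (T.xop l a v * T.tens (update (pv T (restSl y l)) i 1)) := ⟨_, rfl⟩
  have hcl : T.Cen i (T.xop l a v) := T.cen_of_phi hil.symm (T.xop_mem_phi l a v)
  have hxw : (-C.c) • X = T.E i a a * w := by
    rw [hX, hw, rest, Sys.tens_split _ i, mul_smul_comm, ← mul_assoc, ← mul_assoc]
    congr 2
    rw [show (pv T (restSl y l) i : R) = T.E i a a by simp [pv, restSl, hil.symm, hy, Sys.op], hcl a a]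
  have hcw : T.Cen i w := hw ▸ (hcl.mul (Sys.cen_rest _ _)).smul _
  have hw2 : w * w = 0 := by
    rw [hw, smul_mul_smul]
    obtain ⟨W, hW⟩ : ∃ W, W = T.tens (update (pv T (restSl y l)) i 1) := ⟨_, rfl⟩
    rw [← hW]
    have hWc : W * T.xop l a v = T.xop l a v * W :=
      (T.commute_phi (T.xop_mem_phi l a v) (hW ▸ Sys.cen_tens (by
        rw [Function.update_of_ne hil]; exact pv_one (restSl_self y l)))).symm
    suffices h0 : T.xop l a v * T.xop l a v = 0 ∨ W * W = 0 by
      rw [mul_assoc, ← mul_assoc W, hWc, mul_assoc, ← mul_assoc]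
      rcases h0 with e | e <;> rw [e] <;> simp
    by_cases h3 : 2 < Fintype.card ι
    · right
      obtain ⟨m, -, hm⟩ := Finset.exists_mem_notMem_of_card_lt_card (s := ({l, i} : Finset ι)) (t := Finset.univ)
        (by rw [Finset.card_pair hil, Finset.card_univ]; omega)
      simp only [Finset.mem_insert, Finset.mem_singleton, not_or] at hm
      rw [hW, ← map_mul]
      refine zero_of_slot _ m ?_
      rw [Pi.mul_apply, Function.update_of_ne hm.2]
      refine Subtype.ext ?_
      simp [pv, restSl, hm.1, Sys.op, T.n_mul_self]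
    · left
      have hav : T.f a v = 0 := by
        rw [← h.feq]
        exact hv'.resolve_right fun e => by have := h4 e; omega
      simp only [Sys.xop, mul_sub, sub_mul, T.mul, hav, T.perp_left hav, T.alt, zero_smul, sub_zero]
  have hw0 : w ≠ 0 := fun e => hX0 (by
    rw [e, mul_zero, smul_eq_zero] at hxw
    exact hxw.resolve_left (neg_ne_zero.2 C.hc))
  have hef : T.f a a' = 1 := h.feq ▸ ha'
  exact not_permutes_mul hef hcw hw2 hw0 hxw hgv

end CfsgLib.MaxSub.SpPowO
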