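import Cfsg.Agent.Lib.MaxSub.SpPowO.Clifford

/-!
Tensor powers of a symplectic space, characteristic two: if the centres of the root parabolics meet the group in the
root groups of the factors only, then so do their unipotent radicals.
-/

set_option autoImplicit false
set_option linter.unusedSectionVars false

namespace CfsgLib.MaxSub.SpPowO

open CfsgLib.MaxSub.SpPow

variable {F A R ι κ : Type*} [Field F] [AddCommGroup A] [Module F A] [Ring R] [Algebra F R] [Fintype κ]
  [Fintype ι] [DecidableEq ι]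
variable {T : Sys F A R ι κ} {H : Subgroup Rˣ} {i : ι} {e f₀ : A}

/-- the blocks of the radical are scalar -/
theorem kap_scalar_two [Nontrivial R] (G : Grp T H) (Z : Ctr T H) (h2 : (2 : F) = 0)
    (h6 : 4 < Module.finrank F A) (hef : T.f e f₀ = 1) {z : R} (hz : T.Upper i e f₀ z) (hH : InH H (1 + z))
    {w : A} (hwe : T.f w e = 0) (hwf : T.f w f₀ = 0) : ∃ c : F, T.kap i f₀ w z = c • 1 := by
  classical
  have he : e ≠ 0 := by rintro rfl; simp at hef
  let S : Submodule F R :=
    { carrier := {K | ∃ x, T.Upper i e f₀ x ∧ InH H (1 + x) ∧ T.kap i f₀ w x = K}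
      zero_mem' := ⟨0, Sys.Upper.zero, by rw [add_zero]; exact InH.one, T.blk_zero _ _ _⟩
      add_mem' := by
        rintro K K' ⟨x, hx, hxH, rfl⟩ ⟨x', hx', hxH', rfl⟩
        refine ⟨x + x' + x * x', (hx.add hx').add (hx.mul hx'), ?_, ?_⟩
        · convert hxH.mul hxH' using 1
          simp only [add_mul, mul_add, one_mul, mul_one]; abel
        · rw [Sys.kap, T.blk_add, T.blk_add, ← Sys.kap.eq_1, ← Sys.kap.eq_1, ← Sys.kap.eq_1,
            Sys.kap_mul_upper hx hx' hef hwe hwf, add_zero]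
      smul_mem' := by
        rintro a K ⟨x, hx, hxH, rfl⟩
        rcases eq_or_ne a 0 with rfl | ha
        · exact ⟨0, Sys.Upper.zero, by rw [add_zero]; exact InH.one, by rw [zero_smul]; exact T.blk_zero _ _ _⟩
        set τ := T.tau i e f₀ a with hτ
        set τ' := T.tau i e f₀ a⁻¹ with hτ'
        have hrp := T.rI_mul_pI hef i
        have hrq := T.rI_mul_qI hef i
        have hpr := T.pI_mul_rI hef i
        have hqr := T.qI_mul_rI hef i
        have hpp := T.pI_mul_self hef i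
        have hqq := T.qI_mul_self hef i
        have hrr := T.rI_mul_self hef i
        have hpq := T.pI_mul_qI (e := e) (f₀ := f₀) i
        have hqp := T.qI_mul_pI (e := e) (f₀ := f₀) i
        have hττ : τ * τ' = 1 := by
          simp only [hτ, hτ', Sys.tau, inv_inv, add_mul, mul_add, smul_mul_assoc, mul_smul_comm, smul_smul, hrp,
            hrq, hpr, hqr, hpp, hqq, hrr, hpq, hqp, smul_zero, add_zero, zero_add, mul_inv_cancel₀ ha,
            inv_mul_cancel₀ ha, one_smul]
          rw [← T.sum_pqr (e := e) (f₀ := f₀) i]; abel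
        have tp : τ' * T.pI i e f₀ = a⁻¹ • T.pI i e f₀ := by
          simp [hτ', Sys.tau, add_mul, hrp, hpp, hqp]
        have tq : τ' * T.qI i e f₀ = a • T.qI i e f₀ := by
          simp [hτ', Sys.tau, add_mul, hrq, hqq, hpq]
        have tr : τ' * T.rI i e f₀ = T.rI i e f₀ := by
          simp [hτ', Sys.tau, add_mul, hrr, hpr, hqr]
        have qt : T.qI i e f₀ * τ = a⁻¹ • T.qI i e f₀ := by
          simp [hτ, Sys.tau, mul_add, hqr, hqp, hqq]
        have rt : T.rI i e f₀ * τ = T.rI i e f₀ := by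
          simp [hτ, Sys.tau, mul_add, hrr, hrp, hrq]
        refine ⟨τ * x * τ', ⟨?_, ?_, ?_⟩, ?_, ?_⟩
        · rw [mul_assoc, tp, mul_smul_comm, mul_assoc, hx.right, mul_zero, smul_zero]
        · rw [← mul_assoc, ← mul_assoc, qt, smul_mul_assoc, hx.left, smul_zero, zero_mul]
        · rw [← mul_assoc, ← mul_assoc, rt, mul_assoc, tr, hx.mid]
        · convert ((G.tau_mem hef ha).mul hxH).mul (G.tau_mem hef (inv_ne_zero ha)) using 1
          rw [← hτ, ← hτ', mul_add, mul_one, add_mul, hττ]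
        · refine sub_eq_zero.1 (T.E_mul_cancel (p := e) (q := e) he he
            ((T.cen_blk _ _ _ _).sub ((T.cen_blk i w f₀ x).smul a)) ?_)
          rw [mul_sub, sub_eq_zero, mul_smul_comm, ← neg_inj, ← smul_neg, ← Sys.E_z_qI, ← Sys.E_z_qI]
          have hr : T.E i e w = T.E i e w * T.rI i e f₀ := by rw [T.E_rI, T.proj_of_perp hwe hwf]
          conv_lhs => rw [hr]
          rw [mul_assoc _ _ (T.qI i e f₀), mul_assoc (τ * x), tq]
          conv_lhs => rw [mul_assoc (T.E i e w), mul_smul_comm, mul_smul_comm, mul_smul_comm, ← mul_assoc (T.rI i e f₀),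
            ← mul_assoc (T.rI i e f₀), rt, ← mul_assoc (T.E i e w), ← mul_assoc (T.E i e w), ← hr] }
  refine clifford_two G h2 h6 (i := i) S ?_ ?_ ?_ _ ⟨z, hz, hH, rfl⟩
  · rintro K ⟨x, -, -, rfl⟩
    exact T.cen_blk _ _ _ _
  · rintro K ⟨x, hx, hxH, rfl⟩ K' ⟨x', hx', hxH', rfl⟩
    set N := T.E i w w with hN
    obtain ⟨g, hg, hgN⟩ := G.root i w 1
    rw [one_smul] at hgN
    have hN2 : N * N = 0 := T.n_mul_self i w
    have hgi : (↑g⁻¹ : R) = 1 - N := inv_one_add hN2 hgN
    set x'' := (1 + N) * x' * (1 - N) with hx''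
    have pN : T.pI i e f₀ * N = 0 := by rw [hN, T.pI_E, hwf, zero_smul]
    have Np : N * T.pI i e f₀ = 0 := by rw [hN, T.E_pI, T.perp_left hwe, zero_smul]
    have qN : T.qI i e f₀ * N = 0 := by rw [hN, T.qI_E, hwe, zero_smul, neg_zero]
    have Nq : N * T.qI i e f₀ = 0 := by rw [hN, T.E_qI, T.perp_left hwf, zero_smul, neg_zero]
    have Nr : N * T.rI i e f₀ = N := by rw [Sys.rI, mul_sub, mul_sub, mul_one, Np, Nq]; simp
    have rN : T.rI i e f₀ * N = N := by rw [Sys.rI, sub_mul, sub_mul, one_mul, pN, qN]; simp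
    have hx''u : T.Upper i e f₀ x'' := by
      refine ⟨?_, ?_, ?_⟩
      · rw [hx'', mul_assoc, sub_mul, one_mul, Np, sub_zero, mul_assoc, hx'.right, mul_zero]
      · rw [hx'', ← mul_assoc, ← mul_assoc, mul_add, mul_one, qN, add_zero, hx'.left, zero_mul]
      · rw [hx'', ← mul_assoc, ← mul_assoc, mul_add, mul_one, rN, mul_assoc _ (1 - N), sub_mul, one_mul, Nr]
        have e1 : T.rI i e f₀ + N = (1 + N) * T.rI i e f₀ := by rw [add_mul, one_mul, Nr]
        have e2 : T.rI i e f₀ - N = T.rI i e f₀ * (1 - N) := by rw [mul_sub, mul_one, rN]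
        rw [e1, e2, ← mul_assoc, mul_assoc (1 + N) (T.rI i e f₀) x', mul_assoc (1 + N) _ (T.rI i e f₀), hx'.mid]
        simp
    have hxH'' : InH H (1 + x'') := by
      convert hxH'.conj hg using 1
      rw [hgN, hgi, hx'', ← hN]
      simp only [add_mul, mul_add, mul_sub, one_mul, mul_one, hN2]; abel
    obtain ⟨c1, h1⟩ := G.pair_scalar Z hef hx hx''u hxH hxH''
    obtain ⟨c2, h2'⟩ := G.pair_scalar Z hef hx hx' hxH hxH'
    -- the difference is the anticommutator
    have pz : ∀ y, T.Upper i e f₀ y → T.pI i e f₀ * y * N = T.blk i f₀ w y * T.E i e w := fun y _ =>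
      (T.blk_E i e w f₀ w y).symm
    have Nz : ∀ y, T.E i e w * y * T.qI i e f₀ = -(T.E i e e * T.kap i f₀ w y) := fun y => Sys.E_z_qI w y
    have t1 : T.pI i e f₀ * (x * x'') * T.qI i e f₀ =
        T.pI i e f₀ * (x * x') * T.qI i e f₀ + T.pI i e f₀ * x * N * x' * T.qI i e f₀ := by
      rw [hx'']
      simp only [mul_add, add_mul, mul_sub, sub_mul, one_mul, mul_one, mul_assoc, Nq, mul_zero, sub_zero, add_zero]
    have t2 : T.pI i e f₀ * (x'' * x) * T.qI i e f₀ =
        T.pI i e f₀ * (x' * x) * T.qI i e f₀ - T.pI i e f₀ * x' * N * x * T.qI i e f₀ := by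
      rw [hx'']
      simp only [mul_add, add_mul, mul_sub, sub_mul, one_mul, mul_one, ← mul_assoc, pN, zero_mul, add_zero,
        sub_zero]
    have hval : ∀ y y', T.Upper i e f₀ y → InH H (1 + y) →
        T.pI i e f₀ * y * N * y' * T.qI i e f₀ =
          -(T.E i e e * (T.ad (T.kap i f₀ w y) * T.kap i f₀ w y')) := by
      intro y y' hy hyH
      have hc : T.ad (T.kap i f₀ w y) * T.E i e e = T.E i e e * T.ad (T.kap i f₀ w y) := by
        rw [← G.ad_upper hef hy hyH hwe hwf]; exact T.cen_blk i f₀ w y e e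
      rw [pz y hy, mul_assoc _ (T.E i e w) y', mul_assoc _ _ (T.qI i e f₀), Nz,
        G.ad_upper hef hy hyH hwe hwf, mul_neg, ← mul_assoc, hc, mul_assoc]
    have hcad : ∀ y, T.Upper i e f₀ y → InH H (1 + y) → T.Cen i (T.ad (T.kap i f₀ w y)) := fun y hy hyH => by
      rw [← G.ad_upper hef hy hyH hwe hwf]; exact T.cen_blk i f₀ w y
    refine ⟨c2 - c1, sub_eq_zero.1 (T.E_mul_cancel he he ((((hcad x hx hxH).mul (T.cen_blk _ _ _ _)).add
      ((hcad x' hx' hxH').mul (T.cen_blk _ _ _ _))).sub ((T.cen_one i).smul _)) ?_)⟩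
    rw [mul_sub, sub_eq_zero, mul_smul_comm, mul_one, sub_smul, ← h1, ← h2', mul_sub, mul_sub, sub_mul, sub_mul,
      t1, t2, hval x x' hx hxH, hval x' x hx' hxH', mul_add]
    abel
  · rintro g hg hgc K ⟨x, hx, hxH, rfl⟩
    have hgc' : T.Cen i (↑g⁻¹ : R) := fun u v =>
      (Commute.units_inv_left (hgc u v : Commute (g : R) (T.E i u v))).eq
    have hp : ∀ y, T.Cen i y → y * T.pI i e f₀ = T.pI i e f₀ * y := fun y hy => hy _ _
    have hq : ∀ y, T.Cen i y → y * T.qI i e f₀ = T.qI i e f₀ * y := fun y hy => by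
      rw [Sys.qI, mul_neg, neg_mul, hy]
    have hrc : ∀ y, T.Cen i y → y * T.rI i e f₀ = T.rI i e f₀ * y := fun y hy => by
      rw [Sys.rI, mul_sub, mul_sub, sub_mul, sub_mul, hp y hy, hq y hy, mul_one, one_mul]
    refine ⟨(g : R) * x * (↑g⁻¹ : R), ⟨?_, ?_, ?_⟩, ?_, ?_⟩
    · rw [mul_assoc, hp _ hgc', ← mul_assoc, mul_assoc (g : R), hx.right, mul_zero, zero_mul]
    · rw [← mul_assoc, ← mul_assoc, ← hq _ hgc, mul_assoc (g : R), hx.left, mul_zero, zero_mul]
    · rw [← mul_assoc, ← mul_assoc, ← hrc _ hgc, mul_assoc _ (↑g⁻¹ : R), hrc _ hgc', ← mul_assoc,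
        mul_assoc (g : R), mul_assoc (g : R), hx.mid, mul_zero, zero_mul]
    · convert hxH.conj hg using 1
      rw [mul_add, add_mul, mul_one, Units.mul_inv]
    · simp only [Sys.kap, Sys.blk, Finset.mul_sum, Finset.sum_mul]
      refine Finset.sum_congr rfl fun l _ => ?_
      simp only [mul_assoc]
      rw [hgc' f₀ (T.b' l), ← mul_assoc (T.E i (T.b l) w), ← hgc (T.b l) w]
      simp only [mul_assoc]

/-- **the radical meets the group in the product of the root groups of the factor** -/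
theorem radical_two [Nontrivial R] (G : Grp T H) (Z : Ctr T H) (h2 : (2 : F) = 0)
    (h6 : 4 < Module.finrank F A) (hef : T.f e f₀ = 1) {z : R} (hz : T.Upper i e f₀ z) (hH : InH H (1 + z)) :
    ∃ v, ∃ c : F, T.f v e = 0 ∧ T.f v f₀ = 0 ∧ z = T.yv i e v + c • T.E i e e := by
  classical
  have he : e ≠ 0 := by rintro rfl; simp at hef
  choose c hc using fun w => kap_scalar_two G Z h2 h6 hef hz hH (T.proj_e hef w) (T.proj_f hef w)
  have kadd : ∀ w w' x, T.kap i f₀ (w + w') x = T.kap i f₀ w x + T.kap i f₀ w' x := fun w w' x => by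
    simp [Sys.kap, Sys.blk, mul_add, add_mul, Finset.sum_add_distrib]
  have ksmul : ∀ (a : F) w x, T.kap i f₀ (a • w) x = a • T.kap i f₀ w x := fun a w x => by
    simp [Sys.kap, Sys.blk, Finset.smul_sum]
  have inj : ∀ a b : F, a • (1 : R) = b • 1 → a = b := fun a b h => smul_left_injective F one_ne_zero h
  have cadd : ∀ w w', c (w + w') = c w + c w' := fun w w' => inj _ _ (by
    rw [← hc, map_add, kadd, add_smul, ← hc, ← hc])
  have csmul : ∀ (a : F) w, c (a • w) = a * c w := fun a w => inj _ _ (by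
    rw [← hc, map_smul, ksmul, mul_smul, ← hc])
  set cl : A →ₗ[F] F := { toFun := c, map_add' := cadd, map_smul' := fun a w => by simpa using csmul a w }
  set v₀ : A := ∑ l, c (T.b l) • T.b' l with hv₀
  have hv₀c : ∀ w, T.f v₀ w = -c w := by
    intro w
    have hw : c w = ∑ l, T.f w (T.b' l) * c (T.b l) := by
      conv_lhs => rw [← T.dual w]
      show cl _ = _
      rw [map_sum]
      refine Finset.sum_congr rfl fun l _ => ?_
      rw [map_smul, smul_eq_mul]; rfl
    rw [hv₀, T.swap, map_sum, hw]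
    congr 1
    refine Finset.sum_congr rfl fun l _ => ?_
    rw [map_smul, smul_eq_mul, mul_comm]
  set v := T.proj e f₀ v₀ with hv
  have hve : T.f v e = 0 := T.proj_e hef v₀
  have hvf : T.f v f₀ = 0 := T.proj_f hef v₀
  -- remove it
  set z' := z - T.yv i e v + T.E i e e * T.kap i f₀ v z with hz'def
  have hz' : T.Upper i e f₀ z' := by
    rw [hz'def, sub_eq_add_neg, ← neg_one_smul F (T.yv i e v)]
    exact (hz.add ((T.upper_yv hef hve hvf).smul _)).add (Sys.Upper.E_mul_cen hef (T.cen_blk _ _ _ _))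
  have hmul : (1 - T.yv i e v) * (1 + z) = 1 + z' := by
    have yz : T.yv i e v * z = -(T.E i e e * T.kap i f₀ v z) := by
      rw [← Sys.E_z_qI (f₀ := f₀), Sys.yv, add_mul]
      have h1 : T.E i v e * z = 0 := by
        rw [show T.E i v e = T.E i v e * T.qI i e f₀ by
          rw [T.E_qI, T.swap e f₀, hef, neg_smul, one_smul, neg_neg], mul_assoc, hz.left, mul_zero]
      have hr : T.E i e v = T.E i e v * T.rI i e f₀ := by rw [T.E_rI, T.proj_of_perp hve hvf]
      rw [h1, add_zero]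
      conv_lhs => rw [← mul_one (T.E i e v * z), ← T.sum_pqr (e := e) (f₀ := f₀) i, mul_add, mul_add,
        mul_assoc (T.E i e v) z (T.pI i e f₀), hz.right, mul_zero, zero_add, hr,
        mul_assoc (T.E i e v) (T.rI i e f₀) z, mul_assoc (T.E i e v) (T.rI i e f₀ * z) (T.rI i e f₀), hz.mid,
        mul_zero, add_zero, ← mul_assoc (T.E i e v) (T.rI i e f₀) z, ← hr]
    rw [sub_mul, one_mul, mul_add, mul_one, yz, hz'def]
    abel
  have hH' : InH H (1 + z') := by
    rw [← hmul]
    refine (InH.inv (T.yv_mul_self hve) ?_).mul hH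
    simpa using G.yv_mem i e v hve 1
  have hzero : ∀ w, T.f w e = 0 → T.f w f₀ = 0 → T.kap i f₀ w z' = 0 := by
    intro w hwe hwf
    have h1 : T.kap i f₀ w z' = T.kap i f₀ w z + T.f v w • 1 := by
      rw [hz'def, Sys.kap, T.blk_add, T.blk_sub, ← Sys.kap.eq_1, ← Sys.kap.eq_1, ← Sys.kap.eq_1,
        Sys.kap_yv hef v hwe,
        Sys.kap_cen_zero (y := T.kap i f₀ v z) (T.cen_blk i v f₀ z) hwe, add_zero, sub_neg_eq_add]
    have h2' := hc w
    rw [T.proj_of_perp hwe hwf] at h2'
    have h3 : T.f v w = -c w := by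
      rw [← hv₀c, hv, T.proj_apply]
      simp [T.perp_left hwe, T.perp_left hwf]
    rw [h1, h2', h3, neg_smul, add_neg_cancel]
  -- only the centre is left
  have hr : T.rI i e f₀ = ∑ l, T.E i (T.proj e f₀ (T.b l)) (T.proj e f₀ (T.b' l)) := by
    calc T.rI i e f₀ = T.rI i e f₀ * (∑ l, T.E i (T.b l) (T.b' l)) * T.rI i e f₀ := by
          rw [T.one, mul_one, T.rI_mul_self hef]
      _ = _ := by
          rw [Finset.mul_sum, Finset.sum_mul]
          exact Finset.sum_congr rfl fun l _ => by rw [T.rI_E, T.E_rI]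
  have e1 : T.rI i e f₀ * z' * T.qI i e f₀ = 0 := by
    rw [hr, Finset.sum_mul, Finset.sum_mul]
    refine Finset.sum_eq_zero fun l _ => ?_
    rw [Sys.qI, mul_neg, ← T.E_blk i _ e _ f₀ z', ← Sys.kap.eq_1, hzero _ (T.proj_e hef _) (T.proj_f hef _),
      mul_zero, neg_zero]
  have e2 : T.pI i e f₀ * z' * T.rI i e f₀ = 0 := by
    rw [hr, Finset.mul_sum]
    refine Finset.sum_eq_zero fun l _ => ?_
    show T.E i e f₀ * z' * _ = 0
    rw [← T.E_blk, G.ad_upper hef hz' hH' (T.proj_e hef _) (T.proj_f hef _),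
      hzero _ (T.proj_e hef _) (T.proj_f hef _), map_zero, mul_zero]
  set M := T.blk i f₀ f₀ z'
  have hzM : z' = T.E i e e * -M := by
    calc z' = (T.pI i e f₀ + T.qI i e f₀ + T.rI i e f₀) * z' * (T.pI i e f₀ + T.qI i e f₀ + T.rI i e f₀) := by
          rw [T.sum_pqr, one_mul, mul_one]
      _ = T.pI i e f₀ * z' * T.qI i e f₀ := by
          simp only [add_mul, mul_add, hz'.left, hz'.mid, e1, e2, zero_mul, mul_assoc _ z' (T.pI i e f₀),
            hz'.right, mul_zero, add_zero, zero_add]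
      _ = T.E i e e * -M := by rw [mul_neg, T.E_blk, Sys.qI, mul_neg]; rfl
  obtain ⟨c', hc'⟩ := Z i e he (-M) (by simpa using (T.cen_zero i).sub (T.cen_blk i f₀ f₀ z'))
    (by rwa [← hzM])
  refine ⟨v, c', hve, hvf, ?_⟩
  have h := congrArg (fun x => (1 + T.yv i e v) * x) hmul
  rw [← mul_assoc, show (1 + T.yv i e v) * (1 - T.yv i e v) = 1 by
    rw [add_mul, one_mul, mul_sub, mul_one, T.yv_mul_self hve]; abel, one_mul] at h
  rw [hzM, hc', add_mul, one_mul, mul_add, mul_one, mul_smul_comm, T.yv_mul_n hve, smul_zero, add_zero] at h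
  exact add_left_cancel (h.trans (by abel : (1 : R) + c' • T.E i e e + T.yv i e v = 1 + (T.yv i e v + c' • T.E i e e)))

end CfsgLib.MaxSub.SpPowO
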