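import Cfsg.Agent.Lib.MaxSub.SpPow.Grow

/-!
Tensor powers of a symplectic space: vectors with prescribed products with given ones, differences of conjugation
by root elements, self-adjoint operators of rank two.
-/

set_option autoImplicit false
set_option linter.unusedSectionVars false

namespace CfsgLib.MaxSub.SpPowO

open CfsgLib.MaxSub.SpPow

variable {F A R ι κ : Type*} [Field F] [AddCommGroup A] [Module F A] [Ring R] [Algebra F R] [Fintype κ]
variable (T : Sys F A R ι κ)

theorem finite_dim (T : Sys F A R ι κ) : FiniteDimensional F A := by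
  classical
  exact ⟨⟨Finset.univ.image T.b, eq_top_iff.2 fun y _ => by
    rw [← T.dual y]
    exact Submodule.sum_mem _ fun l _ => Submodule.smul_mem _ _ (Submodule.subset_span (by simp))⟩⟩

/-- a non-zero vector orthogonal to few vectors -/
theorem exists_perp {m : ℕ} (v : Fin m → A) (hm : m < Module.finrank F A) :
    ∃ q, q ≠ 0 ∧ ∀ r, T.f q (v r) = 0 := by
  haveI := finite_dim T
  have h : LinearMap.ker (LinearMap.pi fun r => T.f.flip (v r)) ≠ ⊥ :=
    LinearMap.ker_ne_bot_of_finrank_lt (by rwa [Module.finrank_fin_fun])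
  obtain ⟨w, hw, hw0⟩ := Submodule.exists_mem_ne_zero_of_ne_bot h
  exact ⟨w, hw0, fun r => congrFun (LinearMap.mem_ker.1 hw) r⟩

theorem indep_symm {a v : A} (ha : a ≠ 0) (h : ∀ c : F, v ≠ c • a) : ∀ c : F, a ≠ c • v := by
  intro c hc
  rcases eq_or_ne c 0 with rfl | hc0
  · exact ha (by rw [hc, zero_smul])
  · exact h c⁻¹ (by rw [hc, inv_smul_smul₀ hc0])

theorem left_ne {a v : A} (h : ∀ c : F, v ≠ c • a) : v ≠ 0 := fun h0 => h 0 (by rw [h0, zero_smul])

/-- prescribed products with two independent vectors -/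
theorem exists_dual {a v : A} (ha : a ≠ 0) (h : ∀ c : F, v ≠ c • a) (s r : F) :
    ∃ c, T.f a c = s ∧ T.f v c = r := by
  have key : ∀ a v : A, a ≠ 0 → (∀ c : F, v ≠ c • a) → ∃ c, T.f a c = 0 ∧ T.f v c = 1 := by
    intro a v ha h
    obtain ⟨b, hb⟩ := T.exists_partner ha
    have hne : v + (-T.f v b) • a ≠ 0 := fun h0 => h (T.f v b) (by
      rw [neg_smul, ← sub_eq_add_neg, sub_eq_zero] at h0; exact h0)
    obtain ⟨u, hu⟩ := T.exists_partner hne
    refine ⟨u + (-T.f a u) • b, by rw [map_add, map_smul, hb, smul_eq_mul, mul_one, add_neg_cancel], ?_⟩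
    rw [map_add, LinearMap.add_apply, map_smul, LinearMap.smul_apply, smul_eq_mul] at hu
    rw [map_add, map_smul, smul_eq_mul]
    linear_combination hu
  obtain ⟨c₁, h1, h1'⟩ := key a v ha h
  obtain ⟨c₂, h2, h2'⟩ := key v a (left_ne h) (indep_symm ha h)
  exact ⟨s • c₂ + r • c₁, by simp [h1, h2'], by simp [h1', h2]⟩

/-- the difference of the conjugation by `1 + N` -/
def delta (N x : R) : R := N * x - x * N - N * x * N

theorem delta_eq {N : R} (hN : N * N = 0) (x : R) : (1 + N) * x * (1 - N) - x = delta N x := by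
  simp only [delta, add_mul, mul_sub, one_mul, mul_one]
  abel

theorem delta_smul (N x : R) (c : F) : delta N (c • x) = c • delta N x := by
  simp only [delta, mul_smul_comm, smul_mul_assoc, smul_sub]

theorem delta_add (N x y : R) : delta N (x + y) = delta N x + delta N y := by
  simp only [delta, mul_add, add_mul]
  abel

variable {T} {H : Subgroup Rˣ} [Fintype ι] [DecidableEq ι]

theorem delta_mem (G : Grp T H) {i l : ι} (hl : l ≠ i) {e : A} (a : A) {w : R} (hw : w ∈ Zs T H i e) :
    delta (T.E l a a) w ∈ Zs T H i e := by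
  obtain ⟨g, hg, hgc⟩ := G.root l a 1
  rw [one_smul] at hgc
  have := Zs.conj hw hg (by rw [hgc]; exact (T.cen_one i).add (T.cen_E hl.symm a a))
  rw [inv_one_add (T.n_mul_self l a) hgc, hgc] at this
  rw [← delta_eq (T.n_mul_self l a)]
  exact sub_mem this hw

/-- two differences at orthogonal vectors -/
theorem delta_delta {l : ι} {a v : A} (hav : T.f a v = 0) {P w : R} (hP : T.Cen l P) :
    delta (T.E l v v) (delta (T.E l a a) (P * w)) =
      -(P * (T.E l v a * T.blk l v a w + T.E l a v * T.blk l a v w)) := by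
  have z1 : T.E l v v * T.E l a a = 0 := by rw [T.mul, hav, zero_smul]
  have z2 : T.E l a a * T.E l v v = 0 := by rw [T.mul, T.perp_left hav, zero_smul]
  have sand : ∀ p q : A, T.E l p p * (P * w) * T.E l q q = P * (T.E l p q * T.blk l p q w) := fun p q => by
    rw [T.E_blk, ← mul_assoc, ← hP, mul_assoc, mul_assoc]
    simp [mul_assoc]
  simp only [delta, mul_sub, sub_mul, ← mul_assoc, z1, zero_mul]
  simp only [mul_assoc, z2, mul_zero]
  simp only [← mul_assoc]
  rw [mul_assoc (T.E l v v) P w, mul_assoc (T.E l a a) P w, sand, sand, mul_add]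
  abel

end CfsgLib.MaxSub.SpPowO
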