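import Cfsg.Agent.Lib.MaxSub.SpPow.Commute
import Cfsg.Agent.Lib.MaxSub.SpPow.Perm
import Cfsg.Agent.Lib.MaxSub.SpPowO.RadicalTwo

/-!
Tensor powers of a symplectic space, characteristic two: a member carrying a root element of one factor to a root
element of another carries the whole factor into the other.
-/

set_option autoImplicit false
set_option linter.unusedSectionVars false

namespace CfsgLib.MaxSub.SpPowO

open CfsgLib.MaxSub.SpPow

variable {F A R ι κ : Type*} [Field F] [AddCommGroup A] [Module F A] [Ring R] [Algebra F R] [Fintype κ]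
variable {T : Sys F A R ι κ} {H : Subgroup Rˣ}

/-- the strictly triangular operators for the flag of a square-zero operator -/
structure UpN (n z : R) : Prop where
  right : z * n = 0
  left : n * z = 0
  mid : ∀ y, n * y = 0 → ∃ w, z * y = n * w

theorem UpN.smul_base {n z : R} (h : UpN n z) {c : F} (hc : c ≠ 0) : UpN (c • n) z := by
  refine ⟨by rw [mul_smul_comm, h.right, smul_zero], by rw [smul_mul_assoc, h.left, smul_zero], fun y hy => ?_⟩
  rw [smul_mul_assoc, smul_eq_zero, or_iff_right hc] at hy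
  obtain ⟨w, hw⟩ := h.mid y hy
  exact ⟨c⁻¹ • w, by rw [smul_mul_smul, mul_inv_cancel₀ hc, one_smul, hw]⟩

theorem UpN.conj {n z : R} (h : UpN n z) (g : Rˣ) :
    UpN ((g : R) * n * (↑g⁻¹ : R)) ((g : R) * z * (↑g⁻¹ : R)) := by
  refine ⟨?_, ?_, fun y hy => ?_⟩
  · rw [show (g : R) * z * (↑g⁻¹ : R) * ((g : R) * n * (↑g⁻¹ : R)) = (g : R) * (z * n) * (↑g⁻¹ : R) by
      simp [mul_assoc], h.right, mul_zero, zero_mul]
  · rw [show (g : R) * n * (↑g⁻¹ : R) * ((g : R) * z * (↑g⁻¹ : R)) = (g : R) * (n * z) * (↑g⁻¹ : R) by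
      simp [mul_assoc], h.left, mul_zero, zero_mul]
  · obtain ⟨w, hw⟩ := h.mid ((↑g⁻¹ : R) * y) (by
      have := congrArg (fun t => (↑g⁻¹ : R) * t) hy
      simpa [mul_assoc] using this)
    refine ⟨(g : R) * w, ?_⟩
    have := congrArg (fun t => (g : R) * t) hw
    simpa [mul_assoc] using this

section upper

variable {i : ι} {e f₀ : A}

theorem pI_eq (hef : T.f e f₀ = 1) : T.pI i e f₀ = -(T.E i e e * T.E i f₀ f₀) := by
  rw [Sys.n_mul_m hef, neg_neg]

theorem qI_eq (hef : T.f e f₀ = 1) : T.qI i e f₀ = -(T.E i f₀ f₀ * T.E i e e) := by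
  rw [Sys.m_mul_n hef, neg_neg]

theorem UpN.upper (hef : T.f e f₀ = 1) {z : R} (h : UpN (T.E i e e) z) : T.Upper i e f₀ z := by
  refine ⟨by rw [pI_eq hef, mul_neg, ← mul_assoc, h.right, zero_mul, neg_zero],
    by rw [qI_eq hef, neg_mul, mul_assoc, h.left, mul_zero, neg_zero], ?_⟩
  obtain ⟨w, hw⟩ := h.mid (T.rI i e f₀) (by rw [T.E_rI, T.proj_self_e hef, map_zero])
  rw [mul_assoc, hw, ← mul_assoc, T.rI_E, T.proj_self_e hef, map_zero, LinearMap.zero_apply, zero_mul]

theorem upN_of_upper (hef : T.f e f₀ = 1) {z : R} (h : T.Upper i e f₀ z) : UpN (T.E i e e) z := by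
  refine ⟨h.npI hef, h.qIn hef, fun y hy => ⟨-(T.E i f₀ f₀ * z * y), ?_⟩⟩
  have hq : T.qI i e f₀ * y = 0 := by rw [qI_eq hef, neg_mul, mul_assoc, hy, mul_zero, neg_zero]
  have hy' : y = T.pI i e f₀ * y + T.rI i e f₀ * y := by
    conv_lhs => rw [← one_mul y, ← T.sum_pqr (e := e) (f₀ := f₀) i, add_mul, add_mul, hq, add_zero]
  rw [mul_neg, ← mul_assoc, ← mul_assoc, Sys.n_mul_m hef, neg_mul, neg_mul, neg_neg]
  calc z * y = z * (T.rI i e f₀ * y) := by
        conv_lhs => rw [hy', mul_add, ← mul_assoc z (T.pI i e f₀), h.right, zero_mul, zero_add]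
    _ = (T.pI i e f₀ + T.qI i e f₀ + T.rI i e f₀) * z * (T.rI i e f₀ * y) := by rw [T.sum_pqr, one_mul]
    _ = T.pI i e f₀ * z * (T.rI i e f₀ * y) := by
        simp only [add_mul, h.left, zero_mul, add_zero, ← mul_assoc (T.rI i e f₀ * z), h.mid]
    _ = T.pI i e f₀ * z * y := by
        conv_rhs => rw [hy', mul_add, mul_assoc (T.pI i e f₀) z (T.pI i e f₀ * y), ← mul_assoc z (T.pI i e f₀),
          h.right, zero_mul, mul_zero, zero_add]

end upper

/-- roots are skew -/
theorem root_ad (G : Grp T H) {x : R} (hx : IsRoot T H x) : T.ad x = -x := by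
  obtain ⟨g, hg, y, ⟨i, e, -, c, -, rfl⟩, rfl⟩ := hx
  have hi := G.inv_eq hg
  rw [T.ad_mul, T.ad_mul, map_smul, T.ad_E, ← hi, show T.ad (↑g⁻¹ : R) = (g : R) by rw [hi, T.ad_ad]]
  simp only [smul_neg, mul_neg, neg_mul, mul_assoc]

/-- a root in one factor is a root element of it -/
theorem pure_of_phi_any [Finite R] [Nontrivial R] (G : Grp T H) {i : ι} {x : R}
    (hx : IsRoot T H x) (hphi : x ∈ T.phi i) : IsPure T x := by
  classical
  obtain ⟨ψ, hψ⟩ : ∃ ψ : R →ₗ[F] F, ψ 1 = 1 := by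
    obtain ⟨ψ, hψ⟩ : ∃ ψ : Module.Dual F R, ψ 1 ≠ 0 := by
      by_contra h
      simp only [not_exists, not_not] at h
      exact one_ne_zero ((Module.forall_dual_apply_eq_zero_iff F (1 : R)).1 h)
    exact ⟨(ψ 1)⁻¹ • ψ, by rw [LinearMap.smul_apply, smul_eq_mul, inv_mul_cancel₀ hψ]⟩
  have hblk : ∀ u v, T.blk i u v x = ψ (T.blk i u v x) • (1 : R) := fun u v => by
    obtain ⟨s, hs⟩ := T.blk_phi hphi u v
    rw [hs, map_smul, hψ, smul_eq_mul, mul_one]
  have hsym : ∀ u v, ψ (T.blk i u v x) = ψ (T.blk i v u x) := fun u v => by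
    have h := T.ad_blk i u v x
    rw [root_ad G hx, ← neg_one_smul F x, T.blk_smul, neg_one_smul, neg_neg, hblk u v,
      map_smul, T.ad_one] at h
    rw [← h, map_smul, hψ, smul_eq_mul, mul_one]
  obtain ⟨g, hg, y, ⟨j, e, he, a, ha, rfl⟩, hxg⟩ := id hx
  refine Sys.pure_of_minors ψ hψ hphi hx.ne_zero hsym fun p q p' q' => ?_
  by_contra hΔ
  obtain ⟨s, hs⟩ : ∃ s : A → A → F, s = fun u v => ψ (T.blk i u v x) := ⟨_, rfl⟩
  have hs' : ∀ u v, T.blk i u v x = s u v • (1 : R) := fun u v => by rw [hs]; exact hblk u v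
  replace hΔ : s p q * s p' q' - s p q' * s p' q ≠ 0 := by rw [hs]; exact sub_ne_zero.2 hΔ
  -- two dimensions over the centraliser
  let f2 : {y : R // T.Cen i y} × {y : R // T.Cen i y} → Set.range (fun y : R => x * y * x) := fun c =>
    ⟨_, T.E i q p * c.1.1 + T.E i q' p' * c.2.1, rfl⟩
  have hsand : ∀ (u v b c : A) (z : R), T.Cen i z →
      T.E i e u * (x * (T.E i b c * z) * x) * T.E i v e = (s u b * s c v) • (T.E i e e * z) := by
    intro u v b c z hz
    calc T.E i e u * (x * (T.E i b c * z) * x) * T.E i v e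
        = (T.E i e u * x * T.E i b c) * z * (x * T.E i v e) := by simp only [mul_assoc]
      _ = s u b • (z * (T.E i e c * x * T.E i v e)) := by
          rw [← T.E_blk, hs', mul_smul_comm, mul_one, smul_mul_assoc, smul_mul_assoc, ← hz]
          simp only [mul_assoc]
      _ = (s u b * s c v) • (T.E i e e * z) := by
          rw [← T.E_blk, hs', mul_smul_comm, mul_one, mul_smul_comm, hz, smul_smul]
  have hf2 : Function.Injective f2 := by
    rintro ⟨c, c'⟩ ⟨d, d'⟩ h
    have hc := c.2.sub d.2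
    have hc' := c'.2.sub d'.2
    have h0 : x * (T.E i q p * (c.1 - d.1)) * x + x * (T.E i q' p' * (c'.1 - d'.1)) * x = 0 := by
      have := congrArg Subtype.val h
      simp only [f2] at this
      simp only [mul_sub, sub_mul, mul_add, add_mul] at this ⊢
      rw [sub_add_sub_comm, this, sub_self]
    have eq : ∀ u v, (s u q * s p v) • (c.1 - d.1) + (s u q' * s p' v) • (c'.1 - d'.1) = 0 := by
      intro u v
      refine T.E_mul_cancel he he ((hc.smul _).add (hc'.smul _)) ?_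
      rw [mul_add, mul_smul_comm, mul_smul_comm, ← hsand u v q p _ hc, ← hsand u v q' p' _ hc', ← add_mul,
        ← mul_add, h0, mul_zero, zero_mul]
    have zero : ∀ (z : R) (r r' : F), r ≠ 0 ∨ r' ≠ 0 →
        ((s p q * s p' q' - s p q' * s p' q) * r) • z = 0 →
        ((s p q * s p' q' - s p q' * s p' q) * r') • z = 0 → z = 0 := by
      intro z r r' hr h1 h1'
      rcases hr with hr | hr
      · exact (smul_eq_zero.1 h1).resolve_left (mul_ne_zero hΔ hr)
      · exact (smul_eq_zero.1 h1').resolve_left (mul_ne_zero hΔ hr)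
    have k1 : ∀ v, ((s p q * s p' q' - s p q' * s p' q) * s p v) • (c.1 - d.1) = 0 := fun v => by
      linear_combination (norm := module) s p' q' • eq p v - s p q' • eq p' v
    have k2 : ∀ v, ((s p q * s p' q' - s p q' * s p' q) * s p' v) • (c'.1 - d'.1) = 0 := fun v => by
      linear_combination (norm := module) s p q • eq p' v - s p' q • eq p v
    have e1 := zero _ (s p q) (s p q') (by
      by_contra hc0
      simp only [not_or, not_not] at hc0
      exact hΔ (by rw [hc0.1, hc0.2]; ring)) (k1 q) (k1 q')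
    have e2 := zero _ (s p' q) (s p' q') (by
      by_contra hc0
      simp only [not_or, not_not] at hc0
      exact hΔ (by rw [hc0.1, hc0.2]; ring)) (k2 q) (k2 q')
    exact Prod.ext (Subtype.ext (sub_eq_zero.1 e1)) (Subtype.ext (sub_eq_zero.1 e2))
  -- one dimension
  let f1 : {y : R // T.Cen j y} → R := fun c => (g : R) * (T.E j e e * c.1) * (↑g⁻¹ : R)
  have hf1 : Set.range (fun y : R => x * y * x) ⊆ Set.range f1 := by
    rintro _ ⟨y, rfl⟩
    refine ⟨⟨(a * a) • T.blk j e e ((↑g⁻¹ : R) * y * (g : R)), (T.cen_blk _ _ _ _).smul _⟩, ?_⟩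
    show (g : R) * (T.E j e e * _) * (↑g⁻¹ : R) = x * y * x
    rw [mul_smul_comm, T.E_blk, hxg]
    simp only [mul_assoc, mul_smul_comm, smul_mul_assoc, smul_smul]
  have hle : Nat.card {y : R // T.Cen i y} * Nat.card {y : R // T.Cen i y} ≤ Nat.card {y : R // T.Cen i y} := by
    rw [← Nat.card_prod]
    refine (Nat.card_le_card_of_injective f2 hf2).trans ?_
    rw [T.card_cen_eq i j he]
    exact (Nat.card_mono (Set.toFinite _) hf1).trans (Finite.card_range_le f1)
  haveI : Nontrivial {y : R // T.Cen i y} := ⟨⟨0, T.cen_zero i⟩, ⟨1, T.cen_one i⟩, fun h =>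
    zero_ne_one (congrArg Subtype.val h)⟩
  have h1 := Finite.one_lt_card (α := {y : R // T.Cen i y})
  nlinarith

/-- conjugation by `g` carries the factor `i` into the factor `j` -/
def Carries (T : Sys F A R ι κ) (g : Rˣ) (i j : ι) : Prop :=
  ∀ y ∈ T.phi i, (g : R) * y * (↑g⁻¹ : R) ∈ T.phi j

variable [Fintype ι] [DecidableEq ι] [Nontrivial R] {i j : ι} {e f₀ e' f' : A} {g : Rˣ} {c : F}

theorem conj_back (hc : c ≠ 0) (hgn : (g : R) * T.E i e e * (↑g⁻¹ : R) = c • T.E j e' e') :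
    (↑g⁻¹ : R) * T.E j e' e' * (↑g⁻¹⁻¹ : R) = c⁻¹ • T.E i e e := by
  rw [eq_inv_smul_iff₀ hc, inv_inv, ← smul_mul_assoc, ← mul_smul_comm, ← hgn]
  simp [mul_assoc]

/-- the short root elements go to short root elements -/
theorem conj_yv_two (G : Grp T H) (Z : Ctr T H) (h2 : (2 : F) = 0) (h6 : 4 < Module.finrank F A)
    (hef : T.f e f₀ = 1) (hef' : T.f e' f' = 1) (hg : g ∈ H) (hc : c ≠ 0)
    (hgn : (g : R) * T.E i e e * (↑g⁻¹ : R) = c • T.E j e' e') {v : A} (hve : T.f v e = 0) (hvf : T.f v f₀ = 0) :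
    ∃ v', ∃ d : F, T.f v' e' = 0 ∧ T.f v' f' = 0 ∧
      (g : R) * T.yv i e v * (↑g⁻¹ : R) = T.yv j e' v' + d • T.E j e' e' := by
  have hu := (upN_of_upper hef (T.upper_yv (i := i) hef hve hvf)).conj g
  rw [hgn] at hu
  have hu' := hu.smul_base (inv_ne_zero hc)
  rw [inv_smul_smul₀ hc] at hu'
  refine radical_two G Z h2 h6 hef' (hu'.upper hef') ?_
  convert (G.yv_mem i e v hve 1).conj hg using 1
  rw [one_smul, mul_add, mul_one, add_mul, Units.mul_inv]

/-- root elements orthogonal to the pair are moved into the factor -/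
theorem conj_perp_two [Finite R] (G : Grp T H) (Z : Ctr T H) (h2 : (2 : F) = 0) (h6 : 4 < Module.finrank F A)
    (hef : T.f e f₀ = 1) (hef' : T.f e' f' = 1) (hg : g ∈ H) (hc : c ≠ 0)
    (hgn : (g : R) * T.E i e e * (↑g⁻¹ : R) = c • T.E j e' e') {w : A} (hwe : T.f w e = 0)
    (hwf : T.f w f₀ = 0) : (g : R) * T.E i w w * (↑g⁻¹ : R) ∈ T.phi j := by
  classical
  have he : e' ≠ 0 := by rintro rfl; simp at hef'
  have hn0 := T.E_ne_zero (R := R) j he he
  set S := (g : R) * T.E i w w * (↑g⁻¹ : R) with hS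
  obtain ⟨w', cw, hw'e, hw'f, hgw⟩ := conj_yv_two G Z h2 h6 hef hef' hg hc hgn hwe hwf
  have hgn' := conj_back hc hgn
  have h0 : T.E i w w * T.E i e e = 0 ∧ T.E i e e * T.E i w w = 0 := by
    rw [T.mul, T.mul, T.perp_left hwe, hwe, zero_smul, zero_smul]; exact ⟨rfl, rfl⟩
  have hSn : S * T.E j e' e' = 0 := smul_right_injective R hc (by
    show c • (S * T.E j e' e') = c • 0
    rw [← mul_smul_comm, ← hgn, smul_zero, show S * ((g : R) * T.E i e e * (↑g⁻¹ : R)) =
      (g : R) * (T.E i w w * T.E i e e) * (↑g⁻¹ : R) by simp [hS, mul_assoc], h0.1, mul_zero, zero_mul])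
  have hnS : T.E j e' e' * S = 0 := smul_right_injective R hc (by
    show c • (T.E j e' e' * S) = c • 0
    rw [← smul_mul_assoc, ← hgn, smul_zero, show ((g : R) * T.E i e e * (↑g⁻¹ : R)) * S =
      (g : R) * (T.E i e e * T.E i w w) * (↑g⁻¹ : R) by simp [hS, mul_assoc], h0.2, mul_zero, zero_mul])
  have hSr : S * T.pI j e' f' = 0 := by rw [pI_eq hef', mul_neg, ← mul_assoc, hSn, zero_mul, neg_zero]
  have hSl : T.qI j e' f' * S = 0 := by rw [qI_eq hef', neg_mul, mul_assoc, hnS, mul_zero, neg_zero]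
  -- one preimage for every short root element
  have hpre : ∀ v, T.f v e' = 0 → T.f v f' = 0 → ∃ u, ∃ d : F, T.f u e = 0 ∧ T.f u f₀ = 0 ∧
      (g : R) * T.yv i e u * (↑g⁻¹ : R) = T.yv j e' v + d • T.E j e' e' := by
    intro v hve hvf
    obtain ⟨u, d, hue, huf, hu⟩ := conj_yv_two G Z h2 h6 hef' hef (inv_mem hg) (inv_ne_zero hc) hgn' hve hvf
    refine ⟨u, -(d * c), hue, huf, ?_⟩
    rw [inv_inv] at hu
    have h := congrArg (fun t => (g : R) * t * (↑g⁻¹ : R)) hu
    simp only [mul_add, add_mul, mul_smul_comm, smul_mul_assoc, hgn] at h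
    rw [show (g : R) * ((↑g⁻¹ : R) * T.yv j e' v * (g : R)) * (↑g⁻¹ : R) = T.yv j e' v by simp [mul_assoc]] at h
    rw [h, smul_smul, add_assoc, ← add_smul, add_neg_cancel, zero_smul, add_zero]
  have hrel : ∀ v, T.f v e' = 0 → T.f v f' = 0 →
      S * T.yv j e' v - T.yv j e' v * S = (c⁻¹ * T.f v w') • (T.yv j e' w' + cw • T.E j e' e') := by
    intro v hve hvf
    obtain ⟨u, d, hue, huf, hu⟩ := hpre v hve hvf
    have hf : T.f v w' = T.f u w * c := by
      have h := congrArg (fun t => (g : R) * t * (↑g⁻¹ : R)) (T.yv_mul_yv (i := i) hwe hue)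
      simp only [mul_smul_comm, smul_mul_assoc, hgn] at h
      rw [show (g : R) * (T.yv i e w * T.yv i e u) * (↑g⁻¹ : R) =
          ((g : R) * T.yv i e w * (↑g⁻¹ : R)) * ((g : R) * T.yv i e u * (↑g⁻¹ : R)) by simp [mul_assoc], hgw, hu,
        Sys.yv_prod hw'e hve, smul_smul] at h
      exact smul_left_injective F hn0 h
    have h := congrArg (fun t => (g : R) * t * (↑g⁻¹ : R)) (T.E_comm_yv (i := i) (u := u) hwe)
    simp only [mul_smul_comm, smul_mul_assoc, hgw, mul_sub, sub_mul] at h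
    rw [show (g : R) * (T.E i w w * T.yv i e u) * (↑g⁻¹ : R) = S * ((g : R) * T.yv i e u * (↑g⁻¹ : R)) by
        simp [hS, mul_assoc], show (g : R) * (T.yv i e u * T.E i w w) * (↑g⁻¹ : R) =
        ((g : R) * T.yv i e u * (↑g⁻¹ : R)) * S by simp [hS, mul_assoc], hu, mul_add, add_mul, mul_smul_comm,
      smul_mul_assoc, hSn, hnS, smul_zero, add_zero, add_zero] at h
    rw [h, hf, mul_comm (T.f u w) c, ← mul_assoc, inv_mul_cancel₀ hc, one_mul]
  -- the middle
  set E' := c⁻¹ • T.E j w' w' with hE'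
  set S₀ := S - E' with hS0
  have hE'r : E' * T.pI j e' f' = 0 := by
    rw [hE', smul_mul_assoc, T.E_pI, T.perp_left hw'e, zero_smul, smul_zero]
  have hE'l : T.qI j e' f' * E' = 0 := by rw [hE', mul_smul_comm, T.qI_E, hw'e, zero_smul, neg_zero, smul_zero]
  have hrE' : T.rI j e' f' * E' = E' := by rw [hE', mul_smul_comm, T.rI_E, T.proj_of_perp hw'e hw'f]
  have hE'r' : E' * T.rI j e' f' = E' := by rw [hE', smul_mul_assoc, T.E_rI, T.proj_of_perp hw'e hw'f]
  have hE'E' : E' * E' = 0 := by rw [hE', smul_mul_smul, T.n_mul_self, smul_zero]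
  have hS0l : T.qI j e' f' * S₀ = 0 := by rw [hS0, mul_sub, hSl, hE'l, sub_zero]
  have hmid0 : T.rI j e' f' * S₀ * T.rI j e' f' = 0 := by
    have hE : ∀ v, T.f v e' = 0 → T.f v f' = 0 → T.rI j e' f' * S₀ * T.E j v e' = 0 := by
      intro v hve hvf
      have h : S₀ * T.yv j e' v - T.yv j e' v * S₀ = (c⁻¹ * T.f v w' * cw) • T.E j e' e' := by
        rw [hS0, sub_mul, mul_sub, sub_sub_sub_comm, hrel v hve hvf, hE', smul_mul_assoc, mul_smul_comm, ← smul_sub,
          T.E_comm_yv hw'e, smul_add, smul_smul, smul_smul]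
        abel
      have h' := congrArg (fun t => T.rI j e' f' * t * T.qI j e' f') h
      simp only [mul_smul_comm, smul_mul_assoc, T.rI_mul_n hef', zero_mul, smul_zero, mul_sub, sub_mul] at h'
      have hy1 : T.yv j e' v * T.qI j e' f' = T.E j v e' := by
        rw [Sys.yv, add_mul, T.E_qI, T.E_qI, T.swap e' f', hef', T.swap v f', hvf]
        simp
      have hy2 : T.rI j e' f' * T.yv j e' v = T.E j v e' := by
        rw [Sys.yv, mul_add, T.rI_E, T.rI_E, T.proj_self_e hef', map_zero, LinearMap.zero_apply, zero_add,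
          T.proj_of_perp hve hvf]
      have h3 : T.E j v e' * S₀ * T.qI j e' f' = 0 := by
        rw [show T.E j v e' = T.E j v e' * T.qI j e' f' by
          rw [T.E_qI, T.swap e' f', hef', neg_smul, one_smul, neg_neg], mul_assoc _ (T.qI j e' f') S₀, hS0l,
          mul_zero, zero_mul]
      rw [← mul_assoc _ S₀ (T.yv j e' v), mul_assoc _ (T.yv j e' v) (T.qI j e' f'), hy1,
        ← mul_assoc _ (T.yv j e' v) S₀, hy2, h3, sub_zero] at h'
      exact h'
    have hr : T.rI j e' f' =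
        ∑ l, T.E j (T.proj e' f' (T.b l)) e' * T.E j (-f') (T.proj e' f' (T.b' l)) := by
      calc T.rI j e' f' = T.rI j e' f' * (∑ l, T.E j (T.b l) (T.b' l)) * T.rI j e' f' := by
            rw [T.one, mul_one, T.rI_mul_self hef']
        _ = _ := by
            rw [Finset.mul_sum, Finset.sum_mul]
            refine Finset.sum_congr rfl fun l _ => ?_
            rw [T.rI_E, T.E_rI, T.mul]
            simp [T.swap e' f', hef']
    conv_lhs => arg 2; rw [hr]
    rw [Finset.mul_sum]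
    refine Finset.sum_eq_zero fun l _ => ?_
    rw [← mul_assoc, hE _ (T.proj_e hef' _) (T.proj_f hef' _), zero_mul]
  have hmid : T.rI j e' f' * S * T.rI j e' f' = E' := by
    have h := hmid0
    rw [hS0, mul_sub, sub_mul, hrE', hE'r', sub_eq_zero] at h
    exact h
  set z := S - E' - S * E' with hz
  have hzU : T.Upper j e' f' z := by
    refine ⟨?_, ?_, ?_⟩
    · rw [hz, sub_mul, sub_mul, hSr, hE'r, mul_assoc, hE'r]; simp
    · rw [hz, mul_sub, mul_sub, hSl, hE'l, ← mul_assoc, hSl]; simp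
    · rw [hz, mul_sub, sub_mul, ← hS0, hmid0, zero_sub, neg_eq_zero, ← mul_assoc, mul_assoc _ E',
        hE'r', ← hrE', ← mul_assoc, hmid, hE'E']
  have hzH : InH H (1 + z) := by
    obtain ⟨a, ha, haw⟩ := G.root i w 1
    obtain ⟨b, hb, hbw⟩ := G.root j w' (-c⁻¹)
    refine ⟨g * a * g⁻¹ * b, mul_mem (mul_mem (mul_mem hg ha) (inv_mem hg)) hb, ?_⟩
    rw [Units.val_mul, Units.val_mul, Units.val_mul, haw, hbw, hz, one_smul, neg_smul, ← hE',
      show (g : R) * (1 + T.E i w w) * (↑g⁻¹ : R) = 1 + S by rw [mul_add, mul_one, add_mul, Units.mul_inv],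
      add_mul, one_mul, mul_add, mul_one, mul_neg]
    abel
  obtain ⟨vz, cz, -, -, hzphi⟩ := radical_two G Z h2 h6 hef' hzU hzH
  have hzm : z ∈ T.phi j := by
    rw [hzphi]
    exact add_mem (add_mem (T.E_mem_phi j _ _) (T.E_mem_phi j _ _)) ((T.phi j).smul_mem _ (T.E_mem_phi j e' e'))
  have hEm : E' ∈ T.phi j := (T.phi j).smul_mem _ (T.E_mem_phi j _ _)
  have e1 : S = z + E' + z * E' := by
    rw [hz, sub_mul, sub_mul, mul_assoc S E', hE'E', mul_zero]
    abel
  rw [e1]
  exact add_mem (add_mem hzm hEm) (T.mul_mem_phi hzm hEm)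

/-- **a member carrying one root element to another carries the factor** -/
theorem stab_two [Finite R] (G : Grp T H) (Z : Ctr T H) (h2 : (2 : F) = 0) (h6 : 4 < Module.finrank F A)
    (he : e ≠ 0) (he' : e' ≠ 0) (hg : g ∈ H) (hc : c ≠ 0)
    (hgn : (g : R) * T.E i e e * (↑g⁻¹ : R) = c • T.E j e' e') : Carries T g i j := by
  obtain ⟨f₀, hef⟩ := T.exists_partner he
  obtain ⟨f', hef'⟩ := T.exists_partner he'
  let P : Submodule F R :=
    { carrier := {x | (g : R) * x * (↑g⁻¹ : R) ∈ T.phi j}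
      add_mem' := fun {x y} hx hy => by
        simp only [Set.mem_setOf_eq] at *; rw [mul_add, add_mul]; exact add_mem hx hy
      zero_mem' := by simp
      smul_mem' := fun c x hx => by
        simp only [Set.mem_setOf_eq] at *; rw [mul_smul_comm, smul_mul_assoc]; exact Submodule.smul_mem _ c hx }
  have hall : ∀ u, T.E i u u ∈ P := by
    intro u
    obtain ⟨w, hw, hwq⟩ := exists_perp T ![e, f₀, u] (by omega)
    have hwu : T.f w u = 0 := hwq 2
    have hm := conj_perp_two G Z h2 h6 hef hef' hg hc hgn (hwq 0) (hwq 1)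
    obtain ⟨e'', he'', c'', hc'', hgw⟩ := IsPure.of_mem_phi (pure_of_phi_any G
      (IsRoot.conj (IsPure.isRoot (H := H) ⟨i, w, hw, 1, one_ne_zero, (one_smul F _).symm⟩) hg) hm) hm
    obtain ⟨f₁, hwf₁⟩ := T.exists_partner hw
    obtain ⟨f'', hef''⟩ := T.exists_partner he''
    obtain ⟨u₀, hu₀⟩ : ∃ u₀, u₀ = T.proj w f₁ u := ⟨_, rfl⟩
    have hu : u = T.f u f₁ • w + u₀ := by
      rw [hu₀, T.proj_apply, T.swap w u, hwu]
      simp
    rw [hu, T.sum_sq_expand]
    refine P.add_mem (P.add_mem (P.smul_mem _ hm) (P.smul_mem _ ?_)) ?_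
    · obtain ⟨v', d', -, -, h⟩ := conj_yv_two G Z h2 h6 hwf₁ hef'' hg hc'' hgw
        (hu₀ ▸ T.proj_e hwf₁ u : T.f u₀ w = 0) (hu₀ ▸ T.proj_f hwf₁ u)
      show (g : R) * _ * (↑g⁻¹ : R) ∈ T.phi j
      rw [h]
      exact add_mem (add_mem (T.E_mem_phi j _ _) (T.E_mem_phi j _ _)) ((T.phi j).smul_mem _ (T.E_mem_phi j _ _))
    · exact conj_perp_two G Z h2 h6 hwf₁ hef'' hg hc'' hgw (hu₀ ▸ T.proj_e hwf₁ u) (hu₀ ▸ T.proj_f hwf₁ u)
  have hE : ∀ u v, T.E i u v ∈ P := fun u v => by
    have h := Sys.E_mem P (i := i) (w := 1) (fun a => by rw [mul_one]; exact hall a) (fun a a' => by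
      rw [mul_one]
      show (g : R) * (T.E i a a * T.E i a' a') * (↑g⁻¹ : R) ∈ T.phi j
      have := T.mul_mem_phi (hall a : _ ∈ T.phi j) (hall a' : _ ∈ T.phi j)
      simpa [mul_assoc] using this) u v
    rwa [mul_one] at h
  exact fun y hy => (Submodule.span_le.2 (by rintro _ ⟨⟨u, v⟩, rfl⟩; exact hE u v) : T.phi i ≤ P) hy

end CfsgLib.MaxSub.SpPowO
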