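import Cfsg.Agent.Lib.MaxSub.SpPowO.CommuteTwo

/-!
Tensor powers of a symplectic space, characteristic two: a root element does not exchange two factors.
-/

set_option autoImplicit false
set_option linter.unusedSectionVars false

namespace CfsgLib.MaxSub.SpPowO

open CfsgLib.MaxSub.SpPow

variable {F A R ι κ : Type*} [Field F] [AddCommGroup A] [Module F A] [Ring R] [Algebra F R] [Fintype κ]
variable {T : Sys F A R ι κ} {H : Subgroup Rˣ}
variable [Fintype ι] [Finite R] [Nontrivial R]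

/-- **a root element does not exchange two factors** -/
theorem no_swap_two (h2 : (2 : F) = 0) (h6 : 4 < Module.finrank F A) {g : Rˣ} {x : R} (hx : IsRoot T H x)
    (hgx : (g : R) = 1 + x) {i j : ι} (hij : i ≠ j) (hcar : Carries T g i j) {e : A} (he : e ≠ 0) : False := by
  classical
  have nR : ∀ y : R, -y = y := neg_two h2
  have nF : ∀ y : F, -y = y := neg_two h2 (M := F)
  obtain ⟨f₀, hef⟩ := T.exists_partner he
  have hfe : T.f f₀ e = 1 := by rw [T.swap, hef, nF]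
  obtain ⟨w, hw0, hwp⟩ := exists_perp T ![e, f₀] (by omega)
  obtain ⟨w₁, hw₁⟩ := T.exists_partner hw0
  obtain ⟨w', hw'⟩ : ∃ w', w' = T.proj e f₀ w₁ := ⟨_, rfl⟩
  have hwe : T.f w e = 0 := hwp 0
  have hwf : T.f w f₀ = 0 := hwp 1
  have hw'e : T.f w' e = 0 := hw' ▸ T.proj_e hef w₁
  have hw'f : T.f w' f₀ = 0 := hw' ▸ T.proj_f hef w₁
  have hww' : T.f w w' = 1 := by rw [hw', T.proj_apply]; simp [hwe, hwf, hw₁]
  have hw'w : T.f w' w = 1 := by rw [T.swap, hww', nF]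
  have hgg : (g : R) * g = 1 := by
    rw [hgx, add_mul, one_mul, mul_add, mul_one, hx.sq, add_zero, add_assoc, add_self_two h2, add_zero]
  have hgi : (↑g⁻¹ : R) = g := Units.inv_eq_of_mul_eq_one_right hgg
  obtain ⟨K, hK⟩ : ∃ K : R → R, K = fun y => (g : R) * y * g := ⟨_, rfl⟩
  have hKm : ∀ a b, K a * K b = K (a * b) := fun a b => by
    simp only [hK, mul_assoc]
    rw [← mul_assoc (g : R) g, hgg, one_mul]
  have hKK : ∀ a, K (K a) = a := fun a => by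
    simp only [hK, mul_assoc, hgg, mul_one]
    rw [← mul_assoc, hgg, one_mul]
  have hKj : ∀ y ∈ T.phi i, K y ∈ T.phi j := fun y hy => by
    have := hcar y hy
    rw [hgi] at this
    rw [hK]; exact this
  have hK0 : K 0 = 0 := by simp [hK]
  have hK1 : ∀ y, K (1 - y) = 1 - K y := fun y => by simp [hK, mul_sub, sub_mul, hgg]
  have hswap : ∀ y ∈ T.phi i, ∀ z ∈ T.phi i, K z * y = y * K z := fun y hy z hz =>
    T.phi_comm_cen hy (Sys.cen_of_phi_ne hij (hKj z hz))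
  have hmul : ∀ y ∈ T.phi i, ∀ z ∈ T.phi i, ∀ y' ∈ T.phi i, ∀ z', (y * K z) * (y' * K z') = y * y' * K (z * z') := by
    intro y _ z hz y' hy' z'
    rw [mul_assoc y, ← mul_assoc (K z), hswap y' hy' z hz, mul_assoc y', hKm, mul_assoc]
  have hKp : ∀ y ∈ T.phi i, ∀ z ∈ T.phi i, K (y * K z) = z * K y := fun y hy z hz => by
    rw [← hKm, hKK, hswap z hz y hy]
  have hgz : ∀ z, (g : R) * z = K z * g := fun z => by simp only [hK, mul_assoc, hgg, mul_one]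
  -- the operators of the factor
  obtain ⟨P, hP⟩ : ∃ P, P = T.pI i e f₀ := ⟨_, rfl⟩
  obtain ⟨P₁, hP₁⟩ : ∃ P, P = T.E i f₀ e := ⟨_, rfl⟩
  obtain ⟨P₂, hP₂⟩ : ∃ P, P = T.E i w w' := ⟨_, rfl⟩
  obtain ⟨P', hP'⟩ : ∃ P', P' = 1 - P := ⟨_, rfl⟩
  obtain ⟨a, ha⟩ : ∃ a, a = T.E i e e := ⟨_, rfl⟩
  obtain ⟨b, hb⟩ : ∃ b, b = T.E i f₀ f₀ := ⟨_, rfl⟩
  obtain ⟨c, hc⟩ : ∃ c, c = T.E i e w' := ⟨_, rfl⟩
  obtain ⟨d, hd⟩ : ∃ d, d = T.E i w f₀ := ⟨_, rfl⟩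
  have mP : P ∈ T.phi i := hP ▸ T.pI_mem_phi i e f₀
  have mP₁ : P₁ ∈ T.phi i := hP₁ ▸ T.E_mem_phi i f₀ e
  have mP₂ : P₂ ∈ T.phi i := hP₂ ▸ T.E_mem_phi i w w'
  have mP' : P' ∈ T.phi i := hP' ▸ sub_mem (T.one_mem_phi i) mP
  have ma : a ∈ T.phi i := ha ▸ T.E_mem_phi i e e
  have mb : b ∈ T.phi i := hb ▸ T.E_mem_phi i f₀ f₀
  have mc : c ∈ T.phi i := hc ▸ T.E_mem_phi i e w'
  have md : d ∈ T.phi i := hd ▸ T.E_mem_phi i w f₀
  have PP : P * P = P := by rw [hP]; exact T.pI_mul_self hef i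
  have PP₁ : P * P₁ = 0 := by rw [hP, hP₁, T.pI_E, T.alt, zero_smul]
  have P₁P : P₁ * P = 0 := by rw [hP, hP₁, T.E_pI, T.alt, zero_smul]
  have PP₂ : P * P₂ = 0 := by rw [hP, hP₂, T.pI_E, hwf, zero_smul]
  have P₂P : P₂ * P = 0 := by rw [hP, hP₂, T.E_pI, T.perp_left hw'e, zero_smul]
  have P₁P₂ : P₁ * P₂ = 0 := by rw [hP₁, hP₂, T.mul, hwe, zero_smul]
  have PP' : P * P' = 0 := by rw [hP', mul_sub, mul_one, PP, sub_self]
  have P'P : P' * P = 0 := by rw [hP', sub_mul, one_mul, PP, sub_self]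
  have P'P' : P' * P' = P' := by
    conv_lhs => arg 2; rw [hP']
    rw [mul_sub, mul_one, P'P, sub_zero]
  have ab : a * b = P := by rw [ha, hb, hP, T.mul, hfe, one_smul]; rfl
  have ba : b * a = P₁ := by rw [ha, hb, hP₁, T.mul, hef, one_smul]
  have Pa : P * a = a := by rw [hP, ha, T.pI_E, hef, one_smul]
  have aP : a * P = 0 := by rw [hP, ha, T.E_pI, T.alt, zero_smul]
  have Pb : P * b = 0 := by rw [hP, hb, T.pI_E, T.alt, zero_smul]
  have bP : b * P = b := by rw [hP, hb, T.E_pI, hef, one_smul]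
  have cd : c * d = P := by rw [hc, hd, hP, T.mul, hww', one_smul]; rfl
  have dc : d * c = P₂ := by rw [hc, hd, hP₂, T.mul, hef, one_smul]
  have Pc : P * c = c := by rw [hP, hc, T.pI_E, hef, one_smul]
  have dP : d * P = d := by rw [hP, hd, T.E_pI, hef, one_smul]
  have P'c : P' * c = 0 := by rw [hP', sub_mul, one_mul, Pc, sub_self]
  have dP' : d * P' = 0 := by rw [hP', mul_sub, mul_one, dP, sub_self]
  -- the pieces
  obtain ⟨ε, hε⟩ : ∃ ε, ε = P * K P' + P₁ * K P₂ := ⟨_, rfl⟩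
  obtain ⟨U, hU⟩ : ∃ U, U = P * K P' + a * K c := ⟨_, rfl⟩
  obtain ⟨V, hV⟩ : ∃ V, V = P * K P' + b * K d := ⟨_, rfl⟩
  have hUV : U * V = P := by
    rw [hU, hV, add_mul, mul_add, mul_add, hmul P mP P' mP' P mP P', hmul P mP P' mP' b mb d,
      hmul a ma c mc P mP P', hmul a ma c mc b mb d, PP, P'P', Pb, aP, ab, cd, zero_mul, zero_mul, add_zero, zero_add,
      ← mul_add, hP', hK1, sub_add_cancel, mul_one]
  have hVU : V * U = ε := by
    rw [hU, hV, hε, add_mul, mul_add, mul_add, hmul P mP P' mP' P mP P', hmul P mP P' mP' a ma c,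
      hmul b mb d md P mP P', hmul b mb d md a ma c, PP, P'P', Pa, P'c, bP, dP', ba, dc, hK0, mul_zero, mul_zero,
      add_zero, zero_add]
  have hPin : ∀ y, P * (P * y) = P * y := fun y => by rw [← mul_assoc, PP]
  have hVP : V * P = V := by
    rw [hV, add_mul, mul_assoc P, hswap P mP P' mP', hPin, mul_assoc b, hswap P mP d md, ← mul_assoc b, bP]
  have hPU : P * U = U := by rw [hU, mul_add, hPin, ← mul_assoc P a, Pa]
  have hεε : ε * ε = ε := by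
    rw [← hVU, show V * U * (V * U) = V * (U * V) * U by simp only [mul_assoc], hUV, hVP]
  have hεg : ε * (g : R) * ε = 0 := by
    rw [mul_assoc, hgz, ← mul_assoc, hε]
    have e1 : (P * K P' + P₁ * K P₂) * K (P * K P' + P₁ * K P₂) = 0 := by
      have e2 : K (P * K P' + P₁ * K P₂) = P' * K P + P₂ * K P₁ := by
        rw [← hKp P mP P' mP', ← hKp P₁ mP₁ P₂ mP₂]
        simp [hK, mul_add, add_mul]
      rw [e2, add_mul, mul_add, mul_add, hmul P mP P' mP' P' mP' P, hmul P mP P' mP' P₂ mP₂ P₁,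
        hmul P₁ mP₁ P₂ mP₂ P' mP' P, hmul P₁ mP₁ P₂ mP₂ P₂ mP₂ P₁, PP', PP₂, P₂P, P₁P₂, hK0]
      simp
    rw [e1, zero_mul]
  have hx' : x = (g : R) - 1 := by rw [hgx, add_sub_cancel_left]
  have hεx : ε * x * ε = -ε := by rw [hx', mul_sub, mul_one, sub_mul, hεg, hεε, zero_sub]
  -- the sandwiches
  let f : {y : R // T.Cen i y} → Set.range (fun y : R => x * y * x) := fun y =>
    ⟨_, V * (P * y.1) * U, rfl⟩
  have hback : ∀ y : {y : R // T.Cen i y}, ε * (x * (V * (P * y.1) * U) * x) * ε = V * (P * y.1) * U := by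
    intro y
    have e1 : ε * V = V := by rw [← hVU, mul_assoc, hUV, hVP]
    have e2 : U * ε = U := by rw [← hVU, ← mul_assoc, hUV, hPU]
    have e3 : V * (P * y.1) * U = ε * (V * (P * y.1) * U) * ε := by
      rw [← mul_assoc ε, ← mul_assoc ε, e1, mul_assoc (V * _), e2]
    calc ε * (x * (V * (P * y.1) * U) * x) * ε = (ε * x * ε) * (V * (P * y.1) * U) * (ε * x * ε) := by
          conv_lhs => rw [e3]
          simp only [mul_assoc]
      _ = V * (P * y.1) * U := by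
          rw [hεx, neg_mul, mul_neg, neg_mul, neg_neg, ← e3]
  have hinj : Function.Injective f := fun y y' hyy => by
    have h1 := congrArg (fun t : Set.range _ => U * (ε * t.1 * ε) * V) hyy
    simp only [f, hback] at h1
    have e1 : ∀ z, T.Cen i z → U * (V * (P * z) * U) * V = P * z := fun z hz => by
      calc U * (V * (P * z) * U) * V = (U * V) * (P * z) * (U * V) := by simp only [mul_assoc]
        _ = P * z := by rw [hUV, hPin, mul_assoc, T.phi_comm_cen mP hz, hPin]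
    rw [e1 _ y.2, e1 _ y'.2, ← sub_eq_zero, ← mul_sub] at h1
    exact Subtype.ext (sub_eq_zero.1
      (T.E_mul_cancel (p := e) (q := f₀) he (by rintro rfl; simp at hef) (y.2.sub y'.2) (by rwa [hP] at h1)))
  have hbij := hinj.bijective_of_nat_card_le (card_sandwich hx i he)
  have hkey : ∀ Y, ε * (x * Y * x) * ε = 0 → x * Y * x = 0 := by
    intro Y hY
    obtain ⟨y, hy⟩ := hbij.2 ⟨x * Y * x, Y, rfl⟩
    have hy' : x * (V * (P * y.1) * U) * x = x * Y * x := congrArg Subtype.val hy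
    have h0 := hback y
    rw [hy', hY] at h0
    rw [← hy', ← h0, mul_zero, zero_mul]
  -- a further piece
  obtain ⟨Q₂, hQ₂⟩ : ∃ Q, Q = T.E i w w' := ⟨_, rfl⟩
  obtain ⟨Q₃, hQ₃⟩ : ∃ Q, Q = T.E i w' w := ⟨_, rfl⟩
  have mQ₂ : Q₂ ∈ T.phi i := hQ₂ ▸ T.E_mem_phi i w w'
  have mQ₃ : Q₃ ∈ T.phi i := hQ₃ ▸ T.E_mem_phi i w' w
  have q1 : P * Q₂ = 0 := by rw [hP, hQ₂, T.pI_E, hwf, zero_smul]
  have q2 : P₁ * Q₂ = 0 := by rw [hP₁, hQ₂, T.mul, hwe, zero_smul]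
  have q3 : P * Q₃ = 0 := by rw [hP, hQ₃, T.pI_E, hw'f, zero_smul]
  have q4 : P₁ * Q₃ = 0 := by rw [hP₁, hQ₃, T.mul, hw'e, zero_smul]
  have q7 : Q₂ * Q₃ = 0 := by rw [hQ₂, hQ₃, T.mul, T.alt, zero_smul]
  have q10 : Q₂ * Q₂ = Q₂ := by rw [hQ₂, T.mul, hww', one_smul]
  have q11 : Q₃ * Q₃ = Q₃ := by rw [hQ₃, T.mul, hw'w, one_smul]
  obtain ⟨ρ, hρ⟩ : ∃ ρ, ρ = Q₂ * K Q₃ := ⟨_, rfl⟩
  have ερ : ε * ρ = 0 := by
    rw [hε, hρ, add_mul, hmul P mP P' mP' Q₂ mQ₂ Q₃, hmul P₁ mP₁ P₂ mP₂ Q₂ mQ₂ Q₃, q1, q2]; simp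
  have εxρ : ε * x * ρ = 0 := by
    rw [hx', mul_sub, mul_one, sub_mul, ερ, sub_zero, mul_assoc, hgz, ← mul_assoc, hρ, hKp Q₂ mQ₂ Q₃ mQ₃, hε, add_mul,
      hmul P mP P' mP' Q₃ mQ₃ Q₂, hmul P₁ mP₁ P₂ mP₂ Q₃ mQ₃ Q₂, q3, q4]
    simp
  have ρρ : ρ * ρ = ρ := by rw [hρ, hmul Q₂ mQ₂ Q₃ mQ₃ Q₂ mQ₂ Q₃, q10, q11]
  have ρxρ : ρ * x * ρ = -ρ := by
    rw [hx', mul_sub, mul_one, sub_mul, ρρ, mul_assoc, hgz, ← mul_assoc, hρ, hKp Q₂ mQ₂ Q₃ mQ₃,
      hmul Q₂ mQ₂ Q₃ mQ₃ Q₃ mQ₃ Q₂, q7]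
    simp
  have e1 : x * ρ * x = 0 := hkey _ (by
    rw [show ε * (x * ρ * x) * ε = ε * x * ρ * (x * ε) by simp only [mul_assoc], εxρ, zero_mul])
  have e2 : ρ = 0 := by
    calc ρ = ρ * x * ρ * (x * ρ) := by
          rw [ρxρ, neg_mul, ← mul_assoc ρ x ρ, ρxρ, neg_neg]
      _ = ρ * (x * ρ * x) * ρ := by simp only [mul_assoc]
      _ = 0 := by rw [e1, mul_zero, zero_mul]
  have hw'0 : w' ≠ 0 := by intro h0; simp [h0] at hww'
  have hQ3ne : Q₃ ≠ 0 := hQ₃ ▸ T.E_ne_zero i hw'0 hw0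
  have hQ2ne : Q₂ ≠ 0 := hQ₂ ▸ T.E_ne_zero i hw0 hw'0
  have h0 := T.eq_zero_of_phi_mul mQ₂ hQ2ne (Sys.cen_of_phi_ne hij (hKj _ mQ₃)) (hρ ▸ e2)
  exact hQ3ne (by rw [← hKK Q₃, h0, hK0])

end CfsgLib.MaxSub.SpPowO
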