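import Cfsg.Agent.Lib.MaxSub.SpPowO.GoodTwo
import Cfsg.Agent.Lib.MaxSub.SuPow.TwoBase

/-!
Tensor powers of a symplectic space, characteristic two: pairs of root elements, root elements fixed by involutions,
root elements as products of six commuting ones.
-/

set_option autoImplicit false
set_option linter.unusedSectionVars false

namespace CfsgLib.MaxSub.SpPowO

open CfsgLib.MaxSub.SpPow

variable {F A R ι κ : Type*} [Field F] [AddCommGroup A] [Module F A] [Ring R] [Algebra F R] [Fintype κ]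
variable {T : Sys F A R ι κ} {H : Subgroup Rˣ}

theorem ad_mem_phi {i : ι} {x : R} (hx : x ∈ T.phi i) : T.ad x ∈ T.phi i := by
  induction hx using Submodule.span_induction with
  | mem x hx => obtain ⟨⟨a, b⟩, rfl⟩ := hx; rw [T.ad_E]; exact neg_mem (T.E_mem_phi i _ _)
  | zero => rw [map_zero]; exact zero_mem _
  | add a b _ _ ha hb => rw [map_add]; exact add_mem ha hb
  | smul c a _ ha => rw [map_smul]; exact (T.phi i).smul_mem c ha

theorem cen_ad {i : ι} {x : R} (hx : T.Cen i x) : T.Cen i (T.ad x) := fun u v => by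
  have h := congrArg T.ad (hx v u)
  rw [T.ad_mul, T.ad_mul, T.ad_E, neg_mul, mul_neg, neg_inj] at h
  exact h.symm

/-- two root elements of factors which do not commute -/
theorem pure_triple [Nontrivial R] {x y : R} (hx : IsPure T x) (hy : IsPure T y) (h : x * y ≠ y * x) :
    ∃ l : F, l ≠ 0 ∧ x * y * x = l • x := by
  obtain ⟨i, e, he, a, ha, rfl⟩ := hx
  obtain ⟨j, v, hv, b, hb, rfl⟩ := hy
  have hij : i = j := by
    by_contra hne
    exact h (by simp only [smul_mul_smul, T.comm i j hne, mul_comm a b])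
  subst hij
  refine ⟨a * b * (T.f v e * T.f e v), mul_ne_zero (mul_ne_zero ha hb) (mul_ne_zero ?_ ?_), ?_⟩
  · intro h0
    exact h (by simp only [smul_mul_smul, T.mul, h0, T.perp_left h0, zero_smul, smul_zero])
  · intro h0
    exact h (by simp only [smul_mul_smul, T.mul, h0, T.perp_left h0, zero_smul, smul_zero])
  · simp only [smul_mul_assoc, mul_smul_comm, T.mul, smul_smul]
    congr 1
    ring

variable [Finite F] [Finite R] [Nontrivial R]

/-- a member carrying a factor into itself is a product of an operator of the factor and one commuting with it -/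
theorem split_two (G : Grp T H) (h2 : (2 : F) = 0) {i : ι} {e f₀ : A} (hef : T.f e f₀ = 1) {g : Rˣ} (hg : g ∈ H)
    (hcar : Carries T g i i) : ∃ γ δ, γ ∈ T.phi i ∧ T.Cen i δ ∧ (g : R) = γ * δ := by
  classical
  have he : e ≠ 0 := by rintro rfl; simp at hef
  obtain ⟨a, ha⟩ : ∃ a : F, a ≠ 0 := ⟨1, one_ne_zero⟩
  have hp : IsPure T (a • T.E i e e) := ⟨i, e, he, a, ha, rfl⟩
  have hm := hcar _ ((T.phi i).smul_mem a (T.E_mem_phi i e e))
  obtain ⟨e', he', b, hb, hgn⟩ := IsPure.of_mem_phi (pure_of_phi_any G (hp.isRoot.conj hg) hm) hm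
  rw [mul_smul_comm, smul_mul_assoc, ← eq_inv_smul_iff₀ ha, smul_smul] at hgn
  obtain ⟨c₁, hc₁⟩ : ∃ c₁, c₁ = a⁻¹ * b := ⟨_, rfl⟩
  rw [← hc₁] at hgn
  obtain ⟨δ, hδd⟩ : ∃ δ, δ = T.blk i e' f₀ (g : R) := ⟨_, rfl⟩
  have hbase : ∀ u, T.blk i u e (g : R) = (c₁ * T.f e' u) • δ := by
    intro u
    have h0 : (g : R) * T.E i e e = c₁ • (T.E i e' e' * (g : R)) := by
      rw [← smul_mul_assoc, ← hgn, mul_assoc _ (↑g⁻¹ : R), Units.inv_mul, mul_one]
    have h1 := congrArg (T.blk i u f₀) h0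
    rw [T.blk_mul_E he, T.blk_smul, T.blk_E_left he, T.swap e f₀, hef, neg_two h2, one_smul, ← hδd, smul_smul] at h1
    exact h1
  have hline : ∀ u p, ∃ a : F, T.blk i u p (g : R) = a • δ := by
    intro u p
    have key : ∀ Φ ∈ T.phi i, ∃ a : F, T.blk i u e (Φ * (g : R)) = a • δ := by
      intro Φ hΦ
      induction hΦ using Submodule.span_induction with
      | mem x hx =>
        obtain ⟨⟨a, b⟩, rfl⟩ := hx
        exact ⟨T.f a u * (c₁ * T.f e' b), by rw [T.blk_E_left he, hbase, smul_smul]⟩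
      | zero => exact ⟨0, by rw [zero_mul, T.blk_zero, zero_smul]⟩
      | add a b _ _ ha hb =>
        obtain ⟨x, hx⟩ := ha
        obtain ⟨y, hy⟩ := hb
        exact ⟨x + y, by rw [add_mul, T.blk_add, hx, hy, add_smul]⟩
      | smul c a _ ha =>
        obtain ⟨x, hx⟩ := ha
        exact ⟨c * x, by rw [smul_mul_assoc, T.blk_smul, hx, smul_smul]⟩
    obtain ⟨a, ha⟩ := key _ (hcar _ (T.E_mem_phi i p f₀))
    rw [mul_assoc _ (↑g⁻¹ : R), Units.inv_mul, mul_one, T.blk_mul_E he, hef, one_smul] at ha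
    exact ⟨a, ha⟩
  choose s₀ hs₀ using hline
  refine ⟨∑ l, ∑ m, s₀ (T.b' l) (T.b m) • T.E i (T.b l) (T.b' m), δ,
    sum_mem fun l _ => sum_mem fun m _ => (T.phi i).smul_mem _ (T.E_mem_phi i _ _), hδd ▸ T.cen_blk _ _ _ _, ?_⟩
  calc (g : R) = (∑ l, T.E i (T.b l) (T.b' l)) * (g : R) * ∑ m, T.E i (T.b m) (T.b' m) := by
        rw [T.one, one_mul, mul_one]
    _ = _ := by
        rw [Finset.sum_mul, Finset.sum_mul, Finset.sum_mul]
        refine Finset.sum_congr rfl fun l _ => ?_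
        rw [Finset.mul_sum, Finset.sum_mul]
        refine Finset.sum_congr rfl fun m _ => ?_
        rw [← T.E_blk, hs₀, mul_smul_comm, smul_mul_assoc]

/-- an involution carrying a factor into itself commutes with a root element of the factor -/
theorem fixed_pure_two (G : Grp T H) (h2 : (2 : F) = 0) {i : ι} {e : A} (he : e ≠ 0) {g : Rˣ}
    (hg : g ∈ H) (hgg : (g : R) * g = 1) (hcar : Carries T g i i) :
    ∃ y, IsPure T y ∧ y ∈ T.phi i ∧ (g : R) * y = y * (g : R) := by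
  classical
  haveI : CharP F 2 := CharTwo.of_one_ne_zero_of_two_eq_zero one_ne_zero h2
  have two : ∀ y : R, y + y = 0 := fun y => by rw [← two_smul F y, h2, zero_smul]
  obtain ⟨f₀, hef⟩ := T.exists_partner he
  obtain ⟨a, ha⟩ : ∃ a : F, a ≠ 0 := ⟨1, one_ne_zero⟩
  have inj : ∀ a b : F, a • (1 : R) = b • 1 → a = b := fun a b h => smul_left_injective F one_ne_zero h
  obtain ⟨γ, δ, hγ, hδ, hgγ⟩ := split_two G h2 hef hg hcar
  choose t ht using T.blk_phi (T.mul_mem_phi hγ hγ) (i := i)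
  have key : ∀ u v, t u v • (δ * δ) = T.f v u • (1 : R) := fun u v => by
    have h1 := congrArg (T.blk i u v) hgg
    rw [T.blk_cen (T.cen_one i), hgγ, mul_assoc γ δ, ← mul_assoc δ γ, T.phi_comm_cen hγ hδ, mul_assoc γ δ δ,
      ← mul_assoc, T.blk_mul_cen (hδ.mul hδ), ht, smul_mul_assoc, one_mul] at h1
    exact h1
  have h0 := key f₀ e
  rw [hef, one_smul] at h0
  have ht0 : t f₀ e ≠ 0 := fun e1 => one_ne_zero (α := R) (by rw [← h0, e1, zero_smul])
  obtain ⟨ν, hν⟩ : ∃ ν : F, δ * δ = ν • (1 : R) := ⟨(t f₀ e)⁻¹, by rw [← h0, inv_smul_smul₀ ht0]⟩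
  obtain ⟨μ, hμ⟩ := FiniteField.isSquare_of_char_two (ringChar.eq F 2) ν
  have hμ0 : μ ≠ 0 := by
    rintro rfl
    rw [hν, hμ, mul_zero, zero_smul, smul_zero] at h0
    exact zero_ne_one h0
  obtain ⟨δ₁, hδ₁⟩ : ∃ δ₁, δ₁ = μ⁻¹ • δ := ⟨_, rfl⟩
  obtain ⟨γ₁, hγ₁⟩ : ∃ γ₁, γ₁ = μ • γ := ⟨_, rfl⟩
  have hδ₁c : T.Cen i δ₁ := hδ₁ ▸ hδ.smul _
  have hγ₁m : γ₁ ∈ T.phi i := hγ₁ ▸ (T.phi i).smul_mem _ hγ
  have hg₁ : (g : R) = γ₁ * δ₁ := by
    rw [hγ₁, hδ₁, smul_mul_smul, mul_inv_cancel₀ hμ0, one_smul, hgγ]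
  have hδsq : δ₁ * δ₁ = 1 := by
    rw [hδ₁, smul_mul_smul, hν, smul_smul, hμ]
    field_simp
    rw [one_smul]
  have hγsq : γ₁ * γ₁ = 1 := by
    have h1 := hgg
    rw [hg₁, mul_assoc γ₁ δ₁, ← mul_assoc δ₁ γ₁, T.phi_comm_cen hγ₁m hδ₁c, mul_assoc γ₁ δ₁ δ₁, hδsq, mul_one] at h1
    exact h1
  -- self-adjoint
  have hadg : T.ad (g : R) = g := by rw [← G.inv_eq hg, Units.inv_eq_of_mul_eq_one_right hgg]
  choose s hs using T.blk_phi hγ₁m (i := i)
  choose s' hs' using T.blk_phi (ad_mem_phi hγ₁m) (i := i)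
  have hprod : ∀ u v, s' u v • T.ad δ₁ = s u v • δ₁ := fun u v => by
    have h1 := congrArg (T.blk i u v) hadg
    rw [hg₁, T.ad_mul, T.phi_comm_cen (ad_mem_phi hγ₁m) (cen_ad hδ₁c), T.blk_mul_cen (cen_ad hδ₁c), T.blk_mul_cen hδ₁c,
      hs', hs, smul_mul_assoc, smul_mul_assoc, one_mul, one_mul] at h1
    exact h1
  have hadγsq : T.ad γ₁ * T.ad γ₁ = 1 := by rw [← T.ad_mul, hγsq, T.ad_one]
  obtain ⟨u₀, v₀, huv⟩ : ∃ u v, s' u v ≠ 0 := by
    by_contra hc
    simp only [not_exists, not_not] at hc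
    have : T.ad γ₁ = 0 := T.eq_zero_of_blk i fun u v => by rw [hs', hc, zero_smul]
    rw [this, mul_zero] at hadγsq
    exact zero_ne_one hadγsq
  obtain ⟨c, hc⟩ : ∃ c, T.ad δ₁ = c • δ₁ :=
    ⟨(s' u₀ v₀)⁻¹ * s u₀ v₀, by rw [← smul_smul, ← hprod, inv_smul_smul₀ huv]⟩
  have hc1 : c = 1 := by
    have h1 := congrArg T.ad hδsq
    rw [T.ad_mul, T.ad_one, hc, smul_mul_smul, hδsq] at h1
    have h1' : c * c = 1 := inj _ _ (by rw [h1, one_smul])
    rcases mul_self_eq_one_iff.1 h1' with e1 | e1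
    · exact e1
    · rw [e1]
      exact neg_eq_of_add_eq_zero_left (by rw [one_add_one_eq_two, h2])
  rw [hc1, one_smul] at hc
  have hadγ : T.ad γ₁ = γ₁ := by
    have h1 := hadg
    rw [hg₁, T.ad_mul, hc, T.phi_comm_cen (ad_mem_phi hγ₁m) hδ₁c] at h1
    have h2' := congrArg (fun x => x * δ₁) h1
    simpa [mul_assoc, hδsq] using h2'
  obtain ⟨φ, hφd⟩ : ∃ φ, φ = γ₁ + 1 := ⟨_, rfl⟩
  have hφ : φ ∈ T.phi i := hφd ▸ add_mem hγ₁m (T.one_mem_phi i)
  have hadφ : T.ad φ = φ := by rw [hφd, map_add, hadγ, T.ad_one]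
  have hφφ : φ * φ = 0 := by
    rw [hφd, mul_add, add_mul, mul_one, one_mul, hγsq, add_comm 1 γ₁, two]
  have hcomm : ∀ y ∈ T.phi i, φ * y = 0 → y * φ = 0 → (g : R) * y = y * (g : R) := by
    intro y hy h1 h1'
    have e1 : γ₁ * y = -y := by rw [hφd, add_mul, one_mul] at h1; exact eq_neg_of_add_eq_zero_left h1
    have e2 : y * γ₁ = -y := by rw [hφd, mul_add, mul_one] at h1'; exact eq_neg_of_add_eq_zero_left h1'
    rw [hg₁, mul_assoc, T.phi_comm_cen hy hδ₁c, ← mul_assoc, e1, ← mul_assoc, e2]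
  have hmem : ∀ v, a • T.E i v v ∈ T.phi i := fun v => (T.phi i).smul_mem a (T.E_mem_phi i v v)
  by_cases hφ0 : φ = 0
  · exact ⟨a • T.E i e e, ⟨i, e, he, a, ha, rfl⟩, hmem e,
      hcomm _ (hmem e) (by rw [hφ0, zero_mul]) (by rw [hφ0, mul_zero])⟩
  choose r hr using T.blk_phi hφ (i := i)
  obtain ⟨L, hL⟩ : ∃ L : A → A, ∀ p q, φ * T.E i p q = T.E i (L p) q := by
    refine ⟨fun p => ∑ l, r (T.b' l) p • T.b l, fun p q => ?_⟩
    calc φ * T.E i p q = (∑ l, T.E i (T.b l) (T.b' l)) * φ * T.E i p q := by rw [T.one, one_mul]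
      _ = _ := by
        rw [Finset.sum_mul, Finset.sum_mul, map_sum, LinearMap.sum_apply]
        refine Finset.sum_congr rfl fun l _ => ?_
        rw [← T.E_blk, hr, mul_smul_comm, mul_one, map_smul, LinearMap.smul_apply]
  obtain ⟨p, hp⟩ : ∃ p, L p ≠ 0 := by
    by_contra hall
    simp only [not_exists, not_not] at hall
    refine hφ0 ?_
    rw [← mul_one φ, ← T.one i, Finset.mul_sum]
    exact Finset.sum_eq_zero fun l _ => by rw [hL, hall, map_zero, LinearMap.zero_apply]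
  have hk : φ * T.E i (L p) (L p) = 0 := by rw [← hL, ← mul_assoc, hφφ, zero_mul]
  have hk' : T.E i (L p) (L p) * φ = 0 := by
    have := congrArg T.ad hk
    rwa [T.ad_mul, T.ad_E, hadφ, map_zero, neg_mul, neg_eq_zero] at this
  exact ⟨a • T.E i (L p) (L p), ⟨i, L p, hp, a, ha, rfl⟩, hmem _,
    hcomm _ (hmem _) (by rw [mul_smul_comm, hk, smul_zero]) (by rw [smul_mul_assoc, hk', smul_zero])⟩

/-- a root element is the product of six others commuting with it -/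
theorem exists_six (T : Sys F A R ι κ) (h2 : (2 : F) = 0) (h6 : 4 < Module.finrank F A) {i : ι} {x : R}
    (hx : IsPure T x) (hxi : x ∈ T.phi i) :
    ∃ y : Fin 6 → R, (∀ r, IsPure T (y r) ∧ y r ∈ T.phi i ∧ y r ≠ x ∧ y r * x = x * y r) ∧
      (1 + y 0) * (1 + y 1) * (1 + y 2) * (1 + y 3) * (1 + y 4) * (1 + y 5) = 1 + x := by
  haveI : CharP F 2 := CharTwo.of_one_ne_zero_of_two_eq_zero one_ne_zero h2
  obtain ⟨u, hu, a, ha, rfl⟩ := IsPure.of_mem_phi hx hxi
  obtain ⟨f₀, huf⟩ := T.exists_partner hu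
  obtain ⟨p, hp0, hp⟩ := exists_perp T ![u, f₀] (by omega)
  obtain ⟨p₁, hpp⟩ := T.exists_partner hp0
  obtain ⟨r, hr0, hr⟩ := exists_perp T ![u, f₀, p, p₁] (by omega)
  have hpu : T.f p u = 0 := hp 0
  have hru : T.f r u = 0 := hr 0
  have hrp : T.f r p = 0 := hr 2
  have hup : T.f u p = 0 := T.perp_left hpu
  have hur : T.f u r = 0 := T.perp_left hru
  have hpr : T.f p r = 0 := T.perp_left hrp
  have hpf : T.f p f₀ = 0 := hp 1
  have hrf : T.f r f₀ = 0 := hr 1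
  have hpr0 : p + r ≠ 0 := fun h0 => by
    have h1 := congrArg (fun y => T.f y p₁) h0
    simp [hpp, show T.f r p₁ = 0 from hr 3] at h1
  obtain ⟨v, hv⟩ : ∃ v : Fin 6 → A, v = ![p, r, p + r, u + p, u + r, u + (p + r)] := ⟨_, rfl⟩
  have hvv : ∀ s t, T.f (v s) (v t) = 0 := fun s t => by
    subst hv
    fin_cases s <;> fin_cases t <;> simp [T.alt, hpu, hru, hrp, hup, hur, hpr]
  have hvu : ∀ s, T.f (v s) u = 0 ∧ T.f u (v s) = 0 := fun s => by
    subst hv
    fin_cases s <;> simp [T.alt, hpu, hru, hup, hur]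
  have hne : ∀ s, v s ≠ 0 ∧ v s ≠ u := fun s => by
    have k : ∀ w : A, w ≠ 0 → T.f w f₀ = 0 → (w ≠ 0 ∧ w ≠ u) ∧ (u + w ≠ 0 ∧ u + w ≠ u) := fun w hw0 hwf =>
      ⟨⟨hw0, fun e => one_ne_zero (α := F) (by rw [← huf, ← e, hwf])⟩,
        fun e => one_ne_zero (α := F) (by
          simpa [huf, hwf] using congrArg (fun y => T.f y f₀) e), fun e => hw0 (by simpa using e)⟩
    have k1 := k p hp0 hpf
    have k2 := k r hr0 hrf
    have k3 := k (p + r) hpr0 (by simp [hpf, hrf])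
    subst hv
    fin_cases s
    exacts [k1.1, k2.1, k3.1, k1.2, k2.2, k3.2]
  have hsep : ∀ w : A, a • T.E i w w = a • T.E i u u → w = u := fun w e => by
    refine sub_eq_zero.1 (T.nondeg _ fun z => ?_)
    have h1 := congrArg (fun y => T.blk i z z (y * 1)) (smul_right_injective R ha e)
    simp only [T.blk_E_mul (T.cen_one i)] at h1
    have h1' := smul_left_injective F (one_ne_zero (α := R)) h1
    rw [T.swap w z, T.swap u z, neg_two h2, neg_two h2] at h1'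
    rw [map_sub, LinearMap.sub_apply, sub_eq_zero]
    exact CharTwo.sq_injective (by simpa only [sq] using h1')
  refine ⟨fun s => a • T.E i (v s) (v s), fun s => ⟨⟨i, v s, (hne s).1, a, ha, rfl⟩,
    (T.phi i).smul_mem _ (T.E_mem_phi i _ _), fun e => (hne s).2 (hsep _ e), ?_⟩, ?_⟩
  · simp only [smul_mul_assoc, mul_smul_comm, T.mul, (hvu s).1, (hvu s).2, zero_smul, smul_zero]
  have hmul : ∀ s t, (a • T.E i (v s) (v s)) * (a • T.E i (v t) (v t)) = 0 := fun s t => by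
    rw [smul_mul_smul_comm, T.mul, hvv, zero_smul, smul_zero]
  have e1 : (1 + a • T.E i (v 0) (v 0)) * (1 + a • T.E i (v 1) (v 1)) * (1 + a • T.E i (v 2) (v 2)) *
      (1 + a • T.E i (v 3) (v 3)) * (1 + a • T.E i (v 4) (v 4)) * (1 + a • T.E i (v 5) (v 5)) =
      1 + a • (T.E i (v 0) (v 0) + T.E i (v 1) (v 1) + T.E i (v 2) (v 2) + T.E i (v 3) (v 3) + T.E i (v 4) (v 4) +
        T.E i (v 5) (v 5)) := by
    simp only [add_mul, mul_add, one_mul, mul_one, hmul, add_zero, smul_add]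
    abel
  rw [e1]
  congr 2
  obtain ⟨X, hX⟩ : ∃ X, X = T.E i p p + T.E i p p + T.E i r r + T.E i r r + T.E i u u + T.E i p r + T.E i r p +
      T.E i u p + T.E i p u + T.E i u r + T.E i r u := ⟨_, rfl⟩
  have e2 : T.E i (v 0) (v 0) + T.E i (v 1) (v 1) + T.E i (v 2) (v 2) + T.E i (v 3) (v 3) + T.E i (v 4) (v 4) +
      T.E i (v 5) (v 5) = T.E i u u + (X + X) := by
    subst hv
    simp only [hX, Matrix.cons_val_zero, Matrix.cons_val_one, Matrix.cons_val, map_add, LinearMap.add_apply]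
    abel
  rw [e2, add_self_two h2, add_zero]

end CfsgLib.MaxSub.SpPowO
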